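import Groth.Agent.RelGCI94.Syntomic
import Groth.Agent.Var76.SmoothFibre
import Mathlib.RingTheory.Smooth.StandardSmoothOfFree

/-! Standard smooth algebras are relative global complete intersections. -/

set_option autoImplicit false
universe u

open MvPolynomial TensorProduct

namespace Groth.Agent.RelGCI94

/-- A standard smooth algebra over a field has dimension at most its relative dimension. -/
theorem ringKrullDim_le_of_standardSmooth (κ C : Type u) [Field κ] [CommRing C] [Algebra κ C] (d : ℕ)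
    [Algebra.IsStandardSmoothOfRelativeDimension d κ C] : ringKrullDim C ≤ (d : WithBot ℕ∞) := by
  have : Algebra.IsStandardSmooth κ C := Algebra.IsStandardSmoothOfRelativeDimension.isStandardSmooth d
  rw [ringKrullDim, Order.krullDim]
  refine iSup_le fun l => ?_
  obtain ⟨p, hp, hle⟩ := Ideal.exists_minimalPrimes_le (I := (⊥ : Ideal C)) (J := l.head.asIdeal) bot_le
  have : p.IsPrime := hp.1.1
  have hdim : ringKrullDim (C ⧸ p) = (d : WithBot ℕ∞) := by
    rw [E4O.ringKrullDim_eq_trdeg κ (C ⧸ p),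
      Var76.SmoothFibre.trdeg_quotient_minimal κ C d p fun q hq hqp =>
        le_antisymm hqp (hp.2 ⟨hq, bot_le⟩ hqp), Cardinal.toNat_natCast]
  rw [ringKrullDim_quotient] at hdim
  let l' : LTSeries (PrimeSpectrum.zeroLocus (p : Set C)) :=
    { length := l.length
      toFun := fun i => ⟨l i, fun x hx => (show l.head.asIdeal ≤ (l i).asIdeal from l.head_le i) (hle hx)⟩
      step := fun i => l.step i }
  exact hdim ▸ Order.LTSeries.length_le_krullDim l'

theorem span_relation_eq {R S : Type u} [CommRing R] [CommRing S] [Algebra R S] {n c : ℕ}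
    (P : Algebra.Presentation R S (Fin n) (Fin c)) :
    Ideal.span (Set.range P.relation) = RingHom.ker (aeval (R := R) P.val : MvPolynomial (Fin n) R →ₐ[R] S) := by
  rw [P.span_range_relation_eq_ker, P.toGenerators.ker_eq_ker_aeval_val]

theorem aeval_surjective {R S : Type u} [CommRing R] [CommRing S] [Algebra R S] {n c : ℕ}
    (P : Algebra.Presentation R S (Fin n) (Fin c)) :
    Function.Surjective (aeval (R := R) P.val : MvPolynomial (Fin n) R →ₐ[R] S) :=
  fun x => ⟨P.σ x, P.aeval_val_σ x⟩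

/-- the isomorphism given by a presentation -/
noncomputable def presEquiv {R S : Type u} [CommRing R] [CommRing S] [Algebra R S] {n c : ℕ}
    (P : Algebra.Presentation R S (Fin n) (Fin c)) : Synt.RelGCIRing R n c P.relation ≃ₐ[R] S :=
  AlgEquiv.trans (Ideal.quotientEquivAlgOfEq R (span_relation_eq P))
    (Ideal.quotientKerAlgEquivOfSurjective (aeval_surjective P))

theorem isRelGCI_relation {R S : Type u} [CommRing R] [CommRing S] [Algebra R S] {n c : ℕ}
    (P : Algebra.SubmersivePresentation R S (Fin n) (Fin c)) : Synt.IsRelGCI R n c P.relation := by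
  intro p hp
  have hcn : c ≤ n := by
    simpa using P.toPreSubmersivePresentation.card_relations_le_card_vars_of_isFinite
  refine ⟨hcn, le_antisymm ?_ (le_dim_fiber R n c P.relation p)⟩
  have : Algebra.IsStandardSmoothOfRelativeDimension (n - c) R S :=
    P.isStandardSmoothOfRelativeDimension (by simp [Algebra.Presentation.dimension])
  let e' : p.asIdeal.ResidueField ⊗[R] Synt.RelGCIRing R n c P.relation ≃ₐ[p.asIdeal.ResidueField]
      p.asIdeal.ResidueField ⊗[R] S := Algebra.TensorProduct.congr AlgEquiv.refl (presEquiv P.toPresentation)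
  exact (ringKrullDim_eq_of_ringEquiv e'.toRingEquiv).le.trans
    (ringKrullDim_le_of_standardSmooth p.asIdeal.ResidueField _ (n - c))

theorem exists_relGCI_of_standardSmooth (R S : Type u) [CommRing R] [CommRing S] [Algebra R S]
    [Algebra.IsStandardSmooth R S] : ∃ (n c : ℕ) (F : Fin c → MvPolynomial (Fin n) R),
      Synt.IsRelGCI R n c F ∧ Nonempty (S ≃ₐ[R] Synt.RelGCIRing R n c F) := by
  obtain ⟨ι, σ, _, _, ⟨P₀⟩⟩ := ‹Algebra.IsStandardSmooth R S›
  let := Fintype.ofFinite ι
  let := Fintype.ofFinite σ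
  obtain ⟨n, ⟨eι⟩⟩ : ∃ n, Nonempty (Fin n ≃ ι) := ⟨_, ⟨(Fintype.equivFin ι).symm⟩⟩
  obtain ⟨c, ⟨eσ⟩⟩ : ∃ c, Nonempty (Fin c ≃ σ) := ⟨_, ⟨(Fintype.equivFin σ).symm⟩⟩
  exact ⟨n, c, _, isRelGCI_relation (P₀.reindex eι eσ), ⟨(presEquiv (P₀.reindex eι eσ).toPresentation).symm⟩⟩

theorem isLCIOver_congr {k S T : Type u} [Field k] [CommRing S] [Algebra k S] [CommRing T] [Algebra k T]
    (e : S ≃ₐ[k] T) (h : Synt.IsLCIOver k S) : Synt.IsLCIOver k T := by
  have := h.1
  refine ⟨Algebra.FiniteType.equiv inferInstance e, fun P => ?_⟩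
  obtain ⟨g, hg, hG⟩ := h.2 (PrimeSpectrum.comap e.toRingEquiv.toRingHom P)
  exact ⟨e g, hg, isGlobalCI_congr (awayCongr e g) hG⟩

theorem isSyntomic_congr {R S T : Type u} [CommRing R] [CommRing S] [Algebra R S] [CommRing T] [Algebra R T]
    (e : S ≃ₐ[R] T) (h : Synt.IsSyntomic R S) : Synt.IsSyntomic R T := by
  obtain ⟨h1, h2, h3⟩ := h
  exact ⟨Module.Flat.of_linearEquiv e.symm.toLinearEquiv, Algebra.FinitePresentation.equiv e,
    fun p => isLCIOver_congr (Algebra.TensorProduct.congr AlgEquiv.refl e) (h3 p)⟩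

theorem isSyntomic_of_standardSmooth (R S : Type u) [CommRing R] [CommRing S] [Algebra R S]
    [Algebra.IsStandardSmooth R S] : Synt.IsSyntomic R S := by
  obtain ⟨n, c, F, hF, ⟨e⟩⟩ := exists_relGCI_of_standardSmooth R S
  exact isSyntomic_congr e.symm (isSyntomic_relGCIRing R n c F hF)

end Groth.Agent.RelGCI94
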