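import Groth.Agent.RelGCI94.SyntLocal
import Mathlib.RingTheory.MvPolynomial.Localization
import Mathlib.AlgebraicGeometry.Morphisms.RingHomProperties

/-! Being syntomic is a local property of ring maps. -/

set_option autoImplicit false
universe u

open MvPolynomial TensorProduct

namespace Groth.Agent.RelGCI94

section BaseChange

variable {R : Type u} [CommRing R]

/-- base change of a presentation -/
noncomputable def baseChangePresEquiv (A : Type u) [CommRing A] [Algebra R A] {n c : ℕ}
    (F : Fin c → MvPolynomial (Fin n) R) :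
    A ⊗[R] Synt.RelGCIRing R n c F ≃ₐ[A]
      Synt.RelGCIRing A n c (fun i => MvPolynomial.map (algebraMap R A) (F i)) :=
  (Algebra.TensorProduct.tensorQuotientEquiv (R := R) A (MvPolynomial (Fin n) R) A (Ideal.span (Set.range F))).trans
    (Ideal.quotientEquivAlg _ _ (algebraTensorAlgEquiv (σ := Fin n) R A) (by
      rw [Ideal.map_span, Ideal.map_span, ← Set.range_comp, ← Set.range_comp]
      exact congrArg Ideal.span (congrArg Set.range (funext fun i => by simp))))

theorem isRelGCI_of_span_eq {n c : ℕ} (F G : Fin c → MvPolynomial (Fin n) R)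
    (h : Ideal.span (Set.range F) = Ideal.span (Set.range G)) (hF : Synt.IsRelGCI R n c F) :
    Synt.IsRelGCI R n c G := by
  unfold Synt.IsRelGCI Synt.RelGCIRing at hF ⊢
  revert hF
  generalize Ideal.span (Set.range F) = I at h
  subst h
  exact id

variable (r : R) (R' : Type u) [CommRing R'] [Algebra R R'] [IsLocalization.Away r R']

include r in
/-- A presentation over a localisation of the base gives one over the base. -/
theorem exists_relGCI_restrict {n c : ℕ} (F : Fin c → MvPolynomial (Fin n) R') (hF : Synt.IsRelGCI R' n c F) :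
    ∃ G : Fin (c + 1) → MvPolynomial (Fin (n + 1)) R, Synt.IsRelGCI R (n + 1) (c + 1) G ∧
      Nonempty (Synt.RelGCIRing R' n c F ≃ₐ[R] Synt.RelGCIRing R (n + 1) (c + 1) G) := by
  classical
  let : Algebra (MvPolynomial (Fin n) R) (MvPolynomial (Fin n) R') := MvPolynomial.algebraMvPolynomial
  let M := Submonoid.map (C (σ := Fin n)) (Submonoid.powers r)
  have := MvPolynomial.isLocalization (σ := Fin n) (Submonoid.powers r) R'
  choose x hx using fun i => IsLocalization.surj M (F i)
  let F₀ : Fin c → MvPolynomial (Fin n) R := fun i => (x i).1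
  have hspan : Ideal.span (Set.range F) =
      Ideal.span (Set.range fun i => MvPolynomial.map (algebraMap R R') (F₀ i)) := by
    refine le_antisymm (Ideal.span_le.2 ?_) (Ideal.span_le.2 ?_) <;> rintro _ ⟨i, rfl⟩
    · refine (Ideal.mul_unit_mem_iff_mem _ (IsLocalization.map_units (MvPolynomial (Fin n) R') (x i).2)).1 ?_
      rw [hx i]
      exact Ideal.subset_span ⟨i, rfl⟩
    · show algebraMap _ _ (x i).1 ∈ _
      rw [← hx i]
      exact Ideal.mul_mem_right _ _ (Ideal.subset_span ⟨i, rfl⟩)
  have hmap : Synt.IsRelGCI R' n c fun i => MvPolynomial.map (algebraMap R R') (F₀ i) :=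
    isRelGCI_of_span_eq _ _ hspan hF
  refine ⟨F' R n c F₀ (C r), (isRelGCI_away_iff F₀ (C r)).2 fun Q _ hQ hr => ?_, ⟨?_⟩⟩
  · have hdis : Disjoint (M : Set (MvPolynomial (Fin n) R)) (Q : Set (MvPolynomial (Fin n) R)) := by
      refine Set.disjoint_left.2 ?_
      rintro _ ⟨_, ⟨m, rfl⟩, rfl⟩ hm
      exact hr (Ideal.IsPrime.mem_of_pow_mem inferInstance m (by simpa using hm))
    let Q' := Q.map (algebraMap _ (MvPolynomial (Fin n) R'))
    have hQ' : Q'.IsPrime := IsLocalization.isPrime_of_isPrime_disjoint M _ Q inferInstance hdis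
    have hc : Q'.comap (algebraMap _ (MvPolynomial (Fin n) R')) = Q :=
      IsLocalization.comap_map_of_isPrime_disjoint M _ inferInstance hdis
    have h1 := (regAt_map_iff (A := R') F₀ Q').1
      ((isRelGCI_iff_regAt _).1 hmap Q' fun i => Ideal.mem_map_of_mem (algebraMap _ (MvPolynomial (Fin n) R')) (hQ i))
    have hc' : Q'.comap (MvPolynomial.map (algebraMap R R')) = Q := hc
    convert h1 using 2
    exact hc'.symm
  · let S₀ := Synt.RelGCIRing R n c F₀
    let e : R' ⊗[R] S₀ ≃ₐ[R] Synt.RelGCIRing R' n c F :=
      ((baseChangePresEquiv R' F₀).trans (Ideal.quotientEquivAlgOfEq R' hspan.symm)).restrictScalars R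
    have : IsLocalization.Away (algebraMap R S₀ r) (S₀ ⊗[R] R') := by
      show IsLocalization (Submonoid.powers (algebraMap R S₀ r)) _
      rw [← Submonoid.map_powers]
      exact IsLocalization.tensor R' (Submonoid.powers r)
    let e₂ : (S₀ ⊗[R] R') ≃ₐ[R] Localization.Away (algebraMap R S₀ r) :=
      (IsLocalization.algEquiv (Submonoid.powers (algebraMap R S₀ r)) (S₀ ⊗[R] R') (Localization.Away (algebraMap R S₀ r))).restrictScalars R
    exact (e.symm.trans (Algebra.TensorProduct.comm R R' S₀)).trans (e₂.trans (awayEquiv R n c F₀ (C r)))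

end BaseChange

variable {R S : Type u} [CommRing R] [CommRing S] [Algebra R S]

theorem exists_relGCI_at (h : Synt.IsSyntomic R S) (q : Ideal S) [q.IsPrime] :
    ∃ a : S, a ∉ q ∧ ∃ (n c : ℕ) (F : Fin c → MvPolynomial (Fin n) R), Synt.IsRelGCI R n c F ∧
      Nonempty (Localization.Away a ≃ₐ[R] Synt.RelGCIRing R n c F) :=
  exists_relGCI_of_syntomic_away q 1 ((Ideal.ne_top_iff_one q).1 (Ideal.IsPrime.ne_top inferInstance))
    (isSyntomic_congr ((IsLocalization.atOne S (Localization.Away (1 : S))).restrictScalars R) h)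

/-- localisations of syntomic algebras are syntomic -/
theorem isSyntomic_of_away (h : Synt.IsSyntomic R S) (s : S) (T : Type u) [CommRing T] [Algebra R T]
    [Algebra S T] [IsScalarTower R S T] [IsLocalization.Away s T] : Synt.IsSyntomic R T := by
  refine isSyntomic_congr ((IsLocalization.algEquiv (Submonoid.powers s) (Localization.Away s) T).restrictScalars R)
    (isSyntomic_of_local fun P => ?_)
  obtain ⟨a, ha, n, c, F, hF, ⟨e⟩⟩ :=
    exists_relGCI_at h (P.asIdeal.comap (algebraMap S (Localization.Away s)))
  obtain ⟨F₁, hF₁, ⟨e₁⟩⟩ := exists_relGCI_away R n c F hF e (algebraMap S (Localization.Away a) s)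
  exact ⟨algebraMap S _ a, ha,
    isSyntomic_away_of_relGCI _ F₁ hF₁ ((awayAwayEquiv R s a).trans e₁)⟩

/-- syntomic over a localisation of the base implies syntomic over the base -/
theorem isSyntomic_restrict (r : R) (R' : Type u) [CommRing R'] [Algebra R R'] [IsLocalization.Away r R']
    [Algebra R' S] [IsScalarTower R R' S] (h : Synt.IsSyntomic R' S) : Synt.IsSyntomic R S := by
  refine isSyntomic_of_local fun q => ?_
  obtain ⟨a, ha, n, c, F, hF, ⟨e⟩⟩ := exists_relGCI_at h q.asIdeal
  obtain ⟨G, hG, ⟨e'⟩⟩ := exists_relGCI_restrict r R' F hF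
  exact ⟨a, ha, isSyntomic_away_of_relGCI a G hG ((e.restrictScalars R).trans e')⟩

/-- a syntomic algebra over which `r` is invertible is syntomic over the localisation -/
theorem isSyntomic_extend (r : R) (R' : Type u) [CommRing R'] [Algebra R R'] [IsLocalization.Away r R']
    [Algebra R' S] [IsScalarTower R R' S] (h : Synt.IsSyntomic R S) : Synt.IsSyntomic R' S := by
  refine isSyntomic_of_local fun q => ?_
  obtain ⟨a, ha, n, c, F, hF, ⟨e⟩⟩ := exists_relGCI_at h q.asIdeal
  let e' : Localization.Away a ≃ₐ[R'] Synt.RelGCIRing R' n c (fun i => MvPolynomial.map (algebraMap R R') (F i)) :=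
    ((IsLocalization.algebraLid (Submonoid.powers r) R' (Localization.Away a)).symm.trans
      (Algebra.TensorProduct.congr AlgEquiv.refl e)).trans (baseChangePresEquiv R' F)
  exact ⟨a, ha, isSyntomic_away_of_relGCI a _ (isRelGCI_map F hF) e'⟩

/-- the property of ring maps -/
def SyntomicHom : ∀ {R S : Type u} [CommRing R] [CommRing S], (R →+* S) → Prop :=
  fun {R S} _ _ f => @Synt.IsSyntomic R _ S _ f.toAlgebra

theorem syntomicHom_algebraMap : SyntomicHom (algebraMap R S) ↔ Synt.IsSyntomic R S := by
  unfold SyntomicHom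
  rw [show (algebraMap R S).toAlgebra = ‹Algebra R S› from Algebra.algebra_ext _ _ fun _ => rfl]

theorem syntomicHom_source :
    RingHom.StableUnderCompositionWithLocalizationAwaySource (fun {R S} [CommRing R] [CommRing S] => @SyntomicHom R S _ _) := by
  intro R R' T _ _ _ _ r _ f hf
  let := f.toAlgebra
  let := (f.comp (algebraMap R R')).toAlgebra
  have : IsScalarTower R R' T := IsScalarTower.of_algebraMap_eq' rfl
  exact isSyntomic_restrict r R' hf

theorem syntomicHom_target :
    RingHom.StableUnderCompositionWithLocalizationAwayTarget (fun {R S} [CommRing R] [CommRing S] => @SyntomicHom R S _ _) := by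
  intro R S T _ _ _ _ s _ f hf
  let := f.toAlgebra
  let := ((algebraMap S T).comp f).toAlgebra
  have : IsScalarTower R S T := IsScalarTower.of_algebraMap_eq' rfl
  exact isSyntomic_of_away hf s T

theorem syntomicHom_spanTarget :
    RingHom.OfLocalizationSpanTarget (fun {R S} [CommRing R] [CommRing S] => @SyntomicHom R S _ _) := by
  intro R S _ _ f s hs h
  let := f.toAlgebra
  show Synt.IsSyntomic R S
  refine isSyntomic_of_local fun q => ?_
  obtain ⟨g, hg, hgq⟩ : ∃ g ∈ s, g ∉ q.asIdeal := by
    by_contra hne
    push Not at hne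
    exact q.2.ne_top (top_le_iff.1 (hs ▸ Ideal.span_le.2 hne))
  refine ⟨g, hgq, syntomicHom_algebraMap.1 ?_⟩
  rw [IsScalarTower.algebraMap_eq R S (Localization.Away g)]
  exact h ⟨g, hg⟩

theorem syntomicHom_isLocal :
    RingHom.PropertyIsLocal (fun {R S} [CommRing R] [CommRing S] => @SyntomicHom R S _ _) where
  localizationAwayPreserves := by
    intro R S _ _ f r R' S' _ _ _ _ _ _ hf
    let := f.toAlgebra
    let := (IsLocalization.Away.map R' S' f r).toAlgebra
    let := ((algebraMap S S').comp f).toAlgebra
    have : IsScalarTower R S S' := IsScalarTower.of_algebraMap_eq' rfl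
    have : IsScalarTower R R' S' := IsScalarTower.of_algebraMap_eq' (by
      show (algebraMap S S').comp f = (IsLocalization.Away.map R' S' f r).comp (algebraMap R R')
      unfold IsLocalization.Away.map
      rw [IsLocalization.map_comp])
    exact isSyntomic_extend r R' (isSyntomic_of_away hf (f r) S')
  ofLocalizationSpanTarget := syntomicHom_spanTarget
  ofLocalizationSpan := syntomicHom_spanTarget.ofLocalizationSpan syntomicHom_source
  StableUnderCompositionWithLocalizationAwayTarget := syntomicHom_target

open AlgebraicGeometry CategoryTheory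

/-- syntomic morphisms, as a morphism property -/
def syntomicProp : MorphismProperty Scheme.{u} :=
  affineLocally (fun {R S} [CommRing R] [CommRing S] => @SyntomicHom R S _ _)

instance : HasRingHomProperty syntomicProp.{u} (fun {R S} [CommRing R] [CommRing S] => @SyntomicHom R S _ _) where
  isLocal_ringHomProperty := syntomicHom_isLocal
  eq_affineLocally' := rfl

theorem isSyntomicMor_iff {X Y : Scheme.{u}} (f : X ⟶ Y) : Synt.IsSyntomicMor f ↔ syntomicProp f := by
  rw [HasRingHomProperty.iff_exists_appLE (P := syntomicProp.{u}) syntomicHom_source]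
  constructor
  · intro h x
    obtain ⟨U, V, e, hx, hs⟩ := h x
    exact ⟨V, U, hx, e, hs⟩
  · intro h x
    obtain ⟨V, U, hx, e, hs⟩ := h x
    exact ⟨U, V, e, hx, hs⟩

end Groth.Agent.RelGCI94
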