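import Groth.Agent.RelGCI94.FlatQuot
import Groth.Agent.FlatMor67.LCIRegular

/-! Relative global complete intersections are Koszul regular. -/

set_option autoImplicit false
universe u

open MvPolynomial TensorProduct IsLocalRing

namespace Groth.Agent.RelGCI94

open Koszul19 LCI19

/-- Koszul regularity is local. -/
theorem kR_of_forall_maximal {A : Type u} [CommRing A] (l : List A)
    (h : ∀ M : Ideal A, ∀ [M.IsMaximal], KR (l.map (algebraMap A (Localization.AtPrime M)))) : KR l := by
  intro q hq p j hp hj z hz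
  by_contra hne
  push Not at hne
  have hbc : bdyColon (Koszul.koszul A l) p q z ≠ ⊤ := fun ht => by
    obtain ⟨w, hw⟩ := mem_bdyColon.1 ((Ideal.eq_top_iff_one _).1 ht)
    exact hne w (by simpa using hw)
  obtain ⟨M, hM, hle⟩ := Ideal.exists_le_maximal _ hbc
  let L := Localization.AtPrime M
  let d := bcKoszul (B := L) l
  obtain ⟨W, hW⟩ := h M q hq p j hp hj (d.e q ((1 : L) ⊗ₜ[A] z)) (by
    rw [← d.comm q j hj, LinearMap.baseChange_tmul, hz, TensorProduct.tmul_zero, map_zero])
  have h1 : (1 : L) ∈ bdyColon _ p q (d.e q ((1 : L) ⊗ₜ[A] z)) := mem_bdyColon.2 ⟨W, by rw [one_smul, hW]⟩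
  rw [bdyColon_map L d p q hp] at h1
  refine (maximalIdeal.isMaximal L).ne_top ((Ideal.eq_top_iff_one _).2 ?_)
  rw [← Localization.AtPrime.map_eq_maximalIdeal]
  exact Ideal.map_mono hle h1

variable (R : Type u) [CommRing R] (n c : ℕ) (F : Fin c → MvPolynomial (Fin n) R)

/-- The relations form a Koszul-regular sequence. -/
theorem kR_ofFn (h : Synt.IsRelGCI R n c F) : KR (List.ofFn F) := by
  refine kR_of_forall_maximal _ fun M hM => ?_
  by_cases hQ : ∀ i, F i ∈ M
  · rw [List.map_ofFn]
    exact kR_of_isWeaklyRegular _ (isWeaklyRegular_atPrime R n c F h M hQ)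
  · push Not at hQ
    obtain ⟨i, hi⟩ := hQ
    exact fun q _ => ex_of_mem_unit (Ideal.eq_top_of_isUnit_mem _
      (Ideal.subset_span (List.mem_map_of_mem (List.mem_ofFn.2 ⟨i, rfl⟩)))
      (IsLocalization.map_units (Localization.AtPrime M) (⟨F i, hi⟩ : M.primeCompl))) q

theorem exists_basis_cotangent (h : Synt.IsRelGCI R n c F) :
    ∃ b : Module.Basis (Fin c) (Synt.RelGCIRing R n c F) (Ideal.span (Set.range F)).Cotangent,
      ∀ i, b i = (Ideal.span (Set.range F)).toCotangent ⟨F i, Ideal.subset_span (Set.mem_range_self i)⟩ :=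
  Koszul19.exists_basis (fun i => (⟨F i, Ideal.subset_span (Set.mem_range_self i)⟩ : Ideal.span (Set.range F)))
    (kR_ofFn R n c F h) rfl

end Groth.Agent.RelGCI94
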