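import Groth.Agent.RelGCI94.SyntLocal
import Groth.Agent.RelGCI94.Koszul
import Groth.Agent.LCI19.Local
import Groth.Agent.LCI19.Presentation
import Groth.Agent.LCI19.ConormalLoc
import Groth.Agent.Gor18.LCIRing

/-! Syntomic algebras are the flat local complete intersections. -/

set_option autoImplicit false
universe u

open MvPolynomial TensorProduct IsLocalRing

namespace Groth.Agent.RelGCI94

variable {R : Type u} [CommRing R] {n : ℕ}

/-- Equations regular on all nearby fibres, cutting out `I` after inverting `G`. -/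
theorem exists_equations_nhd (I : Ideal (MvPolynomial (Fin n) R)) (hfg : I.FG)
    (Q : Ideal (MvPolynomial (Fin n) R)) [Q.IsPrime] (hI : I ≤ Q)
    [Module.Flat R (Localization.AtPrime Q ⧸ I.map (algebraMap _ (Localization.AtPrime Q)))]
    (h : CountCI (I.map (LCI19.toFib Q))) :
    ∃ G ∉ Q, ∃ (r : ℕ) (F : Fin r → MvPolynomial (Fin n) R), (∀ i, F i ∈ I) ∧
      (∀ (Q₁ : Ideal (MvPolynomial (Fin n) R)) [Q₁.IsPrime], (∀ i, F i ∈ Q₁) → G ∉ Q₁ → RegAt F Q₁) ∧
      ∀ y ∈ I, G * y ∈ Ideal.span (Set.range F) := by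
  classical
  obtain ⟨r, F, hFI, hspan, hreg⟩ := exists_lift_equations Q I hI h
  have hFQ : ∀ i, F i ∈ Q := fun i => hI (hFI i)
  let L := Localization.AtPrime Q
  let J := Ideal.span (Set.range F)
  have hJI : J ≤ I := Ideal.span_le.2 (by rintro _ ⟨i, rfl⟩; exact hFI i)
  obtain ⟨χ, hχs, hχ, hker⟩ := exists_toFibLoc Q
  have hle : I.map (algebraMap _ L) ≤ J.map (algebraMap _ L) := by
    refine Submodule.le_of_le_smul_of_le_jacobson_bot (hfg.map _) (maximalIdeal_le_jacobson _) fun x hx => ?_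
    have h1 : χ x ∈ (J.map (algebraMap _ L)).map χ := by
      have h0 : χ x ∈ (I.map (algebraMap _ L)).map χ := Ideal.mem_map_of_mem _ hx
      rw [Ideal.map_map, show χ.comp (algebraMap _ L) = LCI19.toFib Q from RingHom.ext hχ] at h0 ⊢
      rw [Ideal.map_span, ← Set.range_comp, hspan]
      exact h0
    obtain ⟨j, hj, hje⟩ := (Ideal.mem_map_iff_of_surjective χ hχs).1 h1
    have hxj : x - j ∈ (LCI19.fibBase Q).map (algebraMap R L) := by
      rw [← hker, RingHom.mem_ker, map_sub, hje, sub_self]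
    have h2 := mem_smul_of_flat_quotient (I.map (algebraMap _ L)) (LCI19.fibBase Q) (x - j)
      (sub_mem hx (Ideal.map_mono hJI hj)) hxj
    rw [← add_sub_cancel j x]
    refine add_mem (Submodule.mem_sup_left hj) (Submodule.mem_sup_right ?_)
    rw [smul_eq_mul]
    refine Ideal.mul_mono_left ?_ h2
    rw [Ideal.map_le_iff_le_comap]
    intro a ha
    rw [Ideal.mem_comap, IsScalarTower.algebraMap_apply R (MvPolynomial (Fin n) R) L,
      IsLocalization.AtPrime.to_map_mem_maximal_iff L Q]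
    exact ha
  obtain ⟨T, hT⟩ := hfg
  have hloc : ∀ i : T, ∃ t ∉ Q, t * i.1 ∈ J := fun i => by
    have h1 : algebraMap _ L i.1 ∈ J.map (algebraMap _ L) :=
      hle (Ideal.mem_map_of_mem _ (hT ▸ Ideal.subset_span i.2))
    obtain ⟨t, ht, hti⟩ := (IsLocalization.algebraMap_mem_map_algebraMap_iff Q.primeCompl L _ _).1 h1
    exact ⟨t, ht, hti⟩
  choose t ht hti using hloc
  obtain ⟨-, g, hg, hF'⟩ := exists_isRelGCI_away F Q hFQ hreg
  refine ⟨g * ∏ i, t i, fun hm => ?_, r, F, hFI, fun Q₁ _ hQ₁ hG₁ => ?_, fun y hy => ?_⟩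
  · rcases Ideal.IsPrime.mem_or_mem inferInstance hm with h1 | h1
    · exact hg h1
    · obtain ⟨i, -, hi⟩ := Ideal.IsPrime.prod_mem_iff.1 h1
      exact ht i hi
  · exact (isRelGCI_away_iff F g).1 hF' Q₁ hQ₁ fun hm => hG₁ (Ideal.mul_mem_right _ _ hm)
  · have : y ∈ J.colon {g * ∏ i, t i} := by
      rw [← hT] at hy
      refine (Ideal.span_le.2 ?_) hy
      intro z hz
      rw [SetLike.mem_coe, Submodule.mem_colon_singleton, smul_eq_mul, mul_comm]
      obtain ⟨w, hw⟩ : t ⟨z, hz⟩ ∣ g * ∏ i, t i :=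
        dvd_mul_of_dvd_right (Finset.dvd_prod_of_mem _ (Finset.mem_univ _)) g
      rw [hw, mul_comm (t ⟨z, hz⟩) w, mul_assoc]
      exact Ideal.mul_mem_left _ _ (hti ⟨z, hz⟩)
    rw [Submodule.mem_colon_singleton, smul_eq_mul, mul_comm] at this
    exact this

/-- Equations regular on nearby fibres are Koszul regular after inverting `G`. -/
theorem kR_away_of_regAt {r : ℕ} (F : Fin r → MvPolynomial (Fin n) R) (G : MvPolynomial (Fin n) R)
    (h : ∀ (Q₁ : Ideal (MvPolynomial (Fin n) R)) [Q₁.IsPrime], (∀ i, F i ∈ Q₁) → G ∉ Q₁ → RegAt F Q₁) :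
    Koszul19.KR (List.ofFn fun i => algebraMap _ (Localization.Away G) (F i)) := by
  let P := MvPolynomial (Fin n) R
  let C := Localization.Away G
  refine kR_of_forall_maximal _ fun M hM => ?_
  let Q₁ := M.comap (algebraMap P C)
  by_cases hQ : ∀ i, F i ∈ Q₁
  · have hG : G ∉ Q₁ := fun hm => hM.ne_top
      (Ideal.eq_top_of_isUnit_mem M hm (IsLocalization.Away.algebraMap_isUnit G))
    let e : Localization.AtPrime Q₁ ≃ₐ[P] Localization.AtPrime M :=
      (IsLocalization.localizationLocalizationAtPrimeIsoLocalization (Submonoid.powers G) M).restrictScalars P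
    let := e.toRingEquiv.toRingHom.toAlgebra
    have : Module.Flat (Localization.AtPrime Q₁) (Localization.AtPrime M) :=
      Module.Flat.of_linearEquiv (R := Localization.AtPrime Q₁) (M := Localization.AtPrime Q₁)
        (LinearEquiv.ofBijective (Algebra.linearMap (Localization.AtPrime Q₁) (Localization.AtPrime M))
          e.bijective).symm
    have h0 := (Koszul19.kR_of_isWeaklyRegular _ (LCI19.isWeaklyRegular_of_fib Q₁ F (h Q₁ hQ hG))).map
      (B := Localization.AtPrime M)
    rw [List.map_ofFn] at h0 ⊢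
    convert h0 using 2
    funext i
    show algebraMap C (Localization.AtPrime M) (algebraMap P C (F i)) = e (algebraMap P _ (F i))
    rw [e.commutes, ← IsScalarTower.algebraMap_apply]
  · push Not at hQ
    obtain ⟨i, hi⟩ := hQ
    exact fun q _ => LCI19.ex_of_mem_unit (Ideal.eq_top_of_isUnit_mem _
      (Ideal.subset_span (List.mem_map_of_mem (List.mem_ofFn.2 ⟨i, rfl⟩)))
      (IsLocalization.map_units (Localization.AtPrime M) (⟨algebraMap P C (F i), hi⟩ : M.primeCompl))) q

theorem flat_atPrime_quotient (I : Ideal (MvPolynomial (Fin n) R)) (Q : Ideal (MvPolynomial (Fin n) R)) [Q.IsPrime]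
    (hI : I ≤ Q) [Module.Flat R (MvPolynomial (Fin n) R ⧸ I)] :
    Module.Flat R (Localization.AtPrime Q ⧸ I.map (algebraMap _ (Localization.AtPrime Q))) := by
  let qI : Ideal (MvPolynomial (Fin n) R ⧸ I) := Q.map (Ideal.Quotient.mk I)
  have : qI.IsPrime := Ideal.map_isPrime_of_surjective Ideal.Quotient.mk_surjective (by rwa [Ideal.mk_ker])
  have hQ : qI.comap (Ideal.Quotient.mk I) = Q := by
    rw [Ideal.comap_map_of_surjective _ Ideal.Quotient.mk_surjective, ← RingHom.ker_eq_comap_bot, Ideal.mk_ker,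
      sup_eq_left.2 hI]
  have := Gor18.isLocalization_atPrime_quotient Q (Localization.AtPrime Q) I qI hQ
  have : IsScalarTower R (MvPolynomial (Fin n) R ⧸ I)
      (Localization.AtPrime Q ⧸ I.map (algebraMap _ (Localization.AtPrime Q))) :=
    IsScalarTower.of_algebraMap_eq (R := R) (S := MvPolynomial (Fin n) R ⧸ I)
      (A := Localization.AtPrime Q ⧸ I.map (algebraMap _ (Localization.AtPrime Q))) fun r => rfl
  have : Module.Flat (MvPolynomial (Fin n) R ⧸ I) (Localization.AtPrime qI) := IsLocalization.flat _ qI.primeCompl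
  have : Module.Flat R (Localization.AtPrime qI) := Module.Flat.trans R (MvPolynomial (Fin n) R ⧸ I) _
  exact Module.Flat.of_linearEquiv ((IsLocalization.algEquiv qI.primeCompl
    (Localization.AtPrime Q ⧸ I.map (algebraMap _ (Localization.AtPrime Q)))
    (Localization.AtPrime qI)).restrictScalars R).toLinearEquiv

theorem krAt_of_countCI (I : Ideal (MvPolynomial (Fin n) R)) (hfg : I.FG)
    (Q : Ideal (MvPolynomial (Fin n) R)) [Q.IsPrime] (hI : I ≤ Q)
    [Module.Flat R (Localization.AtPrime Q ⧸ I.map (algebraMap _ (Localization.AtPrime Q)))]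
    (h : CountCI (I.map (LCI19.toFib Q))) : LCI19.KRAt I Q := by
  obtain ⟨G, hG, r, F, hFI, hreg, hgen⟩ := exists_equations_nhd I hfg Q hI h
  let C := Localization.Away G
  refine ⟨G, hG, List.ofFn F, fun x hx => ?_, ?_, ?_⟩
  · obtain ⟨i, rfl⟩ := List.mem_ofFn.1 hx
    exact hFI i
  · rw [List.map_ofFn]
    exact kR_away_of_regAt F G hreg
  · rw [← Ideal.map_ofList]
    refine le_antisymm (Ideal.map_le_iff_le_comap.2 fun y hy => ?_) (Ideal.map_mono ?_)
    · rw [Ideal.mem_comap]
      refine (Ideal.unit_mul_mem_iff_mem _ (IsLocalization.Away.algebraMap_isUnit (S := C) G)).1 ?_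
      rw [← map_mul]
      refine Ideal.mem_map_of_mem _ ?_
      have := hgen y hy
      rwa [Ideal.ofList, show {x | x ∈ List.ofFn F} = Set.range F from Set.ext fun x => List.mem_ofFn]
    · refine Ideal.span_le.2 fun x hx => ?_
      obtain ⟨i, rfl⟩ := List.mem_ofFn.1 (show x ∈ List.ofFn F from hx)
      exact hFI i

theorem countCI_of_krAt (I : Ideal (MvPolynomial (Fin n) R))
    (Q : Ideal (MvPolynomial (Fin n) R)) [Q.IsPrime] (hI : I ≤ Q)
    [Module.Flat R (Localization.AtPrime Q ⧸ I.map (algebraMap _ (Localization.AtPrime Q)))]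
    (h : LCI19.KRAt I Q) : CountCI (I.map (LCI19.toFib Q)) := by
  obtain ⟨g, hg, hgen⟩ := h
  let L := Localization.AtPrime Q
  obtain ⟨l, hl, hkr, hIl⟩ := Gor18.krGen_atPrime_of_away (p := Q) hg hgen
  obtain ⟨χ, hχs, hχ, hker⟩ := exists_toFibLoc Q
  let := χ.toAlgebra
  let p := LCI19.fibBase Q
  have : Module.Flat R L := flat_atPrime R n Q
  have : Module.Flat R (L ⧸ Ideal.ofList (l.map (algebraMap _ L))) :=
    Module.Flat.of_linearEquiv (Ideal.quotientEquivAlgOfEq R hIl.symm).toLinearEquiv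
  have hK : (p • ⊤ : Submodule R L).restrictScalars R = (RingHom.ker χ).restrictScalars R := by
    rw [hker, Ideal.smul_top_eq_map]
    rfl
  let e₁ : (L ⊗[R] (R ⧸ p)) ≃ₗ[L] L ⧸ p.map (algebraMap R L) :=
    (Algebra.TensorProduct.quotIdealMapEquivTensorQuot L p).toLinearEquiv.symm
  let e₂ : (L ⧸ p.map (algebraMap R L)) ≃ₗ[L] LCI19.Fib Q :=
    (Submodule.quotEquivOfEq _ _ (show p.map (algebraMap R L) = LinearMap.ker (Algebra.linearMap L (LCI19.Fib Q)) from
      hker.symm)).trans (LinearMap.quotKerEquivOfSurjective _ hχs)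
  have key := Gor18.kR_map_of_flat_quotient (A := R) (l.map (algebraMap _ L)) hkr (R ⧸ p) (LCI19.Fib Q)
    (e₁.trans e₂).symm
  have hmap : (l.map (algebraMap _ L)).map (algebraMap L (LCI19.Fib Q)) = l.map (LCI19.toFib Q) := by
    rw [List.map_map]
    exact List.map_congr_left fun x _ => hχ x
  rw [hmap] at key
  let lF := l.map (LCI19.toFib Q)
  have hm : ∀ y ∈ lF, y ∈ maximalIdeal (LCI19.Fib Q) := fun y hy => by
    obtain ⟨x, hx, rfl⟩ := List.mem_map.1 hy
    exact fun hu => (LCI19.isUnit_toFib_iff Q x).1 hu (hI (hl x hx))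
  have hwr := Gor18.isWeaklyRegular_reverse_of_kR (A := LCI19.Fib Q)
    (fun y hy => by rw [IsLocalRing.jacobson_eq_maximalIdeal _ bot_ne_top]; exact hm y hy) key
  have h1 := countCI_of_isRegular (fun y hy => hm y (List.mem_reverse.1 hy)) hwr
  rw [Koszul19.ofList_perm (List.reverse_perm lF)] at h1
  have h2 : I.map (LCI19.toFib Q) = Ideal.ofList lF := by
    rw [show LCI19.toFib Q = χ.comp (algebraMap _ L) from (RingHom.ext hχ).symm, ← Ideal.map_map, hIl,
      Ideal.map_ofList]
    show Ideal.ofList ((l.map (algebraMap _ L)).map (algebraMap L (LCI19.Fib Q))) = _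
    rw [hmap]
  rwa [h2]

/-- **Syntomic = flat and local complete intersection.** -/
theorem isSyntomic_iff_flat_and_isLCI {S : Type u} [CommRing S] [Algebra R S] :
    Synt.IsSyntomic R S ↔ Module.Flat R S ∧ LCI.IsLCI R S := by
  constructor
  · intro h
    have := h.1
    have := h.2.1
    obtain ⟨n, π, hπ, hfg⟩ := Algebra.FinitePresentation.out (R := R) (A := S)
    refine ⟨h.1, inferInstance, n, π, hπ, (LCI19.isKoszulRegularIdeal_iff _).2 fun Q hIQ => ?_⟩
    let I : Ideal (MvPolynomial (Fin n) R) := RingHom.ker π.toRingHom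
    let eT : (MvPolynomial (Fin n) R ⧸ I) ≃ₐ[R] S := Ideal.quotientKerAlgEquivOfSurjective hπ
    have : Module.Flat R (MvPolynomial (Fin n) R ⧸ I) := Module.Flat.of_linearEquiv eT.toLinearEquiv
    have := flat_atPrime_quotient I Q.asIdeal hIQ
    let q : Ideal S := Q.asIdeal.map π.toRingHom
    have : q.IsPrime := Ideal.map_isPrime_of_surjective hπ hIQ
    have hq : q.comap π.toRingHom = Q.asIdeal := by
      rw [Ideal.comap_map_of_surjective π.toRingHom hπ, ← RingHom.ker_eq_comap_bot, sup_eq_left.2 hIQ]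
    let p : Ideal R := q.comap (algebraMap R S)
    let z : PrimeSpectrum (p.Fiber S) := (PrimeSpectrum.preimageOrderIsoFiber R S ⟨p, inferInstance⟩)
      ⟨⟨q, inferInstance⟩, rfl⟩
    have hz : z.asIdeal.comap (Algebra.TensorProduct.includeRight.toRingHom : S →+* p.Fiber S) = q :=
      congrArg PrimeSpectrum.asIdeal
        (congrArg Subtype.val ((PrimeSpectrum.preimageOrderIsoFiber R S ⟨p, inferInstance⟩).symm_apply_apply
          ⟨⟨q, inferInstance⟩, rfl⟩))
    exact krAt_of_countCI I hfg Q.asIdeal hIQ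
      ((isCIOver_fibre_iff I eT p z.asIdeal Q.asIdeal fun y => by rw [hz, ← hq]; rfl).1
        (isCIOver_fibre_of_isSyntomic h p z.asIdeal))
  · rintro ⟨hflat, -, n, π, hπ, hK⟩
    have hfg := LCI19.isKoszulRegularIdeal_fg hK
    have hFP : Algebra.FinitePresentation R S := Algebra.FinitePresentation.of_surjective hπ hfg
    refine ⟨hflat, hFP, fun p => isLCIOver_iff.2 ⟨inferInstance, fun z => ?_⟩⟩
    let I : Ideal (MvPolynomial (Fin n) R) := RingHom.ker π.toRingHom
    let eT : (MvPolynomial (Fin n) R ⧸ I) ≃ₐ[R] S := Ideal.quotientKerAlgEquivOfSurjective hπ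
    let Q : Ideal (MvPolynomial (Fin n) R) := (z.asIdeal.comap
      (Algebra.TensorProduct.includeRight.toRingHom : S →+* p.asIdeal.Fiber S)).comap π.toRingHom
    have hIQ : I ≤ Q := fun y hy => by
      show π y ∈ z.asIdeal.comap _
      rw [show π y = 0 from hy]; exact zero_mem _
    have : Module.Flat R (MvPolynomial (Fin n) R ⧸ I) := Module.Flat.of_linearEquiv eT.toLinearEquiv
    have := flat_atPrime_quotient I Q hIQ
    exact (isCIOver_fibre_iff I eT p.asIdeal z.asIdeal Q fun y => Iff.rfl).2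
      (countCI_of_krAt I Q hIQ ((LCI19.isKoszulRegularIdeal_iff _).1 hK ⟨Q, inferInstance⟩ hIQ))

end Groth.Agent.RelGCI94
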