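import Groth.Agent.RelGCI94.FibreRing
import Groth.Agent.RelGCI94.SmoothSyn

/-! Syntomic algebras, locally. -/

set_option autoImplicit false
universe u

open MvPolynomial TensorProduct IsLocalRing

namespace Groth.Agent.RelGCI94

section Field

variable {k A : Type u} [Field k] [CommRing A] [Algebra k A]

/-- A complete intersection point has a global complete intersection neighbourhood. -/
theorem exists_globalCI_nhd [Algebra.FiniteType k A] (q : Ideal A) [q.IsPrime]
    (h : Synt.IsCIOver k (Localization.AtPrime q)) :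
    ∃ g ∉ q, Synt.IsGlobalCI k (Localization.Away g) := by
  obtain ⟨n, π, hπ⟩ := Algebra.FiniteType.iff_quotient_mvPolynomial''.1 ‹Algebra.FiniteType k A›
  let I : Ideal (MvPolynomial (Fin n) k) := RingHom.ker π.toRingHom
  let e : (MvPolynomial (Fin n) k ⧸ I) ≃ₐ[k] A := Ideal.quotientKerAlgEquivOfSurjective hπ
  let qI : Ideal (MvPolynomial (Fin n) k ⧸ I) := q.comap e.toAlgHom
  have : qI.IsPrime := Ideal.IsPrime.comap _
  let Q := qI.comap (Ideal.Quotient.mk I)
  have hIQ : I ≤ Q := fun y hy => by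
    show Ideal.Quotient.mk I y ∈ qI
    rw [Ideal.Quotient.eq_zero_iff_mem.2 hy]
    exact zero_mem _
  have h1 := (isCIOver_atPrime_iff I qI).1 (isCIOver_congr (Localization.localAlgEquiv qI q e rfl).symm h)
  obtain ⟨χ, hχs, hχ, hker⟩ := exists_toFibLoc Q
  have hbot : LCI19.fibBase Q = ⊥ :=
    (Ideal.eq_bot_or_top _).resolve_right (Ideal.IsPrime.ne_top inferInstance)
  have hχi : Function.Injective χ := by
    rw [RingHom.injective_iff_ker_eq_bot, hker, hbot, Ideal.map_bot]
  have hmap : (I.map (LCI19.toFib Q)).comap χ = I.map (algebraMap _ (Localization.AtPrime Q)) := by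
    rw [← show χ.comp (algebraMap _ (Localization.AtPrime Q)) = LCI19.toFib Q from RingHom.ext hχ, ← Ideal.map_map,
      Ideal.comap_map_of_bijective χ ⟨hχi, hχs⟩]
  have hne : I.map (LCI19.toFib Q) ≠ ⊤ := fun ht => by
    rw [ht, Ideal.comap_top] at hmap
    exact (maximalIdeal.isMaximal (Localization.AtPrime Q)).ne_top (top_le_iff.1 (hmap.le.trans
      (Ideal.map_le_iff_le_comap.2 fun y hy =>
        (IsLocalization.AtPrime.to_map_mem_maximal_iff (Localization.AtPrime Q) Q y).2 (hIQ hy))))
  have h2 : CountCI (I.map (LCI19.toFib Q)) :=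
    (countCI_comap_iff _ rfl χ hχs _ hne).1 (by rw [hmap]; exact h1)
  have : Module.Flat k (Localization.AtPrime Q ⧸ I.map (algebraMap _ (Localization.AtPrime Q))) :=
    Module.Flat.of_free
  obtain ⟨G, hG, n', c', F', hF', ⟨eG⟩⟩ :=
    exists_relGCI_nhd_pres I (IsNoetherian.noetherian I) Q hIQ h2
  exact ⟨e (Ideal.Quotient.mk I G), hG,
    isGlobalCI_iff.2 ⟨n', c', F', hF', ⟨(awayCongr e (Ideal.Quotient.mk I G)).symm.trans eG⟩⟩⟩

theorem isCIOver_atPrime_of_isLCIOver (h : Synt.IsLCIOver k A) (q : Ideal A) [q.IsPrime] :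
    Synt.IsCIOver k (Localization.AtPrime q) := by
  obtain ⟨g, hg, hG⟩ := h.2 ⟨q, inferInstance⟩
  obtain ⟨Q₁, hQ₁, -, ⟨e⟩⟩ := exists_prime_away (k := k) g q hg
  exact isCIOver_congr e.symm (isCIOver_atPrime_of_isGlobalCI hG Q₁)

/-- Local complete intersections are recognised in their local rings. -/
theorem isLCIOver_iff : Synt.IsLCIOver k A ↔ Algebra.FiniteType k A ∧
    ∀ q : PrimeSpectrum A, Synt.IsCIOver k (Localization.AtPrime q.asIdeal) :=
  ⟨fun h => ⟨h.1, fun q => isCIOver_atPrime_of_isLCIOver h q.asIdeal⟩,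
    fun h => ⟨h.1, fun q => haveI := h.1; exists_globalCI_nhd q.asIdeal (h.2 q)⟩⟩

end Field

variable {R S : Type u} [CommRing R] [CommRing S] [Algebra R S]

/-- The fibre local rings of a syntomic algebra. -/
theorem isCIOver_fibre_of_isSyntomic (h : Synt.IsSyntomic R S) (p : Ideal R) [p.IsPrime] (Q : Ideal (p.Fiber S))
    [Q.IsPrime] : Synt.IsCIOver p.ResidueField (Localization.AtPrime Q) :=
  isCIOver_atPrime_of_isLCIOver (h.2.2 ⟨p, inferInstance⟩) Q

/-- A syntomic neighbourhood gives the pointwise conditions. -/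
theorem point_of_syntomic_away (p : Ideal R) [p.IsPrime] (Q : Ideal (p.Fiber S)) [Q.IsPrime]
    (q : Ideal S) [q.IsPrime] (hQ : Q.comap (Algebra.TensorProduct.includeRight.toRingHom : S →+* p.Fiber S) = q)
    (g : S) (hg : g ∉ q) (h : Synt.IsSyntomic R (Localization.Away g)) :
    Module.Flat R (Localization.AtPrime q) ∧ Synt.IsCIOver p.ResidueField (Localization.AtPrime Q) := by
  subst hQ
  obtain ⟨QT, hQTp, hcomap, ⟨e₁⟩⟩ := exists_fibre_away g p Q hg
  refine ⟨?_, isCIOver_congr e₁.symm (isCIOver_fibre_of_isSyntomic h p QT)⟩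
  let qT : Ideal (Localization.Away g) := QT.comap (Algebra.TensorProduct.includeRight.toRingHom :
    Localization.Away g →+* p.Fiber (Localization.Away g))
  have : Module.Flat R (Localization.Away g) := h.1
  have : Module.Flat (Localization.Away g) (Localization.AtPrime qT) := IsLocalization.flat _ qT.primeCompl
  have : Module.Flat R (Localization.AtPrime qT) := Module.Flat.trans R (Localization.Away g) _
  obtain ⟨εS⟩ := atPrime_away_equiv (k := R) g qT
  have hq : qT.comap (algebraMap S (Localization.Away g)) =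
      Q.comap Algebra.TensorProduct.includeRight.toRingHom := hcomap
  let εq : Localization.AtPrime (qT.comap (algebraMap S (Localization.Away g))) ≃ₐ[R]
      Localization.AtPrime (Q.comap (Algebra.TensorProduct.includeRight.toRingHom : S →+* p.Fiber S)) :=
    Localization.localAlgEquiv _ _ AlgEquiv.refl (hq.trans (Ideal.comap_id _).symm)
  exact Module.Flat.of_linearEquiv (εS.symm.trans εq).symm.toLinearEquiv

theorem exists_relGCI_of_syntomic_away (q : Ideal S) [q.IsPrime] (g : S) (hg : g ∉ q)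
    (h : Synt.IsSyntomic R (Localization.Away g)) :
    ∃ a : S, a ∉ q ∧ ∃ (n c : ℕ) (F : Fin c → MvPolynomial (Fin n) R), Synt.IsRelGCI R n c F ∧
      Nonempty (Localization.Away a ≃ₐ[R] Synt.RelGCIRing R n c F) := by
  let p : PrimeSpectrum R := PrimeSpectrum.comap (algebraMap R S) ⟨q, inferInstance⟩
  let Q := PrimeSpectrum.preimageEquivFiber R S p ⟨⟨q, inferInstance⟩, rfl⟩
  have hQ : Q.asIdeal.comap (Algebra.TensorProduct.includeRight.toRingHom : S →+* p.asIdeal.Fiber S) = q :=
    congrArg PrimeSpectrum.asIdeal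
      (congrArg Subtype.val ((PrimeSpectrum.preimageEquivFiber R S p).symm_apply_apply ⟨⟨q, inferInstance⟩, rfl⟩))
  obtain ⟨h1, h2⟩ := point_of_syntomic_away p.asIdeal Q.asIdeal q hQ g hg h
  have := h.2.1
  exact exists_relGCI_nhd q p.asIdeal Q.asIdeal hQ g hg h2

theorem isSyntomic_away_of_relGCI (a : S) {n c : ℕ} (F : Fin c → MvPolynomial (Fin n) R)
    (hF : Synt.IsRelGCI R n c F) (e : Localization.Away a ≃ₐ[R] Synt.RelGCIRing R n c F) :
    Synt.IsSyntomic R (Localization.Away a) :=
  isSyntomic_congr e.symm (isSyntomic_relGCIRing R n c F hF)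

/-- Being syntomic is local on the source. -/
theorem isSyntomic_of_local (h : ∀ q : PrimeSpectrum S, ∃ g ∉ q.asIdeal, Synt.IsSyntomic R (Localization.Away g)) :
    Synt.IsSyntomic R S := by
  choose g hg hs using h
  have hspan : Ideal.span (Set.range g) = ⊤ := by
    by_contra hne
    obtain ⟨M, hM, hle⟩ := Ideal.exists_le_maximal _ hne
    exact hg ⟨M, hM.isPrime⟩ (hle (Ideal.subset_span (Set.mem_range_self _)))
  have hfp : Algebra.FinitePresentation R S := Algebra.FinitePresentation.of_span_eq_top_target (Set.range g) hspan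
    (by rintro _ ⟨q, rfl⟩; exact (hs q).2.1)
  have hflat : Module.Flat R S := by
    refine Module.flat_of_isLocalized_maximal (R := R) S _ (fun P _ => Localization.AtPrime P)
      (fun P _ => Algebra.linearMap _ _) fun P _ => ?_
    let p : PrimeSpectrum R := PrimeSpectrum.comap (algebraMap R S) ⟨P, inferInstance⟩
    let Q := PrimeSpectrum.preimageEquivFiber R S p ⟨⟨P, inferInstance⟩, rfl⟩
    have hQ : Q.asIdeal.comap (Algebra.TensorProduct.includeRight.toRingHom : S →+* p.asIdeal.Fiber S) = P :=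
      congrArg PrimeSpectrum.asIdeal
        (congrArg Subtype.val ((PrimeSpectrum.preimageEquivFiber R S p).symm_apply_apply ⟨⟨P, inferInstance⟩, rfl⟩))
    exact (point_of_syntomic_away p.asIdeal Q.asIdeal P hQ (g ⟨P, inferInstance⟩) (hg ⟨P, inferInstance⟩) (hs _)).1
  refine ⟨hflat, hfp, fun p => isLCIOver_iff.2 ⟨inferInstance, fun Q => ?_⟩⟩
  let q : PrimeSpectrum S := ⟨Q.asIdeal.comap (Algebra.TensorProduct.includeRight.toRingHom :
    S →+* p.asIdeal.Fiber S), Ideal.IsPrime.comap _⟩
  exact (point_of_syntomic_away p.asIdeal Q.asIdeal q.asIdeal rfl (g q) (hg q) (hs q)).2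

end Groth.Agent.RelGCI94
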