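import Groth.Agent.RelGCI94.Spread
import Groth.Agent.RelGCI94.SyntLocal

/-! Lifting syntomic algebras from a closed subset of the base. -/

set_option autoImplicit false
universe u

open MvPolynomial

namespace Groth.Agent.RelGCI94

variable (R : Type u) [CommRing R]

theorem exists_lift_relGCI (I : Ideal R) (n c : ℕ) (F : Fin c → MvPolynomial (Fin n) (R ⧸ I))
    (hF : Synt.IsRelGCI (R ⧸ I) n c F) {T : Type u} [CommRing T] [Algebra R T]
    [Algebra (R ⧸ I) T] [IsScalarTower R (R ⧸ I) T] (e : T ≃ₐ[R ⧸ I] Synt.RelGCIRing (R ⧸ I) n c F) :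
    ∃ (n' c' : ℕ) (G : Fin c' → MvPolynomial (Fin n') R), Synt.IsRelGCI R n' c' G ∧
      Nonempty (T ≃ₐ[R] (Synt.RelGCIRing R n' c' G ⧸ I.map (algebraMap R (Synt.RelGCIRing R n' c' G)))) := by
  classical
  choose F₀ hF₀ using fun i => MvPolynomial.map_surjective (Ideal.Quotient.mk I) Ideal.Quotient.mk_surjective (F i)
  obtain rfl : (fun i => MvPolynomial.map (Ideal.Quotient.mk I) (F₀ i)) = F := funext hF₀
  obtain ⟨h, hh, hG⟩ := exists_spread R n c F₀ I hF
  refine ⟨n + 1, c + 1, F' R n c F₀ h, hG, ?_⟩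
  let S := Synt.RelGCIRing R n c F₀
  let S' := Synt.RelGCIRing (R ⧸ I) n c (fun i => MvPolynomial.map (Ideal.Quotient.mk I) (F₀ i))
  let π : S →+* S' := redMap R n c F₀ I
  let t : S := Ideal.Quotient.mk _ h
  have hπI : ∀ x ∈ I.map (algebraMap R S), π x = 0 := by
    intro x hx
    refine (RingHom.mem_ker).1 ((Ideal.map_le_iff_le_comap.2 fun r hr => ?_) hx)
    rw [Ideal.mem_comap, RingHom.mem_ker]
    show Ideal.Quotient.mk _ (MvPolynomial.map (Ideal.Quotient.mk I) (C r)) = 0
    rw [MvPolynomial.map_C, Ideal.Quotient.eq_zero_iff_mem.2 hr, map_zero, map_zero]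
  have hπt : π t = 1 := by
    rw [← sub_eq_zero, ← map_one π, ← map_sub]
    exact hπI _ (Ideal.Quotient.eq.1 hh)
  have hu : IsUnit (π t) := by rw [hπt]; exact isUnit_one
  let φ₀ : Localization.Away t →+* S' := IsLocalization.Away.lift t hu
  have hφ₀ : ∀ s, φ₀ (algebraMap S _ s) = π s := fun s => IsLocalization.Away.lift_eq _ hu s
  let φ : Synt.RelGCIRing R (n + 1) (c + 1) (F' R n c F₀ h) →ₐ[R] S' :=
    { φ₀.comp (awayEquiv R n c F₀ h).symm.toRingEquiv.toRingHom with
      commutes' := fun r => by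
        show φ₀ ((awayEquiv R n c F₀ h).symm (algebraMap R _ r)) = algebraMap R S' r
        rw [AlgEquiv.commutes, IsScalarTower.algebraMap_apply R S (Localization.Away t), hφ₀]
        show Ideal.Quotient.mk _ (MvPolynomial.map (Ideal.Quotient.mk I) (C r)) = _
        rw [MvPolynomial.map_C]
        rfl }
  have hφs : Function.Surjective φ := fun x => by
    obtain ⟨s, hs⟩ := redMap_surjective R n c F₀ I x
    refine ⟨awayEquiv R n c F₀ h (algebraMap S _ s), ?_⟩
    show φ₀ ((awayEquiv R n c F₀ h).symm _) = x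
    rw [AlgEquiv.symm_apply_apply, hφ₀]
    exact hs
  have hker : RingHom.ker φ.toRingHom = I.map (algebraMap R (Synt.RelGCIRing R (n + 1) (c + 1) (F' R n c F₀ h))) := by
    refine le_antisymm (fun x hx => ?_) (Ideal.map_le_iff_le_comap.2 fun r hr => ?_)
    · obtain ⟨y, rfl⟩ := (awayEquiv R n c F₀ h).surjective x
      obtain ⟨N, a, ha⟩ := IsLocalization.Away.surj t y
      have hy : φ₀ y = 0 := by
        have : φ₀ ((awayEquiv R n c F₀ h).symm (awayEquiv R n c F₀ h y)) = 0 := hx
        rwa [AlgEquiv.symm_apply_apply] at this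
      have h1 : π a = 0 := by rw [← hφ₀, ← ha, map_mul, hy, zero_mul]
      have h2 : a ∈ I.map (algebraMap R S) := ker_redMap_le R n c F₀ I h1
      have h3 : y ∈ I.map (algebraMap R (Localization.Away t)) := by
        refine (Ideal.mul_unit_mem_iff_mem _ ((IsLocalization.Away.algebraMap_isUnit (S := Localization.Away t) t).pow N)).1 ?_
        rw [ha, IsScalarTower.algebraMap_eq R S (Localization.Away t), ← Ideal.map_map]
        exact Ideal.mem_map_of_mem _ h2
      have h4 := Ideal.mem_map_of_mem (awayEquiv R n c F₀ h).toRingEquiv.toRingHom h3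
      rw [Ideal.map_map] at h4
      rw [show (awayEquiv R n c F₀ h).toRingEquiv.toRingHom.comp (algebraMap R (Localization.Away t)) =
        algebraMap R _ from RingHom.ext (awayEquiv R n c F₀ h).commutes] at h4
      exact h4
    · rw [Ideal.mem_comap, RingHom.mem_ker]
      show φ (algebraMap R _ r) = 0
      rw [φ.commutes, IsScalarTower.algebraMap_apply R (R ⧸ I) S', Ideal.Quotient.algebraMap_eq,
        Ideal.Quotient.eq_zero_iff_mem.2 hr, map_zero]
  exact ⟨(e.restrictScalars R).trans ((Ideal.quotientKerAlgEquivOfSurjective hφs).symm.trans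
    (Ideal.quotientEquivAlgOfEq R hker))⟩

end Groth.Agent.RelGCI94
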