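import Groth.Agent.RelGCI94.OverField
import Mathlib.RingTheory.RingHom.Flat
import Mathlib.RingTheory.IsTensorProduct
import Mathlib.AlgebraicGeometry.Morphisms.Flat
import Mathlib.Algebra.Category.Ring.Constructions

/-! Complete intersection points and extension of the ground field. -/

set_option autoImplicit false
universe u

open TensorProduct MvPolynomial

namespace Groth.Agent.RelGCI94

section Alg

variable {k K : Type u} [Field k] [Field K] [Algebra k K] {n : ℕ}

/-- base change of a quotient of affine space -/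
noncomputable def quotBCEquiv (I : Ideal (MvPolynomial (Fin n) k)) :
    K ⊗[k] (MvPolynomial (Fin n) k ⧸ I) ≃ₐ[K]
      MvPolynomial (Fin n) K ⧸ I.map (MvPolynomial.map (algebraMap k K)) :=
  (Algebra.TensorProduct.tensorQuotientEquiv (R := k) K (MvPolynomial (Fin n) k) K I).trans
    (Ideal.quotientEquivAlg _ _ (algebraTensorAlgEquiv (σ := Fin n) k K) (by
      rw [← Ideal.span_eq I, Ideal.map_span, Ideal.map_span, Ideal.map_span, ← Set.image_comp]
      exact congrArg Ideal.span (Set.image_congr fun y _ => by simp)))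

theorem quotBCEquiv_tmul (I : Ideal (MvPolynomial (Fin n) k)) (y : MvPolynomial (Fin n) k) :
    quotBCEquiv (K := K) I ((1 : K) ⊗ₜ[k] Ideal.Quotient.mk I y) =
      Ideal.Quotient.mk _ (MvPolynomial.map (algebraMap k K) y) := by
  simp [quotBCEquiv]

theorem countCI_bc (I : Ideal (MvPolynomial (Fin n) k)) (Q : Ideal (MvPolynomial (Fin n) K)) [Q.IsPrime]
    (hI : I ≤ Q.comap (MvPolynomial.map (algebraMap k K))) :
    CountCI ((I.map (MvPolynomial.map (algebraMap k K))).map (algebraMap _ (Localization.AtPrime Q))) ↔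
      CountCI (I.map (algebraMap _ (Localization.AtPrime (Q.comap (MvPolynomial.map (algebraMap k K)))))) := by
  let φ := MvPolynomial.map (σ := Fin n) (algebraMap k K)
  let L := Localization.AtPrime (Q.comap φ)
  let L' := Localization.AtPrime Q
  have hflat : φ.Flat := by
    let : Algebra (MvPolynomial (Fin n) k) (MvPolynomial (Fin n) K) := MvPolynomial.algebraMvPolynomial
    have : Module.Flat (MvPolynomial (Fin n) k) (MvPolynomial (Fin n) k ⊗[k] K) := inferInstance
    exact Module.Flat.of_linearEquiv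
      (Algebra.IsPushout.equiv k (MvPolynomial (Fin n) k) K (MvPolynomial (Fin n) K)).symm.toLinearEquiv
  let : Algebra L L' := (Localization.localRingHom (Q.comap φ) Q φ rfl).toAlgebra
  have : Module.Flat L L' := hflat.localRingHom Q (Q.comap φ) rfl
  have : IsLocalHom (algebraMap L L') := Localization.isLocalHom_localRingHom (Q.comap φ) Q φ rfl
  have hne : I.map (algebraMap _ L) ≠ ⊤ := ne_top_of_le_ne_top (IsLocalRing.maximalIdeal.isMaximal L).ne_top
    (Ideal.map_le_iff_le_comap.2 fun x hx =>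
      (IsLocalization.AtPrime.to_map_mem_maximal_iff L (Q.comap φ) x).2 (hI hx))
  rw [← countCI_map_iff (S := L') (I.map (algebraMap _ L)) hne, Ideal.map_map, Ideal.map_map]
  have hc : (algebraMap L L').comp (algebraMap _ L) = (algebraMap _ L').comp φ :=
    RingHom.ext fun x => Localization.localRingHom_to_map (Q.comap φ) Q φ rfl x
  rw [hc]

variable {A B : Type u} [CommRing A] [CommRing B] [Algebra k A] [Algebra k B] [Algebra K B] [Algebra A B]
  [IsScalarTower k K B] [IsScalarTower k A B]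

theorem isCIOver_bc_iff [Algebra.FiniteType k A] [Algebra.IsPushout k K A B] (Q : Ideal B) [Q.IsPrime] :
    Synt.IsCIOver K (Localization.AtPrime Q) ↔
      Synt.IsCIOver k (Localization.AtPrime (Q.comap (algebraMap A B))) := by
  obtain ⟨n, π, hπ⟩ := Algebra.FiniteType.iff_quotient_mvPolynomial''.1 ‹Algebra.FiniteType k A›
  let I : Ideal (MvPolynomial (Fin n) k) := RingHom.ker π.toRingHom
  let e : (MvPolynomial (Fin n) k ⧸ I) ≃ₐ[k] A := Ideal.quotientKerAlgEquivOfSurjective hπ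
  let J := I.map (MvPolynomial.map (algebraMap k K))
  let eB : (MvPolynomial (Fin n) K ⧸ J) ≃ₐ[K] B :=
    (quotBCEquiv I).symm.trans ((Algebra.TensorProduct.congr (AlgEquiv.refl (A₁ := K)) e).trans
      (Algebra.IsPushout.equiv k K A B))
  have heB : ∀ y, eB (Ideal.Quotient.mk J (MvPolynomial.map (algebraMap k K) y)) =
      algebraMap A B (e (Ideal.Quotient.mk I y)) := fun y => by
    rw [show Ideal.Quotient.mk J (MvPolynomial.map (algebraMap k K) y) =
      quotBCEquiv I ((1 : K) ⊗ₜ[k] Ideal.Quotient.mk I y) from (quotBCEquiv_tmul I y).symm]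
    simp [eB, Algebra.IsPushout.equiv_tmul]
  let Q₀ : Ideal (MvPolynomial (Fin n) K ⧸ J) := Q.comap eB.toAlgHom
  let P₀ : Ideal (MvPolynomial (Fin n) k ⧸ I) := (Q.comap (algebraMap A B)).comap e.toAlgHom
  let εB : Localization.AtPrime Q₀ ≃ₐ[K] Localization.AtPrime Q := Localization.localAlgEquiv Q₀ Q eB rfl
  let εA : Localization.AtPrime P₀ ≃ₐ[k] Localization.AtPrime (Q.comap (algebraMap A B)) :=
    Localization.localAlgEquiv P₀ (Q.comap (algebraMap A B)) e rfl
  rw [show Synt.IsCIOver K (Localization.AtPrime Q) ↔ Synt.IsCIOver K (Localization.AtPrime Q₀) from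
      ⟨isCIOver_congr εB.symm, isCIOver_congr εB⟩,
    show Synt.IsCIOver k (Localization.AtPrime (Q.comap (algebraMap A B))) ↔
      Synt.IsCIOver k (Localization.AtPrime P₀) from ⟨isCIOver_congr εA.symm, isCIOver_congr εA⟩,
    isCIOver_atPrime_iff, isCIOver_atPrime_iff]
  have hcomap : P₀.comap (Ideal.Quotient.mk I) =
      (Q₀.comap (Ideal.Quotient.mk J)).comap (MvPolynomial.map (algebraMap k K)) := by
    ext y
    show algebraMap A B (e (Ideal.Quotient.mk I y)) ∈ Q ↔ eB (Ideal.Quotient.mk J _) ∈ Q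
    rw [heB]
  have hI : I ≤ P₀.comap (Ideal.Quotient.mk I) := fun y hy => by
    show Ideal.Quotient.mk I y ∈ P₀
    rw [Ideal.Quotient.eq_zero_iff_mem.2 hy]
    exact zero_mem _
  have key : ∀ (P' : Ideal (MvPolynomial (Fin n) k)) [P'.IsPrime],
      P' = P₀.comap (Ideal.Quotient.mk I) →
      (CountCI (I.map (algebraMap _ (Localization.AtPrime P'))) ↔
        CountCI (I.map (algebraMap _ (Localization.AtPrime (P₀.comap (Ideal.Quotient.mk I)))))) := by
    rintro P' _ rfl; exact Iff.rfl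
  exact (countCI_bc I (Q₀.comap (Ideal.Quotient.mk J)) (hI.trans hcomap.le)).trans
    (key _ hcomap.symm)

end Alg

open AlgebraicGeometry CategoryTheory Limits

variable {k K : Type u} [Field k] [Field K]

theorem ciAt_bc_iff {X Y : Scheme.{u}} (p : X ⟶ Spec (CommRingCat.of k)) [LocallyOfFiniteType p]
    (p' : Y ⟶ Spec (CommRingCat.of K)) (q : Y ⟶ X) (φ : CommRingCat.of k ⟶ CommRingCat.of K)
    (H : IsPullback q p' p (Spec.map φ)) (z : Y) : CIAt p' z ↔ CIAt p (q z) := by
  obtain ⟨U, hU, hzU, -⟩ := exists_isAffineOpen_mem_and_subset (U := (⊤ : X.Opens)) (x := q z) trivial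
  have : IsAffineHom q := MorphismProperty.of_isPullback H.flip inferInstance
  have hV : IsAffineOpen (q ⁻¹ᵁ U) := hU.preimage q
  have hUY : q ⁻¹ᵁ U = q ⁻¹ᵁ U ⊓ p' ⁻¹ᵁ ⊤ := le_antisymm (le_inf le_rfl fun _ _ => trivial) inf_le_left
  let k₀ := CommRingCat.of k
  let K₀ := CommRingCat.of K
  have po := (isIso_pushoutSection_iff H (US := ⊤) (UT := ⊤) (UX := U) (UY := q ⁻¹ᵁ U)
    (topLE (Spec.map φ) ⊤) (topLE p U) hUY).1
    (isIso_pushoutSection_of_isAffineOpen H (topLE (Spec.map φ) ⊤) (topLE p U) hUY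
      (isAffineOpen_top _) (isAffineOpen_top _) hU)
  have hnat : φ ≫ (Scheme.ΓSpecIso K₀).inv =
      (Scheme.ΓSpecIso k₀).inv ≫ (Spec.map φ).appLE ⊤ ⊤ (topLE (Spec.map φ) ⊤) := by
    show _ = _ ≫ (Spec.map φ).appLE ⊤ (Spec.map φ ⁻¹ᵁ ⊤) le_rfl
    rw [Scheme.Hom.appLE_eq_app]
    exact Scheme.ΓSpecIso_inv_naturality φ
  have po' : IsPushout φ (secHom p U) (secHom p' (q ⁻¹ᵁ U)) (q.appLE U (q ⁻¹ᵁ U) le_rfl) := by
    refine (po.of_iso (Scheme.ΓSpecIso k₀) (Iso.refl _) (Scheme.ΓSpecIso K₀) (Iso.refl _) ?_ ?_ ?_ ?_).flip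
    · rw [Iso.refl_hom, Category.comp_id, secHom, Iso.hom_inv_id_assoc]
    · rw [← cancel_mono (Scheme.ΓSpecIso K₀).inv, Category.assoc, Category.assoc, hnat,
        Iso.hom_inv_id, Category.comp_id, Iso.hom_inv_id_assoc]
    · simp
    · rw [Iso.refl_hom, Category.comp_id, secHom, Iso.hom_inv_id_assoc]
  let := φ.hom.toAlgebra
  let := (secHom p U).hom.toAlgebra
  let := (secHom p' (q ⁻¹ᵁ U)).hom.toAlgebra
  let := (q.appLE U (q ⁻¹ᵁ U) le_rfl).hom.toAlgebra
  let := ((secHom p' (q ⁻¹ᵁ U)).hom.comp φ.hom).toAlgebra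
  have : IsScalarTower k K Γ(Y, q ⁻¹ᵁ U) := IsScalarTower.of_algebraMap_eq' rfl
  have : IsScalarTower k Γ(X, U) Γ(Y, q ⁻¹ᵁ U) := IsScalarTower.of_algebraMap_eq'
    (congrArg CommRingCat.Hom.hom po'.w)
  have : Algebra.IsPushout k K Γ(X, U) Γ(Y, q ⁻¹ᵁ U) := CommRingCat.isPushout_iff_isPushout.1 po'
  have : Algebra.FiniteType k Γ(X, U) :=
    RingHom.FiniteType.comp (HasRingHomProperty.appLE @LocallyOfFiniteType p ‹_›
      ⟨⊤, isAffineOpen_top _⟩ ⟨U, hU⟩ (topLE p U))
      (RingHom.FiniteType.of_surjective _ (Scheme.ΓSpecIso k₀).commRingCatIsoToRingEquiv.symm.surjective)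
  have hz' : z ∈ q ⁻¹ᵁ U := hzU
  rw [ciAt_iff p hU (q z) hzU, ciAt_iff p' hV z hz']
  let P := (hU.primeIdealOf ⟨q z, hzU⟩).asIdeal
  let Q := (hV.primeIdealOf ⟨z, hz'⟩).asIdeal
  have hPQ : Q.comap (algebraMap Γ(X, U) Γ(Y, q ⁻¹ᵁ U)) = P := by
    have h1 : Spec.map (q.appLE U (q ⁻¹ᵁ U) le_rfl) (hV.primeIdealOf ⟨z, hz'⟩) = hU.primeIdealOf ⟨q z, hzU⟩ := by
      apply hU.fromSpec.isOpenEmbedding.injective
      show (Spec.map (q.appLE U (q ⁻¹ᵁ U) le_rfl) ≫ hU.fromSpec) (hV.primeIdealOf ⟨z, hz'⟩) = _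
      rw [IsAffineOpen.SpecMap_appLE_fromSpec q hU hV le_rfl, hU.fromSpec_primeIdealOf]
      exact congrArg q (hV.fromSpec_primeIdealOf ⟨z, hz'⟩)
    exact congrArg PrimeSpectrum.asIdeal h1
  have key : ∀ (P' : Ideal Γ(X, U)) [P'.IsPrime], P' = P →
      (Synt.IsCIOver k (Localization.AtPrime P') ↔ Synt.IsCIOver k (Localization.AtPrime P)) := by
    rintro P' _ rfl; exact Iff.rfl
  exact (isCIOver_bc_iff (k := k) (K := K) (A := Γ(X, U)) Q).trans (key _ hPQ)

end Groth.Agent.RelGCI94
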