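import Groth.Agent.CAlg5.ColimSys
import Groth.Agent.RelGCI94.SyntKoszul

/-! Syntomic base changes descend to a stage of a directed colimit. -/

set_option autoImplicit false
universe u v

open MvPolynomial TensorProduct

namespace Groth.Agent.RelGCI94

/-- base change of a quotient of affine space, any ideal -/
noncomputable def quotTensorEquiv {R : Type u} [CommRing R] (A : Type u) [CommRing A] [Algebra R A] {n : ℕ}
    (I : Ideal (MvPolynomial (Fin n) R)) :
    A ⊗[R] (MvPolynomial (Fin n) R ⧸ I) ≃ₐ[A]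
      MvPolynomial (Fin n) A ⧸ I.map (MvPolynomial.map (algebraMap R A)) :=
  (Algebra.TensorProduct.tensorQuotientEquiv (R := R) A (MvPolynomial (Fin n) R) A I).trans
    (Ideal.quotientEquivAlg _ _ (algebraTensorAlgEquiv (σ := Fin n) R A) (by
      rw [← Ideal.span_eq I, Ideal.map_span, Ideal.map_span, Ideal.map_span, ← Set.image_comp]
      exact congrArg Ideal.span (Set.image_congr fun y _ => by simp)))

section Colim

open CAlg5 CAlg5.ColimSys

variable {R : Type u} [CommRing R] {ι : Type v} {G : ι → Type u} [∀ i, CommRing (G i)]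
  [∀ i, Algebra R (G i)] {A : Type u} [CommRing A] [Algebra R A] {g : ∀ i, G i →ₐ[R] A} {σ : Type}

theorem exists_poly_lift (hs : ColimSys R G A g) {κ : Type u} [Fintype κ] (p : κ → MvPolynomial σ A) (i : ι) :
    ∃ l, ∃ h : G i →ₐ[R] G l, (g l).comp h = g i ∧ ∃ q : κ → MvPolynomial σ (G l),
      ∀ k, MvPolynomial.map (g l).toRingHom (q k) = p k := by
  classical
  obtain ⟨l, h, hh, x, hx⟩ := hs.exists_lift (Finset.univ.biUnion fun k => (p k).coeffs) id i
  refine ⟨l, h, hh, fun k => ∑ d ∈ (p k).support, monomial d (x (coeff d (p k))), fun k => ?_⟩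
  rw [map_sum]
  conv_rhs => rw [(p k).as_sum]
  refine Finset.sum_congr rfl fun d hd => ?_
  rw [map_monomial]
  congr 1
  exact hx _ (Finset.mem_biUnion.2 ⟨k, Finset.mem_univ k, coeff_mem_coeffs d (mem_support_iff.1 hd)⟩)

theorem exists_poly_kill (hs : ColimSys R G A g) {κ : Type u} [Fintype κ] (i : ι) (p : κ → MvPolynomial σ (G i))
    (hp : ∀ k, MvPolynomial.map (g i).toRingHom (p k) = 0) :
    ∃ l, ∃ h : G i →ₐ[R] G l, (g l).comp h = g i ∧ ∀ k, MvPolynomial.map h.toRingHom (p k) = 0 := by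
  classical
  obtain ⟨l, h, hh, hk⟩ := hs.exists_kill (Finset.univ.biUnion fun k => (p k).coeffs) i id fun x hx => by
    obtain ⟨k, -, hk⟩ := Finset.mem_biUnion.1 hx
    obtain ⟨d, -, rfl⟩ := MvPolynomial.mem_coeffs_iff.1 hk
    show (g i).toRingHom (coeff d (p k)) = 0
    rw [← coeff_map, hp k, coeff_zero]
  refine ⟨l, h, hh, fun k => MvPolynomial.ext _ _ fun d => ?_⟩
  rw [coeff_map, coeff_zero]
  by_cases hd : coeff d (p k) = 0
  · rw [hd, map_zero]
  · exact hk _ (Finset.mem_biUnion.2 ⟨k, Finset.mem_univ k, coeff_mem_coeffs d hd⟩)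

end Colim

/-- `F` is regular on the fibres over `D(G)`. -/
def GoodOn {A : Type u} [CommRing A] {n r : ℕ} (F : Fin r → MvPolynomial (Fin n) A) (G : MvPolynomial (Fin n) A) :
    Prop :=
  ∀ (Q : Ideal (MvPolynomial (Fin n) A)) [Q.IsPrime], (∀ i, F i ∈ Q) → G ∉ Q → RegAt F Q

theorem GoodOn.map {A B : Type u} [CommRing A] [CommRing B] (φ : A →+* B) {n r : ℕ}
    {F : Fin r → MvPolynomial (Fin n) A} {G : MvPolynomial (Fin n) A} (h : GoodOn F G) :
    GoodOn (fun i => MvPolynomial.map φ (F i)) (MvPolynomial.map φ G) := fun Q _ hQ hG => by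
  let := φ.toAlgebra
  exact (regAt_map_iff (A := B) F Q).2 (h (Q.comap (MvPolynomial.map φ)) hQ hG)

open CAlg5 CAlg5.ColimSys in
theorem exists_goodOn_stage {R : Type u} [CommRing R] {ι : Type v} {G : ι → Type u} [∀ i, CommRing (G i)]
    [∀ i, Algebra R (G i)] {A : Type u} [CommRing A] [Algebra R A] {g : ∀ i, G i →ₐ[R] A}
    (hs : ColimSys R G A g) {n r : ℕ} (i : ι) (F : Fin r → MvPolynomial (Fin n) (G i))
    (H : MvPolynomial (Fin n) (G i))
    (h : GoodOn (fun j => MvPolynomial.map (g i).toRingHom (F j)) (MvPolynomial.map (g i).toRingHom H)) :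
    ∃ l, ∃ hl : G i →ₐ[R] G l, (g l).comp hl = g i ∧
      GoodOn (fun j => MvPolynomial.map hl.toRingHom (F j)) (MvPolynomial.map hl.toRingHom H) := by
  classical
  let := (g i).toRingHom.toAlgebra
  let φ := MvPolynomial.map (σ := Fin n) (g i).toRingHom
  let s : Set (MvPolynomial (Fin n) (G i)) :=
    {x | Synt.IsRelGCI (G i) (n + 1) (r + 1) (F' (G i) n r F x)} ∪ Set.range F
  have hrad : φ H ∈ (Ideal.span (φ '' s)).radical := by
    rw [Ideal.radical_eq_sInf, Ideal.mem_sInf]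
    rintro Q ⟨hle, hQ⟩
    by_contra hH
    have hQs : ∀ x ∈ s, φ x ∈ Q := fun x hx => hle (Ideal.subset_span ⟨x, hx, rfl⟩)
    have h0 : RegAt F (Q.comap φ) :=
      (regAt_map_iff (A := A) F Q).1 (h Q (fun j => hQs (F j) (Or.inr ⟨j, rfl⟩)) hH)
    obtain ⟨-, x, hx, hx'⟩ := exists_isRelGCI_away F (Q.comap φ) (fun j => hQs (F j) (Or.inr ⟨j, rfl⟩)) h0
    exact hx (hQs x (Or.inl hx'))
  obtain ⟨m, hm⟩ := hrad
  obtain ⟨T, hTs, hmT⟩ := Submodule.mem_span_finite_of_mem_span hm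
  choose x hxs hxφ using fun y : T => hTs y.2
  obtain ⟨c, hc⟩ : ∃ c : T → MvPolynomial (Fin n) A, ∑ y, c y * φ (x y) = φ H ^ m := by
    refine Ideal.mem_span_range_iff_exists_fun.1 ?_
    rw [show Set.range (fun y => φ (x y)) = (T : Set (MvPolynomial (Fin n) A)) by
      ext z; simp [hxφ]]
    exact hmT
  obtain ⟨l, h1, hh1, c', hc'⟩ := exists_poly_lift hs c i
  let φl := MvPolynomial.map (σ := Fin n) h1.toRingHom
  have hφl : ∀ p, MvPolynomial.map (g l).toRingHom (φl p) = φ p := fun p => by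
    rw [MvPolynomial.map_map]
    exact congrArg (fun ψ : G i →+* A => MvPolynomial.map ψ p) (congrArg AlgHom.toRingHom hh1)
  obtain ⟨l', h2, hh2, hk⟩ := exists_poly_kill hs (κ := PUnit) l
    (fun _ => (∑ y, c' y * φl (x y)) - φl H ^ m) fun _ => by
      simp only [map_sub, map_sum, map_mul, map_pow, hc', hφl, hc, sub_self]
  refine ⟨l', h2.comp h1, by rw [← AlgHom.comp_assoc, hh2, hh1], fun Q _ hQ hH => ?_⟩
  let := (h2.comp h1).toRingHom.toAlgebra
  refine (regAt_map_iff (A := G l') F Q).2 ?_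
  let ψ := MvPolynomial.map (σ := Fin n) (h2.comp h1).toRingHom
  suffices ∃ z ∈ s, ψ z ∉ Q by
    obtain ⟨z, hz, hzQ⟩ := this
    rcases hz with hz | ⟨j, rfl⟩
    · exact (isRelGCI_away_iff F z).1 hz (Q.comap ψ) (fun j => hQ j) hzQ
    · exact absurd (hQ j) hzQ
  by_contra hne
  push Not at hne
  refine hH (Ideal.IsPrime.mem_of_pow_mem inferInstance m ?_)
  have h3 := sub_eq_zero.1 ((map_sub (MvPolynomial.map h2.toRingHom) _ _).symm.trans (hk PUnit.unit))
  have hψ : ∀ p, MvPolynomial.map h2.toRingHom (φl p) = ψ p := fun p => by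
    rw [MvPolynomial.map_map]; rfl
  simp only [map_sum, map_mul, map_pow, hψ] at h3
  show ψ H ^ m ∈ Q
  rw [← h3]
  exact sum_mem fun y _ => Ideal.mul_mem_left _ _ (hne _ (hxs y))

/-- Local equations over the colimit ring. -/
theorem exists_cover_data {A : Type u} [CommRing A] {n : ℕ} (I : Ideal (MvPolynomial (Fin n) A)) (hfg : I.FG)
    (h : Synt.IsSyntomic A (MvPolynomial (Fin n) A ⧸ I)) :
    ∃ (κ : Type u) (_ : Fintype κ) (H : κ → MvPolynomial (Fin n) A) (r : κ → ℕ)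
      (F : ∀ k, Fin (r k) → MvPolynomial (Fin n) A),
      (∀ k j, F k j ∈ I) ∧ (∀ k, GoodOn (F k) (H k)) ∧ (∀ k, ∀ y ∈ I, H k * y ∈ Ideal.span (Set.range (F k))) ∧
        (1 : MvPolynomial (Fin n) A) ∈ Ideal.span (Set.range H) ⊔ I := by
  classical
  have := h.1
  let S := {Q : PrimeSpectrum (MvPolynomial (Fin n) A) // I ≤ Q.asIdeal}
  have hS : ∀ Q : S, ∃ G ∉ Q.1.asIdeal, ∃ (r : ℕ) (F : Fin r → MvPolynomial (Fin n) A), (∀ i, F i ∈ I) ∧
      GoodOn F G ∧ ∀ y ∈ I, G * y ∈ Ideal.span (Set.range F) := fun ⟨Q, hIQ⟩ => by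
    have := flat_atPrime_quotient I Q.asIdeal hIQ
    let q : Ideal (MvPolynomial (Fin n) A ⧸ I) := Q.asIdeal.map (Ideal.Quotient.mk I)
    have : q.IsPrime := Ideal.map_isPrime_of_surjective Ideal.Quotient.mk_surjective (by rwa [Ideal.mk_ker])
    have hq : q.comap (Ideal.Quotient.mk I) = Q.asIdeal := by
      rw [Ideal.comap_map_of_surjective _ Ideal.Quotient.mk_surjective, ← RingHom.ker_eq_comap_bot,
        Ideal.mk_ker, sup_eq_left.2 hIQ]
    let p : Ideal A := q.comap (algebraMap A _)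
    let z : PrimeSpectrum (p.Fiber (MvPolynomial (Fin n) A ⧸ I)) :=
      (PrimeSpectrum.preimageOrderIsoFiber A (MvPolynomial (Fin n) A ⧸ I) ⟨p, inferInstance⟩)
        ⟨⟨q, inferInstance⟩, rfl⟩
    have hz : z.asIdeal.comap (Algebra.TensorProduct.includeRight.toRingHom :
        MvPolynomial (Fin n) A ⧸ I →+* p.Fiber (MvPolynomial (Fin n) A ⧸ I)) = q :=
      congrArg PrimeSpectrum.asIdeal
        (congrArg Subtype.val ((PrimeSpectrum.preimageOrderIsoFiber A (MvPolynomial (Fin n) A ⧸ I)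
          ⟨p, inferInstance⟩).symm_apply_apply ⟨⟨q, inferInstance⟩, rfl⟩))
    exact exists_equations_nhd I hfg Q.asIdeal hIQ
      ((isCIOver_fibre_iff I AlgEquiv.refl p z.asIdeal Q.asIdeal fun y => by rw [hz, ← hq]; rfl).1
        (isCIOver_fibre_of_isSyntomic h p z.asIdeal))
  choose G hG r F hF hgood hgen using hS
  have htop : (1 : MvPolynomial (Fin n) A) ∈ Ideal.span (Set.range G) ⊔ I := by
    by_contra hne
    obtain ⟨M, hM, hle⟩ := Ideal.exists_le_maximal (Ideal.span (Set.range G) ⊔ I)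
      (fun ht => hne (ht.ge Submodule.mem_top))
    exact hG ⟨⟨M, hM.isPrime⟩, le_sup_right.trans hle⟩ (hle (Submodule.mem_sup_left (Ideal.subset_span ⟨_, rfl⟩)))
  obtain ⟨a, ha, b, hb, hab⟩ := Submodule.mem_sup.1 htop
  obtain ⟨T, hT, haT⟩ := Submodule.mem_span_finite_of_mem_span ha
  choose Qt hQt using fun y : T => hT y.2
  refine ⟨T, inferInstance, fun y => G (Qt y), fun y => r (Qt y), fun y => F (Qt y), fun y => hF _,
    fun y => hgood _, fun y => hgen _, Submodule.mem_sup.2 ⟨a, ?_, b, hb, hab⟩⟩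
  refine Submodule.span_mono ?_ haT
  exact fun y hy => ⟨⟨y, hy⟩, hQt ⟨y, hy⟩⟩

/-- local equations give syntomicity -/
theorem isSyntomic_of_cover_data {A : Type u} [CommRing A] {n : ℕ} (I : Ideal (MvPolynomial (Fin n) A))
    {κ : Type u} (H : κ → MvPolynomial (Fin n) A) (r : κ → ℕ) (F : ∀ k, Fin (r k) → MvPolynomial (Fin n) A)
    (hF : ∀ k j, F k j ∈ I) (hgood : ∀ k, GoodOn (F k) (H k))
    (hgen : ∀ k, ∀ y ∈ I, H k * y ∈ Ideal.span (Set.range (F k)))
    (h1 : (1 : MvPolynomial (Fin n) A) ∈ Ideal.span (Set.range H) ⊔ I) :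
    Synt.IsSyntomic A (MvPolynomial (Fin n) A ⧸ I) := by
  refine isSyntomic_of_local fun q => ?_
  obtain ⟨k, hk⟩ : ∃ k, Ideal.Quotient.mk I (H k) ∉ q.asIdeal := by
    by_contra hne
    push Not at hne
    refine q.2.ne_top ((Ideal.eq_top_iff_one _).2 ?_)
    obtain ⟨a, ha, b, hb, hab⟩ := Submodule.mem_sup.1 h1
    rw [← map_one (Ideal.Quotient.mk I), ← hab, map_add, Ideal.Quotient.eq_zero_iff_mem.2 hb, add_zero]
    exact (Ideal.span_le (I := q.asIdeal.comap (Ideal.Quotient.mk I))).2 (by rintro _ ⟨k, rfl⟩; exact hne k) ha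
  refine ⟨_, hk, isSyntomic_away_of_relGCI _ (F' A n (r k) (F k) (H k))
    ((isRelGCI_away_iff (F k) (H k)).2 fun Q _ hQ hG => hgood k Q hQ hG) ?_⟩
  exact (awayQuotEquiv _ I (Ideal.span_le.2 (by rintro _ ⟨j, rfl⟩; exact hF k j)) (H k)
    fun y hy => ⟨1, by rw [pow_one]; exact hgen k y hy⟩).symm.trans (awayEquiv A n (r k) (F k) (H k))

open CAlg5 CAlg5.ColimSys in
/-- **Descent of syntomicity to a stage.** -/
theorem exists_syntomic_stage {R : Type u} [CommRing R] {ι : Type v} {G : ι → Type u} [∀ i, CommRing (G i)]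
    [∀ i, Algebra R (G i)] {A : Type u} [CommRing A] [Algebra R A] {g : ∀ i, G i →ₐ[R] A}
    (C : Type u) [CommRing C] [Algebra R C] [Algebra.FinitePresentation R C]
    (hs : ColimSys R G A g) (h : Synt.IsSyntomic A (A ⊗[R] C)) :
    ∃ i, Synt.IsSyntomic (G i) (G i ⊗[R] C) := by
  classical
  obtain ⟨n, π, hπ, T, hT⟩ := Algebra.FinitePresentation.out (R := R) (A := C)
  let I₀ : Ideal (MvPolynomial (Fin n) R) := RingHom.ker π.toRingHom
  let e : (MvPolynomial (Fin n) R ⧸ I₀) ≃ₐ[R] C := Ideal.quotientKerAlgEquivOfSurjective hπ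
  let eq' : ∀ (X : Type u) [CommRing X] [Algebra R X], (X ⊗[R] C) ≃ₐ[X]
      MvPolynomial (Fin n) X ⧸ I₀.map (MvPolynomial.map (algebraMap R X)) := fun X _ _ =>
    (Algebra.TensorProduct.congr (AlgEquiv.refl (A₁ := X)) e.symm).trans (quotTensorEquiv X I₀)
  let IA := I₀.map (MvPolynomial.map (σ := Fin n) (algebraMap R A))
  have hspan : ∀ (X : Type u) [CommRing X] [Algebra R X],
      I₀.map (MvPolynomial.map (σ := Fin n) (algebraMap R X)) =
        Ideal.span (Set.range fun t : {t // t ∈ T} => MvPolynomial.map (σ := Fin n) (algebraMap R X) t.1) :=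
    fun X _ _ => by
      rw [show I₀ = Ideal.span (T : Set (MvPolynomial (Fin n) R)) from hT.symm, Ideal.map_span]
      congr 1
      ext z
      simp
  obtain ⟨κ, hκ, H, r, F, hFI, hgood, hgen, hone⟩ :=
    exists_cover_data IA (Ideal.FG.map (⟨T, hT⟩ : I₀.FG) _) (isSyntomic_congr (eq' A) h)
  let tA : {t // t ∈ T} → MvPolynomial (Fin n) A := fun t => MvPolynomial.map (algebraMap R A) t.1
  have hIA : IA = Ideal.span (Set.range tA) := hspan A
  choose a ha using fun k j => Ideal.mem_span_range_iff_exists_fun.1 (hIA ▸ hFI k j)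
  choose b hb using fun k t => Ideal.mem_span_range_iff_exists_fun.1
    (hgen k (tA t) (hIA.ge (Ideal.subset_span ⟨t, rfl⟩)))
  obtain ⟨u₁, hu₁, u₂, hu₂, hu⟩ := Submodule.mem_sup.1 hone
  obtain ⟨cH, hcH⟩ := Ideal.mem_span_range_iff_exists_fun.1 hu₁
  obtain ⟨cT, hcT⟩ := Ideal.mem_span_range_iff_exists_fun.1 (hIA ▸ hu₂)
  -- lifting all coefficients
  obtain ⟨i₀⟩ := hs.nonempty
  let κall := κ ⊕ (Σ k, Fin (r k) × {t // t ∈ T}) ⊕ (Σ k, {t // t ∈ T} × Fin (r k)) ⊕ κ ⊕ {t // t ∈ T}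
  obtain ⟨l, -, -, q, hq⟩ := exists_poly_lift hs (κ := κall)
    (Sum.elim H (Sum.elim (fun x => a x.1 x.2.1 x.2.2) (Sum.elim (fun x => b x.1 x.2.1 x.2.2)
      (Sum.elim cH cT)))) i₀
  let φ := MvPolynomial.map (σ := Fin n) (g l).toRingHom
  let H' : κ → MvPolynomial (Fin n) (G l) := fun k => q (Sum.inl k)
  let a' := fun k j t => q (Sum.inr (Sum.inl ⟨k, j, t⟩))
  let b' := fun k t j => q (Sum.inr (Sum.inr (Sum.inl ⟨k, t, j⟩)))
  let cH' := fun k => q (Sum.inr (Sum.inr (Sum.inr (Sum.inl k))))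
  let cT' := fun t => q (Sum.inr (Sum.inr (Sum.inr (Sum.inr t))))
  let tl : {t // t ∈ T} → MvPolynomial (Fin n) (G l) := fun t => MvPolynomial.map (algebraMap R (G l)) t.1
  have htl : ∀ t, φ (tl t) = tA t := fun t => by
    show MvPolynomial.map _ (MvPolynomial.map _ t.1) = _
    rw [MvPolynomial.map_map]
    exact congrArg (fun ψ : R →+* A => MvPolynomial.map ψ t.1) (g l).comp_algebraMap
  let F' : ∀ k, Fin (r k) → MvPolynomial (Fin n) (G l) := fun k j => ∑ t, a' k j t * tl t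
  have hH' : ∀ k, φ (H' k) = H k := fun k => hq _
  have hF' : ∀ k j, φ (F' k j) = F k j := fun k j => by
    rw [← ha k j, map_sum]
    exact Finset.sum_congr rfl fun t _ => by rw [map_mul, htl]; congr 1; exact hq _
  have hb' : ∀ k t j, φ (b' k t j) = b k t j := fun k t j => hq (Sum.inr (Sum.inr (Sum.inl ⟨k, t, j⟩)))
  have hcH' : ∀ k, φ (cH' k) = cH k := fun k => hq (Sum.inr (Sum.inr (Sum.inr (Sum.inl k))))
  have hcT' : ∀ t, φ (cT' t) = cT t := fun t => hq (Sum.inr (Sum.inr (Sum.inr (Sum.inr t))))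
  -- killing the equations
  obtain ⟨m, h1, hh1, hkill⟩ := exists_poly_kill hs (κ := (κ × {t // t ∈ T}) ⊕ PUnit.{u + 1}) l
    (Sum.elim (fun x => H' x.1 * tl x.2 - ∑ j, b' x.1 x.2 j * F' x.1 j)
      (fun _ => ∑ k, cH' k * H' k + ∑ t, cT' t * tl t - 1)) fun x => by
      rcases x with ⟨k, t⟩ | _
      · show φ _ = 0
        simp only [map_sub, map_mul, map_sum, hH', htl, hF', Sum.elim_inl, sub_eq_zero]
        simp only [hb', hb k t]
      · show φ _ = 0
        simp only [map_sub, map_add, map_one, map_mul, map_sum, hH', htl, Sum.elim_inr, sub_eq_zero]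
        simp only [hcH', hcT', hcH, hcT, hu]
  -- regularity on the fibres
  have hgoodStage : ∀ s : Finset κ, ∃ p, ∃ h2 : G l →ₐ[R] G p, (g p).comp h2 = g l ∧
      (∃ h2' : G m →ₐ[R] G p, h2'.comp h1 = h2) ∧ ∀ k ∈ s, GoodOn
        (fun j => MvPolynomial.map h2.toRingHom (F' k j)) (MvPolynomial.map h2.toRingHom (H' k)) := by
    intro s
    induction s using Finset.induction with
    | empty => exact ⟨m, h1, hh1, ⟨AlgHom.id R _, AlgHom.id_comp _⟩, by simp⟩
    | insert k s hks ih =>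
      obtain ⟨p, h2, hh2, ⟨h2', hh2'⟩, hgood'⟩ := ih
      have e1 : ∀ y, MvPolynomial.map (g p).toRingHom (MvPolynomial.map h2.toRingHom y) = φ y := fun y => by
        rw [MvPolynomial.map_map]
        exact congrArg (fun ψ : G l →+* A => MvPolynomial.map ψ y) (congrArg AlgHom.toRingHom hh2)
      obtain ⟨p', h3, hh3, hk⟩ := exists_goodOn_stage hs p (fun j => MvPolynomial.map h2.toRingHom (F' k j))
        (MvPolynomial.map h2.toRingHom (H' k)) (by simpa only [e1, hF', hH'] using hgood k)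
      refine ⟨p', h3.comp h2, by rw [← AlgHom.comp_assoc, hh3, hh2],
        ⟨h3.comp h2', by rw [AlgHom.comp_assoc, hh2']⟩, fun k' hk' => ?_⟩
      rcases Finset.mem_insert.1 hk' with rfl | hk'
      · simp only [MvPolynomial.map_map] at hk
        exact hk
      · have := (hgood' k' hk').map h3.toRingHom
        simp only [MvPolynomial.map_map] at this
        exact this
  obtain ⟨p, h2, -, ⟨h2', hh2'⟩, hgoodp⟩ := hgoodStage Finset.univ
  refine ⟨p, isSyntomic_congr (eq' (G p)).symm ?_⟩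
  let ψ := MvPolynomial.map (σ := Fin n) h2.toRingHom
  have htp : ∀ t, ψ (tl t) = MvPolynomial.map (algebraMap R (G p)) t.1 := fun t => by
    show MvPolynomial.map _ (MvPolynomial.map _ t.1) = _
    rw [MvPolynomial.map_map]
    exact congrArg (fun ψ : R →+* G p => MvPolynomial.map ψ t.1) h2.comp_algebraMap
  have hI : ∀ t, ψ (tl t) ∈ I₀.map (MvPolynomial.map (σ := Fin n) (algebraMap R (G p))) := fun t => by
    rw [hspan, htp]; exact Ideal.subset_span ⟨t, rfl⟩
  have hkill' : ∀ x : (κ × {t // t ∈ T}) ⊕ PUnit.{u + 1}, ψ (Sum.elim (fun x => H' x.1 * tl x.2 - ∑ j, b' x.1 x.2 j * F' x.1 j)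
      (fun _ => ∑ k, cH' k * H' k + ∑ t, cT' t * tl t - 1) x) = 0 := fun x => by
    show MvPolynomial.map h2.toRingHom _ = 0
    rw [← hh2', show (h2'.comp h1).toRingHom = h2'.toRingHom.comp h1.toRingHom from rfl,
      ← MvPolynomial.map_map, hkill x, map_zero]
  refine isSyntomic_of_cover_data _ (fun k => ψ (H' k)) r (fun k j => ψ (F' k j)) (fun k j => ?_)
    (fun k => hgoodp k (Finset.mem_univ k)) (fun k y hy => ?_) ?_
  · simp only [F', map_sum, map_mul]
    exact sum_mem fun t _ => Ideal.mul_mem_left _ _ (hI t)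
  · rw [hspan] at hy
    obtain ⟨c, rfl⟩ := Ideal.mem_span_range_iff_exists_fun.1 hy
    rw [Finset.mul_sum]
    refine sum_mem fun t _ => ?_
    rw [mul_left_comm, ← htp]
    refine Ideal.mul_mem_left _ _ ?_
    have h0 := hkill' (Sum.inl (k, t))
    simp only [Sum.elim_inl, map_sub, map_mul, map_sum, sub_eq_zero] at h0
    rw [h0]
    exact sum_mem fun j _ => Ideal.mul_mem_left _ _ (Ideal.subset_span ⟨j, rfl⟩)
  · have h0 := hkill' (Sum.inr PUnit.unit)
    simp only [Sum.elim_inr, map_sub, map_add, map_one, map_mul, map_sum, sub_eq_zero] at h0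
    rw [← h0]
    exact Submodule.mem_sup.2 ⟨_, sum_mem fun k _ => Ideal.mul_mem_left _ _ (Ideal.subset_span ⟨k, rfl⟩),
      _, sum_mem fun t _ => Ideal.mul_mem_left _ _ (hI t), rfl⟩

end Groth.Agent.RelGCI94
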