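import Groth.Agent.RelGCI94.Pointwise

/-! Ideals of regular local rings generated by regular sequences, by counting generators. -/

set_option autoImplicit false
universe u

open IsLocalRing TensorProduct

namespace Groth.Agent.RelGCI94

/-- `J` is cut out by as many equations as its codimension. -/
def CountCI {P : Type u} [CommRing P] (J : Ideal P) : Prop :=
  ringKrullDim (P ⧸ J) + (J.spanFinrank : WithBot ℕ∞) = ringKrullDim P

theorem exists_dim {A : Type u} [CommRing A] [IsLocalRing A] [IsNoetherianRing A] :
    ∃ d : ℕ, ringKrullDim A = (d : WithBot ℕ∞) := by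
  have h : ringKrullDim A ≠ ⊤ := ringKrullDim_lt_top.ne
  have h' : ringKrullDim A ≠ ⊥ := ringKrullDim_ne_bot
  revert h h'
  generalize ringKrullDim A = x
  intro h h'
  induction x with
  | bot => exact absurd rfl h'
  | coe x =>
    induction x with
    | top => exact absurd rfl h
    | coe x => exact ⟨x, rfl⟩

theorem exists_dim_quotient {A : Type u} [CommRing A] [IsLocalRing A] [IsNoetherianRing A] (J : Ideal A)
    (hJ : J ≠ ⊤) : ∃ d : ℕ, ringKrullDim (A ⧸ J) = (d : WithBot ℕ∞) := by
  have : Nontrivial (A ⧸ J) := Ideal.Quotient.nontrivial_iff.2 hJ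
  have : IsLocalRing (A ⧸ J) := IsLocalRing.of_surjective' (Ideal.Quotient.mk J) Ideal.Quotient.mk_surjective
  exact exists_dim

variable {P : Type u} [CommRing P] [IsLocalRing P] [IsNoetherianRing P]

theorem dim_le_quotient_add (J : Ideal P) (hJ : J ≠ ⊤) :
    ringKrullDim P ≤ ringKrullDim (P ⧸ J) + (J.spanFinrank : WithBot ℕ∞) :=
  ringKrullDim_le_ringKrullDim_quotient_add_spanFinrank J
    (((IsLocalRing.le_maximalIdeal hJ).trans (IsLocalRing.maximalIdeal_le_jacobson _)).trans_eq Ideal.jacobson_bot)

theorem countCI_of_span {c : ℕ} (g : Fin c → P) (hm : ∀ i, g i ∈ maximalIdeal P)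
    (hd : ringKrullDim (P ⧸ Ideal.span (Set.range g)) + (c : WithBot ℕ∞) ≤ ringKrullDim P) :
    CountCI (Ideal.span (Set.range g)) := by
  have hJ : Ideal.span (Set.range g) ≠ ⊤ := fun h => (maximalIdeal.isMaximal P).ne_top
    (top_le_iff.1 (h ▸ Ideal.span_le.2 (by rintro _ ⟨i, rfl⟩; exact hm i)))
  have h1 : (Ideal.span (Set.range g)).spanFinrank ≤ c := by
    refine (Submodule.spanFinrank_span_le_ncard_of_finite (Set.finite_range g)).trans ?_
    simpa using Set.ncard_image_le (f := g) (s := Set.univ) Set.finite_univ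
  exact le_antisymm ((add_le_add le_rfl (Nat.cast_le.2 h1)).trans hd) (dim_le_quotient_add _ hJ)

theorem countCI_of_isRegular {rs : List P} (hm : ∀ r ∈ rs, r ∈ maximalIdeal P)
    (h : RingTheory.Sequence.IsWeaklyRegular P rs) : CountCI (Ideal.ofList rs) := by
  have h1 := Module.supportDim_add_length_eq_supportDim_of_isRegular rs (LC16.isRegular_of_weakly h hm)
  rw [Module.supportDim_self_eq_ringKrullDim,
    Module.supportDim_eq_of_equiv (Submodule.quotEquivOfEq _ (Ideal.ofList rs)
      (by rw [Ideal.smul_eq_mul, Ideal.mul_top])), Module.supportDim_quotient_eq_ringKrullDim] at h1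
  have e : Ideal.span (Set.range rs.get) = Ideal.ofList rs := by rw [Set.range_list_get]
  have := countCI_of_span rs.get (fun i => hm _ (rs.get_mem i)) (by rw [e]; exact h1.le)
  rwa [e] at this

theorem CountCI.exists_span {J : Ideal P} (h : CountCI J) (hJ : J ≠ ⊤) :
    ∃ (r : ℕ) (g : Fin r → P), Ideal.span (Set.range g) = J ∧ (∀ i, g i ∈ maximalIdeal P) ∧
      ringKrullDim (P ⧸ J) + (r : WithBot ℕ∞) = ringKrullDim P := by
  obtain ⟨s, hcard, hspan⟩ := Submodule.FG.exists_span_finset_card_eq_spanFinrank J.fg_of_isNoetherianRing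
  let e := s.equivFin
  refine ⟨s.card, fun i => (e.symm i : P), ?_, fun i => ?_, by rw [hcard]; exact h⟩
  · refine Eq.trans ?_ hspan
    show Ideal.span _ = Submodule.span P _
    congr 1
    ext x
    refine ⟨fun ⟨i, hi⟩ => hi ▸ (e.symm i).2, fun hx => ⟨e ⟨x, hx⟩, by simp⟩⟩
  · exact IsLocalRing.le_maximalIdeal hJ (hspan ▸ Submodule.subset_span (e.symm i).2)

theorem CountCI.exists_isRegular {P : Type u} [CommRing P] [IsRegularLocalRing P] {J : Ideal P} (h : CountCI J)
    (hJ : J ≠ ⊤) :
    ∃ rs : List P, (∀ r ∈ rs, r ∈ maximalIdeal P) ∧ RingTheory.Sequence.IsRegular P rs ∧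
      Ideal.ofList rs = J := by
  obtain ⟨r, g, hg, hm, hd⟩ := h.exists_span hJ
  have e : Ideal.ofList (List.ofFn g) = J := by
    rw [← hg, Ideal.ofList]
    congr 1
    ext x
    simp
  have hm' : ∀ x ∈ List.ofFn g, x ∈ maximalIdeal P := fun x hx => by
    obtain ⟨i, rfl⟩ := List.mem_ofFn.1 hx
    exact hm i
  refine ⟨List.ofFn g, hm', LC16.isRegular_of_weakly (EGA4Alg4.isWeaklyRegular_of_supportDim
    (CAlg1.cm_of_isRegularLocalRing P).supportDim_eq_depth hm' ?_) hm', e⟩
  rw [Module.supportDim_eq_of_equiv (Submodule.quotEquivOfEq _ J (by rw [Ideal.smul_eq_mul, Ideal.mul_top, e])),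
    Module.supportDim_quotient_eq_ringKrullDim, Module.supportDim_self_eq_ringKrullDim, List.length_ofFn]
  exact hd

/-- Dividing by an element of the ideal outside `m²` drops the number of generators by one. -/
theorem spanFinrank_map_quotient_succ {J : Ideal P} (hJ : J ≠ ⊤) {x : P} (hx : x ∈ J)
    (hx2 : x ∉ maximalIdeal P ^ 2) :
    (J.map (Ideal.Quotient.mk (Ideal.span {x}))).spanFinrank + 1 = J.spanFinrank := by
  classical
  let q := Ideal.Quotient.mk (Ideal.span ({x} : Set P))
  refine le_antisymm ?_ ?_
  · obtain ⟨s, hcard, hspan⟩ := Submodule.FG.exists_span_finset_card_eq_spanFinrank J.fg_of_isNoetherianRing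
    obtain ⟨a, ha, hax⟩ := Submodule.mem_span_finset.1 (hspan ▸ hx : x ∈ Submodule.span P (s : Set P))
    have hsm : ∀ y ∈ s, y ∈ maximalIdeal P := fun y hy =>
      IsLocalRing.le_maximalIdeal hJ (hspan ▸ Submodule.subset_span hy)
    obtain ⟨j, hj, hju⟩ : ∃ j ∈ s, IsUnit (a j) := by
      by_contra hne
      push Not at hne
      refine hx2 ?_
      rw [← hax, pow_two]
      exact sum_mem fun y hy => Ideal.mul_mem_mul (hne y hy) (hsm y hy)
    have hgen : J.map q ≤ Ideal.span (q '' ((s.erase j : Finset P) : Set P)) := by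
      rw [← hspan, Ideal.submodule_span_eq, Ideal.map_span, Ideal.span_le]
      rintro _ ⟨y, hy, rfl⟩
      by_cases hyj : y = j
      · subst hyj
        have h0 : q (∑ z ∈ s, a z • z) = 0 := by
          rw [hax]
          exact Ideal.Quotient.eq_zero_iff_mem.2 (Ideal.mem_span_singleton_self x)
        rw [← Finset.add_sum_erase s _ hj, map_add, smul_eq_mul, map_mul, add_eq_zero_iff_eq_neg] at h0
        obtain ⟨v, hv⟩ := hju.exists_left_inv
        have : q y = q v * (q (a y) * q y) := by rw [← mul_assoc, ← map_mul, hv, map_one, one_mul]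
        rw [this, h0]
        refine Ideal.mul_mem_left _ _ (neg_mem ?_)
        rw [map_sum]
        exact sum_mem fun z hz => by
          rw [smul_eq_mul, map_mul]
          exact Ideal.mul_mem_left _ _ (Ideal.subset_span ⟨z, hz, rfl⟩)
      · exact Ideal.subset_span ⟨y, Finset.mem_erase.2 ⟨hyj, hy⟩, rfl⟩
    have heq : J.map q = Ideal.span (q '' ((s.erase j : Finset P) : Set P)) := by
      refine le_antisymm hgen ?_
      rw [← hspan, Ideal.submodule_span_eq, Ideal.map_span]
      exact Ideal.span_mono (Set.image_mono (Finset.coe_subset.2 (Finset.erase_subset _ _)))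
    have h1 : (J.map q).spanFinrank ≤ (s.erase j).card := by
      rw [heq]
      refine (Submodule.spanFinrank_span_le_ncard_of_finite ((Finset.finite_toSet _).image _)).trans ?_
      exact (Set.ncard_image_le (Finset.finite_toSet _)).trans (Set.ncard_coe_finset _).le
    have h2 := Finset.card_erase_add_one hj
    show (J.map q).spanFinrank + 1 ≤ _
    omega
  · obtain ⟨s, hcard, hspan⟩ := Submodule.FG.exists_span_finset_card_eq_spanFinrank (J.map q).fg_of_isNoetherianRing
    have hlift : ∀ y : s, ∃ z ∈ J, q z = y.1 := fun y =>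
      (Ideal.mem_map_iff_of_surjective q Ideal.Quotient.mk_surjective).1 (hspan ▸ Submodule.subset_span y.2)
    choose z hzJ hz using hlift
    let t : Finset P := insert x (Finset.univ.image z)
    have hJt : J = Ideal.span (t : Set P) := by
      refine le_antisymm (fun w hw => ?_) (Ideal.span_le.2 fun y hy => ?_)
      · have h1 : q w ∈ Ideal.map q (Ideal.span (Set.range z)) := by
          rw [Ideal.map_span, ← Set.range_comp]
          have : q w ∈ J.map q := Ideal.mem_map_of_mem q hw
          rw [← hspan] at this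
          refine (Ideal.span_mono ?_) this
          intro y hy
          exact ⟨⟨y, hy⟩, hz ⟨y, hy⟩⟩
        obtain ⟨w', hw', he⟩ := (Ideal.mem_map_iff_of_surjective q Ideal.Quotient.mk_surjective).1 h1
        have h2 : w - w' ∈ Ideal.span ({x} : Set P) := Ideal.Quotient.eq.1 he.symm
        rw [← sub_add_cancel w w']
        refine add_mem ((Ideal.span_mono (by simp [t])) h2) ((Ideal.span_mono ?_) hw')
        intro y hy
        simp [t] at hy ⊢
        exact Or.inr hy
      · rcases Finset.mem_insert.1 hy with rfl | hy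
        · exact hx
        · obtain ⟨y, -, rfl⟩ := Finset.mem_image.1 hy
          exact hzJ y
    rw [← hcard, hJt]
    refine (Submodule.spanFinrank_span_le_ncard_of_finite (Finset.finite_toSet t)).trans ?_
    rw [Set.ncard_coe_finset]
    exact (Finset.card_insert_le _ _).trans (Nat.add_le_add_right (Finset.card_image_le.trans (by simp)) 1)

/-- Counting is insensitive to the regular local ring presenting the quotient. -/
theorem countCI_comap_iff : ∀ (d : ℕ) {P' P : Type u} [CommRing P'] [IsRegularLocalRing P']
    [CommRing P] [IsRegularLocalRing P], (maximalIdeal P').spanFinrank = d →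
    ∀ (π : P' →+* P), Function.Surjective π → ∀ (J : Ideal P), J ≠ ⊤ →
      (CountCI (J.comap π) ↔ CountCI J) := by
  intro d
  induction d using Nat.strong_induction_on with
  | _ d ih =>
    intro P' P _ _ _ _ hd π hπ J hJ
    by_cases hinj : Function.Injective π
    · let e := RingEquiv.ofBijective π ⟨hinj, hπ⟩
      have hJ' : J.comap π = J.map e.symm.toRingHom := (Ideal.map_symm e).symm
      have h1 : ringKrullDim (P' ⧸ J.comap π) = ringKrullDim (P ⧸ J) :=
        ringKrullDim_eq_of_ringEquiv (RingEquiv.ofBijective (Ideal.quotientMap J π le_rfl)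
          ⟨Ideal.quotientMap_injective, Ideal.quotientMap_surjective hπ⟩)
      have h2 : (J.comap π).spanFinrank = J.spanFinrank := by
        refine le_antisymm ?_ ?_
        · rw [hJ']
          exact Ideal.spanFinrank_map_le_of_fg _ J.fg_of_isNoetherianRing
        · conv_lhs => rw [← Ideal.map_comap_of_surjective π hπ J]
          exact Ideal.spanFinrank_map_le_of_fg _ (J.comap π).fg_of_isNoetherianRing
      unfold CountCI
      rw [h1, h2, ringKrullDim_eq_of_ringEquiv e]
    · -- an element of the kernel outside `m²`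
      have hker : RingHom.ker π ≠ ⊥ := fun h => hinj ((RingHom.injective_iff_ker_eq_bot π).2 h)
      have := CAlg1.isDomain_regular P'
      have hdim : ringKrullDim P + 1 ≤ ringKrullDim P' := by
        rw [← ringKrullDim_eq_of_ringEquiv (RingHom.quotientKerEquivOfSurjective hπ)]
        exact CAlg1.ringKrullDim_quotient_succ_le_of_domain hker
      obtain ⟨x, hxk, hx2⟩ : ∃ x ∈ RingHom.ker π, x ∉ maximalIdeal P' ^ 2 := by
        by_contra hne
        push Not at hne
        have : IsLocalHom π := IsLocalHom.of_surjective π hπ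
        have hmap : (maximalIdeal P').map π = maximalIdeal P := by
          rw [← CAlg1.comap_maximalIdeal_of_surjective π hπ, Ideal.map_comap_of_surjective π hπ]
        obtain ⟨s, hcard, hspan⟩ := Submodule.FG.exists_span_finset_card_eq_spanFinrank
          (maximalIdeal P).fg_of_isNoetherianRing
        choose l hl using hπ
        let N : Ideal P' := Ideal.span (l '' (s : Set P))
        have hle : maximalIdeal P' ≤ N := by
          refine Submodule.le_of_le_smul_of_le_jacobson_bot (maximalIdeal P').fg_of_isNoetherianRing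
            (maximalIdeal_le_jacobson _) (fun y hy => ?_)
          have hy' : π y ∈ N.map π := by
            have : π y ∈ maximalIdeal P := hmap ▸ Ideal.mem_map_of_mem π hy
            rw [Ideal.map_span, ← Set.image_comp, show π ∘ l = id from funext hl, Set.image_id]
            rw [← hspan] at this
            exact this
          obtain ⟨z, hz, he⟩ := (Ideal.mem_map_iff_of_surjective π (fun p => ⟨l p, hl p⟩)).1 hy'
          have h2 : y - z ∈ maximalIdeal P' ^ 2 := hne _ (by rw [RingHom.mem_ker, map_sub, he, sub_self])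
          rw [← add_sub_cancel z y]
          refine add_mem (Submodule.mem_sup_left hz) (Submodule.mem_sup_right ?_)
          rw [smul_eq_mul, ← pow_two]
          exact h2
        have h3 : (maximalIdeal P').spanFinrank ≤ (maximalIdeal P).spanFinrank := by
          have heq : maximalIdeal P' = N := le_antisymm hle (Ideal.span_le.2 (by
            rintro _ ⟨y, hy, rfl⟩
            rw [SetLike.mem_coe, ← CAlg1.comap_maximalIdeal_of_surjective π (fun p => ⟨l p, hl p⟩),
              Ideal.mem_comap, hl]
            exact hspan ▸ Submodule.subset_span hy))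
          rw [heq, ← hcard]
          refine (Submodule.spanFinrank_span_le_ncard_of_finite ((Finset.finite_toSet s).image l)).trans ?_
          exact (Set.ncard_image_le (Finset.finite_toSet s)).trans (Set.ncard_coe_finset _).le
        rw [← IsRegularLocalRing.spanFinrank_maximalIdeal (R := P'),
          ← IsRegularLocalRing.spanFinrank_maximalIdeal (R := P)] at hdim
        have : (maximalIdeal P).spanFinrank + 1 ≤ (maximalIdeal P').spanFinrank := by exact_mod_cast hdim
        omega
      have hxm : x ∈ maximalIdeal P' := IsLocalRing.le_maximalIdeal (RingHom.ker_ne_top π) hxk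
      obtain ⟨hreg, hdim'⟩ := CAlg1.regular_quotient_singleton hxm hx2
      let q := Ideal.Quotient.mk (Ideal.span ({x} : Set P'))
      let π' : P' ⧸ Ideal.span ({x} : Set P') →+* P :=
        Ideal.Quotient.lift _ π fun a ha => (Ideal.span_le.2 (Set.singleton_subset_iff.2 hxk) : _ ≤ RingHom.ker π) ha
      have hπ' : Function.Surjective π' := fun p => by
        obtain ⟨a, ha⟩ := hπ p
        exact ⟨q a, ha⟩
      obtain ⟨a, ha⟩ := exists_dim (A := P' ⧸ Ideal.span ({x} : Set P'))
      have hlt : (maximalIdeal (P' ⧸ Ideal.span ({x} : Set P'))).spanFinrank < d := by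
        rw [← IsRegularLocalRing.spanFinrank_maximalIdeal (R := P' ⧸ Ideal.span ({x} : Set P')),
          ← IsRegularLocalRing.spanFinrank_maximalIdeal (R := P'), hd] at hdim'
        have : (maximalIdeal (P' ⧸ Ideal.span ({x} : Set P'))).spanFinrank + 1 = d := by exact_mod_cast hdim'
        omega
      rw [← ih _ hlt rfl π' hπ' J hJ]
      have hK : (J.comap π).map q = J.comap π' := by
        rw [show J.comap π = (J.comap π').comap q from (Ideal.comap_comap q π').symm,
          Ideal.map_comap_of_surjective q Ideal.Quotient.mk_surjective]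
      have hJ'ne : J.comap π ≠ ⊤ := fun h => hJ (by
        rw [← Ideal.map_comap_of_surjective π hπ J, h, Ideal.map_top])
      have hμ := spanFinrank_map_quotient_succ hJ'ne (show x ∈ J.comap π by
        rw [Ideal.mem_comap, RingHom.mem_ker.1 hxk]; exact zero_mem _) hx2
      have hq : ringKrullDim (P' ⧸ J.comap π) = ringKrullDim ((P' ⧸ Ideal.span ({x} : Set P')) ⧸ J.comap π') :=
        ringKrullDim_eq_of_ringEquiv (RingEquiv.ofBijective
          (Ideal.quotientMap (J.comap π') q (Ideal.comap_comap q π').ge)
          ⟨Ideal.quotientMap_injective' (Ideal.comap_comap q π').le,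
            Ideal.quotientMap_surjective Ideal.Quotient.mk_surjective⟩)
      rw [hK] at hμ
      obtain ⟨b, hb⟩ := exists_dim_quotient (J.comap π') (fun h => hJ (by
        rw [← Ideal.map_comap_of_surjective π' hπ' J, h, Ideal.map_top]))
      unfold CountCI
      rw [hq, ← hμ, ← hdim', hb, ha]
      norm_cast
      omega

/-- Dimension of a flat local extension. -/
theorem ringKrullDim_eq_add_of_flat {R S : Type u} [CommRing R] [IsLocalRing R] [IsNoetherianRing R]
    [CommRing S] [IsLocalRing S] [IsNoetherianRing S] [Algebra R S] [IsLocalHom (algebraMap R S)]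
    [Module.Flat R S] :
    ringKrullDim S = ringKrullDim R + ringKrullDim (S ⧸ (maximalIdeal R).map (algebraMap R S)) := by
  have : (maximalIdeal S).LiesOver (maximalIdeal R) :=
    ⟨(IsLocalRing.maximalIdeal_comap (algebraMap R S)).symm⟩
  have hne : (maximalIdeal R).map (algebraMap R S) ≠ ⊤ := fun h => (maximalIdeal.isMaximal S).ne_top
    (top_le_iff.1 (h ▸ (((local_hom_TFAE (algebraMap R S)).out 0 2 :).mp ‹_›)))
  have : Nontrivial (S ⧸ (maximalIdeal R).map (algebraMap R S)) := Ideal.Quotient.nontrivial_iff.2 hne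
  have : IsLocalRing (S ⧸ (maximalIdeal R).map (algebraMap R S)) :=
    IsLocalRing.of_surjective' (Ideal.Quotient.mk _) Ideal.Quotient.mk_surjective
  rw [← maximalIdeal_height_eq_ringKrullDim, ← maximalIdeal_height_eq_ringKrullDim,
    ← maximalIdeal_height_eq_ringKrullDim,
    Ideal.height_eq_height_add_of_liesOver_of_hasGoingDown (maximalIdeal R) (maximalIdeal S), WithBot.coe_add,
    CAlg1.maximalIdeal_quotient]

theorem spanFinrank_map_of_flat {R S : Type u} [CommRing R] [IsLocalRing R] [IsNoetherianRing R]
    [CommRing S] [IsLocalRing S] [IsNoetherianRing S] [Algebra R S] [IsLocalHom (algebraMap R S)]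
    [Module.Flat R S] (J : Ideal R) : (J.map (algebraMap R S)).spanFinrank = J.spanFinrank := by
  let f := Algebra.linearMap R S
  refine le_antisymm (Ideal.spanFinrank_map_le_of_fg _ J.fg_of_isNoetherianRing) ?_
  have e : S ⊗[R] J ≃ₗ[S] (J.map (algebraMap R S)) := by
    let μ : S ⊗[R] J →ₗ[S] S := (AlgebraTensorModule.rid R S S).toLinearMap ∘ₗ (J.subtype.baseChange S)
    have hinj : Function.Injective μ := by
      simp only [μ, LinearMap.coe_comp, LinearEquiv.coe_coe]
      exact (LinearEquiv.injective _).comp
        (Module.Flat.lTensor_preserves_injective_linearMap _ J.injective_subtype)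
    have hrange : LinearMap.range μ = J.map (algebraMap R S) := by
      refine le_antisymm ?_ (Ideal.map_le_iff_le_comap.2 fun x hx => ⟨(1 : S) ⊗ₜ ⟨x, hx⟩, by
        simp [μ, Algebra.smul_def]⟩)
      rintro _ ⟨t, rfl⟩
      induction t using TensorProduct.induction_on with
      | zero => simp
      | tmul a b =>
        show μ (a ⊗ₜ b) ∈ J.map (algebraMap R S)
        simp only [μ, LinearMap.coe_comp, LinearEquiv.coe_coe, Function.comp_apply, LinearMap.baseChange_tmul,
          Submodule.subtype_apply, AlgebraTensorModule.rid_tmul, Algebra.smul_def]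
        exact Ideal.mul_mem_right _ _ (Ideal.mem_map_of_mem _ b.2)
      | add a b ha hb => rw [map_add]; exact add_mem ha hb
    exact (LinearEquiv.ofInjective μ hinj).trans (LinearEquiv.ofEq _ _ hrange)
  have hS := TensorProduct.spanFinrank_top_eq_of_residueField (R := S) (J.map (algebraMap R S))
    (J.map (algebraMap R S)).fg_of_isNoetherianRing
  have hR := TensorProduct.spanFinrank_top_eq_of_residueField (R := R) J J.fg_of_isNoetherianRing
  rw [← Module.finrank_eq_spanFinrank_of_free] at hR hS
  refine le_of_eq ?_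
  rw [← hR, ← hS]
  calc Module.finrank (ResidueField R) (ResidueField R ⊗[R] J)
      = Module.finrank (ResidueField S) (ResidueField S ⊗[ResidueField R] (ResidueField R ⊗[R] J)) :=
        (Module.finrank_baseChange).symm
    _ = Module.finrank (ResidueField S) (ResidueField S ⊗[R] J) :=
        (AlgebraTensorModule.cancelBaseChange R (ResidueField R) (ResidueField S) _ _).finrank_eq
    _ = Module.finrank (ResidueField S) (ResidueField S ⊗[S] (S ⊗[R] J)) :=
        (AlgebraTensorModule.cancelBaseChange R S (ResidueField S) _ _).finrank_eq.symm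
    _ = Module.finrank (ResidueField S) (ResidueField S ⊗[S] (J.map (algebraMap R S))) :=
        (e.baseChange S (ResidueField S)).finrank_eq

/-- Counting is invariant under flat local extensions. -/
theorem countCI_map_iff {R S : Type u} [CommRing R] [IsLocalRing R] [IsNoetherianRing R]
    [CommRing S] [IsLocalRing S] [IsNoetherianRing S] [Algebra R S] [IsLocalHom (algebraMap R S)]
    [Module.Flat R S] (J : Ideal R) (hJ : J ≠ ⊤) : CountCI (J.map (algebraMap R S)) ↔ CountCI J := by
  let JS := J.map (algebraMap R S)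
  have hJm : JS ≤ maximalIdeal S :=
    (Ideal.map_mono (IsLocalRing.le_maximalIdeal hJ)).trans (((local_hom_TFAE (algebraMap R S)).out 0 2 :).mp ‹_›)
  have : Nontrivial (R ⧸ J) := Ideal.Quotient.nontrivial_iff.2 hJ
  have : IsLocalRing (R ⧸ J) := IsLocalRing.of_surjective' (Ideal.Quotient.mk J) Ideal.Quotient.mk_surjective
  have : Nontrivial (S ⧸ JS) := Ideal.Quotient.nontrivial_iff.2 fun h =>
    (maximalIdeal.isMaximal S).ne_top (top_le_iff.1 (h ▸ hJm))
  have : IsLocalRing (S ⧸ JS) := IsLocalRing.of_surjective' (Ideal.Quotient.mk JS) Ideal.Quotient.mk_surjective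
  let _ : Algebra (R ⧸ J) (S ⧸ JS) := (Ideal.quotientMap JS (algebraMap R S) Ideal.le_comap_map).toAlgebra
  have : IsScalarTower R (R ⧸ J) (S ⧸ JS) := IsScalarTower.of_algebraMap_eq fun r => rfl
  have : IsLocalHom (algebraMap (R ⧸ J) (S ⧸ JS)) := by
    refine ((local_hom_TFAE (algebraMap (R ⧸ J) (S ⧸ JS))).out 0 2 :).mpr ?_
    rw [CAlg1.maximalIdeal_quotient, CAlg1.maximalIdeal_quotient, Ideal.map_map]
    refine (le_of_eq ?_).trans (Ideal.map_mono (((local_hom_TFAE (algebraMap R S)).out 0 2 :).mp ‹_›))
    rw [Ideal.map_map]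
    exact congrArg (fun φ => (maximalIdeal R).map φ) (RingHom.ext fun r => rfl)
  have : Module.Flat (R ⧸ J) (S ⧸ JS) := by
    let e : ((R ⧸ J) ⊗[R] S) ≃ₗ[R] (S ⧸ JS) :=
      ((TensorProduct.quotTensorEquivQuotSMul S J).trans (Submodule.quotEquivOfEq _ _
        (Ideal.smul_top_eq_map J))).trans (Submodule.Quotient.restrictScalarsEquiv R JS)
    have he : ∀ (a : R ⧸ J) (x : (R ⧸ J) ⊗[R] S), e (a • x) = a • e x := by
      intro a x
      obtain ⟨r, rfl⟩ := Ideal.Quotient.mk_surjective a
      rw [show (Ideal.Quotient.mk J r) • x = r • x from by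
          rw [← Ideal.Quotient.algebraMap_eq, IsScalarTower.algebraMap_smul],
        show (Ideal.Quotient.mk J r) • e x = r • e x from by
          rw [← Ideal.Quotient.algebraMap_eq, IsScalarTower.algebraMap_smul], map_smul]
    exact Module.Flat.of_linearEquiv
      { e.symm.toAddEquiv with
        map_smul' := fun a x => by
          apply e.injective
          show e (e.symm (a • x)) = e (a • e.symm x)
          rw [he, LinearEquiv.apply_symm_apply, LinearEquiv.apply_symm_apply] }
  have hm : ((maximalIdeal (R ⧸ J)).map (algebraMap (R ⧸ J) (S ⧸ JS))) =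
      ((maximalIdeal R).map (algebraMap R S)).map (Ideal.Quotient.mk JS) := by
    rw [CAlg1.maximalIdeal_quotient, Ideal.map_map, Ideal.map_map]
    exact congrArg (fun φ => (maximalIdeal R).map φ) (RingHom.ext fun r => rfl)
  have hq : ringKrullDim (S ⧸ JS) = ringKrullDim (R ⧸ J) +
      ringKrullDim (S ⧸ (maximalIdeal R).map (algebraMap R S)) := by
    rw [ringKrullDim_eq_add_of_flat (R := R ⧸ J) (S := S ⧸ JS), hm,
      ringKrullDim_eq_of_ringEquiv (DoubleQuot.quotQuotEquivQuotOfLE
        (Ideal.map_mono (IsLocalRing.le_maximalIdeal hJ) : JS ≤ (maximalIdeal R).map (algebraMap R S)))]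
  have hne : (maximalIdeal R).map (algebraMap R S) ≠ ⊤ := fun h => (maximalIdeal.isMaximal S).ne_top
    (top_le_iff.1 (h ▸ (((local_hom_TFAE (algebraMap R S)).out 0 2 :).mp ‹_›)))
  obtain ⟨a, ha⟩ := exists_dim_quotient J hJ
  obtain ⟨b, hb⟩ := exists_dim_quotient ((maximalIdeal R).map (algebraMap R S)) hne
  obtain ⟨d, hd⟩ := exists_dim (A := R)
  unfold CountCI
  rw [hq, spanFinrank_map_of_flat, ringKrullDim_eq_add_of_flat (R := R) (S := S), ha, hb, hd]
  norm_cast
  omega

end Groth.Agent.RelGCI94
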