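import Groth.Agent.RelGCI94.CountCI

/-! Local complete intersection rings over a field do not depend on the presentation. -/

set_option autoImplicit false
universe u

open IsLocalRing TensorProduct MvPolynomial

namespace Groth.Agent.RelGCI94

section Dim

/-- Regularity is a dimension count. -/
theorem isWeaklyRegular_iff_dim {P : Type u} [CommRing P] [IsRegularLocalRing P] {c : ℕ} (g : Fin c → P)
    (hm : ∀ i, g i ∈ maximalIdeal P) :
    RingTheory.Sequence.IsWeaklyRegular P (List.ofFn g) ↔
      ringKrullDim (P ⧸ Ideal.span (Set.range g)) + (c : WithBot ℕ∞) ≤ ringKrullDim P := by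
  have e : Ideal.ofList (List.ofFn g) = Ideal.span (Set.range g) := by
    rw [Ideal.ofList]
    congr 1
    ext x
    simp
  have hm' : ∀ x ∈ List.ofFn g, x ∈ maximalIdeal P := fun x hx => by
    obtain ⟨i, rfl⟩ := List.mem_ofFn.1 hx
    exact hm i
  constructor
  · intro h
    have h1 := Module.supportDim_add_length_eq_supportDim_of_isRegular _ (LC16.isRegular_of_weakly h hm')
    rw [Module.supportDim_self_eq_ringKrullDim,
      Module.supportDim_eq_of_equiv (Submodule.quotEquivOfEq _ (Ideal.span (Set.range g))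
        (by rw [Ideal.smul_eq_mul, Ideal.mul_top, e])), Module.supportDim_quotient_eq_ringKrullDim,
      List.length_ofFn] at h1
    exact h1.le
  · intro h
    refine EGA4Alg4.isWeaklyRegular_of_supportDim (CAlg1.cm_of_isRegularLocalRing P).supportDim_eq_depth hm' ?_
    rw [Module.supportDim_eq_of_equiv (Submodule.quotEquivOfEq _ (Ideal.span (Set.range g))
        (by rw [Ideal.smul_eq_mul, Ideal.mul_top, e])), Module.supportDim_quotient_eq_ringKrullDim,
      Module.supportDim_self_eq_ringKrullDim, List.length_ofFn]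
    refine le_antisymm h ?_
    have hJ : Ideal.span (Set.range g) ≠ ⊤ := fun ht => (maximalIdeal.isMaximal P).ne_top
      (top_le_iff.1 (ht ▸ Ideal.span_le.2 (by rintro _ ⟨i, rfl⟩; exact hm i)))
    refine (dim_le_quotient_add _ hJ).trans (add_le_add le_rfl (Nat.cast_le.2 ?_))
    refine (Submodule.spanFinrank_span_le_ncard_of_finite (Set.finite_range g)).trans ?_
    simpa using Set.ncard_image_le (f := g) (s := Set.univ) Set.finite_univ

end Dim

variable {k S : Type u} [Field k] [CommRing S] [Algebra k S] [IsLocalRing S]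

section Pres

variable {R : Type u} [CommRing R] [IsLocalRing R] [Algebra k R] {ι : Type u}

/-- A local algebra essentially of finite type is a quotient of a local ring of affine space. -/
theorem exists_surjective_localization [Algebra.EssFiniteType k R] (φ : MvPolynomial ι k →ₐ[k] R)
    (h : ∀ s ∈ Algebra.EssFiniteType.finset k R, s ∈ φ.range) :
    ∃ Φ : Localization.AtPrime ((maximalIdeal R).comap φ) →ₐ[k] R,
      Function.Surjective Φ ∧ ∀ x, Φ (algebraMap _ _ x) = φ x := by
  have hu : ∀ y : ((maximalIdeal R).comap φ).primeCompl, IsUnit (φ y) := fun y => by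
    by_contra hy
    exact y.2 hy
  let Φ₀ : Localization.AtPrime ((maximalIdeal R).comap φ) →+* R :=
    IsLocalization.lift (M := ((maximalIdeal R).comap φ).primeCompl) (g := φ.toRingHom) hu
  have hΦ : ∀ x, Φ₀ (algebraMap _ _ x) = φ x := fun x => IsLocalization.lift_eq (g := φ.toRingHom) hu x
  refine ⟨{ Φ₀ with
    commutes' := fun r => by
      show Φ₀ (algebraMap k _ r) = algebraMap k R r
      rw [IsScalarTower.algebraMap_apply k (MvPolynomial ι k) (Localization.AtPrime ((maximalIdeal R).comap φ)), hΦ,
        AlgHom.commutes] }, fun z => ?_, hΦ⟩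
  have hle : Algebra.adjoin k (Algebra.EssFiniteType.finset k R : Set R) ≤ φ.range := Algebra.adjoin_le h
  obtain ⟨σ, hσ⟩ : ∃ σ : Finset R, σ = Algebra.EssFiniteType.finset k R := ⟨_, rfl⟩
  obtain ⟨t, ht, htu, htz⟩ :=
    (Algebra.essFiniteType_cond_iff k R (Algebra.EssFiniteType.finset k R)).1
      (Algebra.EssFiniteType.isLocalization (R := k) (S := R)) z
  obtain ⟨a, ha⟩ := hle htz
  obtain ⟨b, hb⟩ := hle ht
  have hb' : b ∈ ((maximalIdeal R).comap φ).primeCompl := fun hmem => by
    have : φ b ∈ maximalIdeal R := hmem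
    exact this (show IsUnit (φ b) by rw [show φ b = t from hb]; exact htu)
  refine ⟨IsLocalization.mk' _ a (⟨b, hb'⟩ : ((maximalIdeal R).comap φ).primeCompl), ?_⟩
  show Φ₀ _ = z
  rw [IsLocalization.lift_mk'_spec]
  show φ a = φ b * z
  rw [show φ a = z * t from ha, show φ b = t from hb, mul_comm]

end Pres

/-- **Independence of the presentation.** -/
theorem countCI_ker_iff {R R' : Type u} [CommRing R] [IsRegularLocalRing R] [Algebra k R]
    [Algebra.EssFiniteType k R] [CommRing R'] [IsRegularLocalRing R'] [Algebra k R']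
    [Algebra.EssFiniteType k R'] (π : R →ₐ[k] S) (hπ : Function.Surjective π)
    (π' : R' →ₐ[k] S) (hπ' : Function.Surjective π') :
    CountCI (RingHom.ker π) ↔ CountCI (RingHom.ker π') := by
  classical
  let σ := Algebra.EssFiniteType.finset k R
  let σ' := Algebra.EssFiniteType.finset k R'
  choose l hl using hπ
  choose l' hl' using hπ'
  let ι := ↥σ ⊕ ↥σ'
  let a : ι → R := Sum.elim (fun s => (s : R)) (fun s => l (π' s))
  let b : ι → R' := Sum.elim (fun s => l' (π s)) (fun s => (s : R'))
  have hab : ∀ i, π (a i) = π' (b i) := by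
    rintro (s | s)
    · exact (hl' _).symm
    · exact hl _
  let φ : MvPolynomial ι k →ₐ[k] R := aeval a
  let φ' : MvPolynomial ι k →ₐ[k] R' := aeval b
  have hcomp : π.comp φ = π'.comp φ' := algHom_ext fun i => by simp [φ, φ', hab]
  have : IsLocalHom π.toRingHom := IsLocalHom.of_surjective _ fun x => ⟨l x, hl x⟩
  have : IsLocalHom π'.toRingHom := IsLocalHom.of_surjective _ fun x => ⟨l' x, hl' x⟩
  have hM : (maximalIdeal R).comap φ = (maximalIdeal R').comap φ' := by
    rw [← CAlg1.comap_maximalIdeal_of_surjective π.toRingHom (fun x => ⟨l x, hl x⟩),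
      ← CAlg1.comap_maximalIdeal_of_surjective π'.toRingHom (fun x => ⟨l' x, hl' x⟩)]
    ext x
    simp only [Ideal.mem_comap, AlgHom.toRingHom_eq_coe, RingHom.coe_coe]
    rw [show π (φ x) = π' (φ' x) from AlgHom.congr_fun hcomp x]
  obtain ⟨Φ, hΦs, hΦ⟩ := exists_surjective_localization φ fun s hs => ⟨X (Sum.inl ⟨s, hs⟩), aeval_X _ _⟩
  obtain ⟨Φ', hΦ's, hΦ'⟩ := exists_surjective_localization φ' fun s hs => ⟨X (Sum.inr ⟨s, hs⟩), aeval_X _ _⟩
  let L := Localization.AtPrime ((maximalIdeal R).comap φ)
  let L' := Localization.AtPrime ((maximalIdeal R').comap φ')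
  let eL : L ≃ₐ[MvPolynomial ι k] L' :=
    haveI : IsLocalization.AtPrime L' ((maximalIdeal R).comap φ) := by
      show IsLocalization ((maximalIdeal R).comap φ).primeCompl L'
      convert (inferInstance : IsLocalization ((maximalIdeal R').comap φ').primeCompl L')
    IsLocalization.algEquiv ((maximalIdeal R).comap φ).primeCompl L L'
  let ρ : L →+* S := π.toRingHom.comp Φ.toRingHom
  have hρ : ρ = (π'.toRingHom.comp Φ'.toRingHom).comp eL.toRingEquiv.toRingHom :=
    IsLocalization.ringHom_ext ((maximalIdeal R).comap φ).primeCompl (RingHom.ext fun x => by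
      show π (Φ (algebraMap _ L x)) = π' (Φ' (eL (algebraMap _ L x)))
      rw [eL.commutes, hΦ, hΦ']
      exact AlgHom.congr_fun hcomp x)
  have hne : RingHom.ker π ≠ ⊤ := RingHom.ker_ne_top π.toRingHom
  have hne' : RingHom.ker π' ≠ ⊤ := RingHom.ker_ne_top π'.toRingHom
  have h1 := countCI_comap_iff _ rfl Φ.toRingHom hΦs (RingHom.ker π) hne
  have h2 := countCI_comap_iff _ rfl (Φ'.toRingHom.comp eL.toRingEquiv.toRingHom) (hΦ's.comp eL.surjective)
    (RingHom.ker π') hne'
  rw [← h1, ← h2]
  refine Iff.of_eq (congrArg _ ?_)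
  show (RingHom.ker π.toRingHom).comap _ = (RingHom.ker π'.toRingHom).comap _
  rw [RingHom.comap_ker, RingHom.comap_ker]
  exact congrArg RingHom.ker hρ

theorem isCIOver_of_countCI {R : Type u} [CommRing R] [IsRegularLocalRing R] [Algebra k R]
    [Algebra.EssFiniteType k R] (π : R →ₐ[k] S) (hπ : Function.Surjective π)
    (h : CountCI (RingHom.ker π)) : Synt.IsCIOver k S := by
  obtain ⟨rs, hm, hreg, hJ⟩ := h.exists_isRegular (RingHom.ker_ne_top π.toRingHom)
  exact ⟨R, inferInstance, inferInstance, inferInstance, inferInstance, rs, hm, hreg,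
    ⟨(Ideal.quotientKerAlgEquivOfSurjective hπ).symm.trans (Ideal.quotientEquivAlgOfEq k hJ.symm)⟩⟩

/-- A local ring is a complete intersection iff any presentation counts. -/
theorem isCIOver_iff {R : Type u} [CommRing R] [IsRegularLocalRing R] [Algebra k R]
    [Algebra.EssFiniteType k R] (π : R →ₐ[k] S) (hπ : Function.Surjective π) :
    Synt.IsCIOver k S ↔ CountCI (RingHom.ker π) := by
  refine ⟨?_, isCIOver_of_countCI π hπ⟩
  rintro ⟨R', _, _, _, _, rs, hm, hreg, ⟨e⟩⟩
  let π' : R' →ₐ[k] S := e.symm.toAlgHom.comp (Ideal.Quotient.mkₐ k _)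
  have hπ' : Function.Surjective π' := e.symm.surjective.comp Ideal.Quotient.mk_surjective
  have hker : RingHom.ker π' = Ideal.ofList rs := by
    ext x
    show e.symm (Ideal.Quotient.mk _ x) = 0 ↔ _
    rw [map_eq_zero_iff _ e.symm.injective, Ideal.Quotient.eq_zero_iff_mem]
  rw [countCI_ker_iff π hπ π' hπ', hker]
  exact countCI_of_isRegular hm hreg.toIsWeaklyRegular

omit [IsLocalRing S] in
theorem isCIOver_congr {T : Type u} [CommRing T] [Algebra k T] [IsLocalRing T] [IsLocalRing S] (e : S ≃ₐ[k] T)
    (h : Synt.IsCIOver k S) : Synt.IsCIOver k T := by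
  obtain ⟨R, _, _, _, hR, rs, hm, hreg, ⟨e'⟩⟩ := h
  exact ⟨R, inferInstance, inferInstance, inferInstance, hR, rs, hm, hreg, ⟨e.symm.trans e'⟩⟩

/-- The local rings of a quotient of affine space. -/
theorem isCIOver_atPrime_iff {n : ℕ} (J : Ideal (MvPolynomial (Fin n) k))
    (q : Ideal (MvPolynomial (Fin n) k ⧸ J)) [q.IsPrime] :
    Synt.IsCIOver k (Localization.AtPrime q) ↔
      CountCI (J.map (algebraMap _ (Localization.AtPrime (q.comap (Ideal.Quotient.mk J))))) := by
  let P := q.comap (Ideal.Quotient.mk J)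
  let L := Localization.AtPrime P
  let JL := J.map (algebraMap _ L)
  have := Gor18.isLocalization_atPrime_quotient P L J q rfl
  let e : (L ⧸ JL) ≃+* Localization.AtPrime q :=
    (IsLocalization.algEquiv q.primeCompl (L ⧸ JL) (Localization.AtPrime q)).toRingEquiv
  let π : L →ₐ[k] Localization.AtPrime q :=
    { e.toRingHom.comp (Ideal.Quotient.mk JL) with
      commutes' := fun r => by
        show e (Ideal.Quotient.mk JL (algebraMap k L r)) = _
        rw [IsScalarTower.algebraMap_apply k (MvPolynomial (Fin n) k ⧸ J) (Localization.AtPrime q),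
          ← (IsLocalization.algEquiv q.primeCompl (L ⧸ JL) (Localization.AtPrime q)).commutes]
        rfl }
  have hπ : Function.Surjective π := e.surjective.comp Ideal.Quotient.mk_surjective
  have : Algebra.EssFiniteType (MvPolynomial (Fin n) k) L := Algebra.EssFiniteType.of_isLocalization L P.primeCompl
  have : Algebra.EssFiniteType k L := Algebra.EssFiniteType.comp k (MvPolynomial (Fin n) k) L
  have hker : RingHom.ker π = JL := by
    ext x
    show e (Ideal.Quotient.mk JL x) = 0 ↔ _
    rw [map_eq_zero_iff _ e.injective, Ideal.Quotient.eq_zero_iff_mem]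
  rw [isCIOver_iff π hπ, hker]

/-- Complete intersection local rings of global complete intersections. -/
theorem isCIOver_atPrime_of_isGlobalCI {A : Type u} [CommRing A] [Algebra k A] (h : Synt.IsGlobalCI k A)
    (q : Ideal A) [q.IsPrime] : Synt.IsCIOver k (Localization.AtPrime q) := by
  obtain ⟨n, c, F, hF, ⟨e⟩⟩ := isGlobalCI_iff.1 h
  let q' := q.comap e.symm.toRingEquiv.toRingHom
  have h1 : Synt.IsCIOver k (Localization.AtPrime q') := by
    rw [isCIOver_atPrime_iff]
    let P := q'.comap (Ideal.Quotient.mk (Ideal.span (Set.range F)))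
    have hm : ∀ i, algebraMap _ (Localization.AtPrime P) (F i) ∈ maximalIdeal (Localization.AtPrime P) := fun i => by
      refine (IsLocalization.AtPrime.to_map_mem_maximal_iff _ P _).2 ?_
      show Ideal.Quotient.mk _ (F i) ∈ q'
      rw [Ideal.Quotient.eq_zero_iff_mem.2 (Ideal.subset_span (Set.mem_range_self i))]
      exact zero_mem _
    rw [Ideal.map_span, ← Set.range_comp]
    exact countCI_of_span _ hm ((isWeaklyRegular_iff_dim _ hm).1
      ((isRelGCI_field_iff_regular F).1 hF P fun i => (IsLocalization.AtPrime.to_map_mem_maximal_iff _ P _).1 (hm i)))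
  refine isCIOver_congr ?_ h1
  exact AlgEquiv.ofRingEquiv (f := Localization.localRingEquiv q' q e.symm.toRingEquiv rfl) fun r => by
    show Localization.localRingHom q' q e.symm.toRingEquiv.toRingHom rfl _ = _
    rw [IsScalarTower.algebraMap_apply k (Synt.RelGCIRing k n c F) (Localization.AtPrime q'),
      Localization.localRingHom_to_map, IsScalarTower.algebraMap_apply k A (Localization.AtPrime q)]
    exact congrArg _ (e.symm.commutes r)

end Groth.Agent.RelGCI94
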