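import Groth.Prelude.Def_RegImm
import Groth.Agent.E4O.FibreComp
import Groth.Agent.E4O.DimField
import Groth.Agent.S0402
import Mathlib

/-! Fibre dimensions of relative global complete intersections and the trick `h * X - 1`. -/

set_option autoImplicit false
universe u

open AlgebraicGeometry CategoryTheory TopologicalSpace MvPolynomial TensorProduct

namespace Groth.Agent.RelGCI94

variable (R : Type u) [CommRing R]

/-- the dimension of a fibre ring is the dimension of the fibre of spectra -/
theorem dim_fibre_eq (S : Type u) [CommRing S] [Algebra R S] (p : PrimeSpectrum R) :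
    topologicalKrullDim ↥(PrimeSpectrum.comap (algebraMap R S) ⁻¹' {p}) = ringKrullDim (p.asIdeal.Fiber S) := by
  rw [(PrimeSpectrum.preimageHomeomorphFiber R S p).isHomeomorph.topologicalKrullDim_eq,
    PrimeSpectrum.topologicalKrullDim_eq_ringKrullDim]

variable {R} in
/-- `Spec` of an algebra -/
noncomputable abbrev str (S : Type u) [CommRing S] [Algebra R S] : Spec (CommRingCat.of S) ⟶ Spec (CommRingCat.of R) :=
  Spec.map (CommRingCat.ofHom (algebraMap R S))

theorem locallyOfFiniteType_str (S : Type u) [CommRing S] [Algebra R S] [Algebra.FiniteType R S] :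
    LocallyOfFiniteType (str (R := R) S) := by
  rw [HasRingHomProperty.Spec_iff (P := @LocallyOfFiniteType)]
  exact RingHom.finiteType_algebraMap.2 ‹_›

theorem fibreDimAt_le_dim (S : Type u) [CommRing S] [Algebra R S] (q : PrimeSpectrum S) :
    FlatMor.fibreDimAt (str (R := R) S) q ≤
      ringKrullDim ((PrimeSpectrum.comap (algebraMap R S) q).asIdeal.Fiber S) := by
  exact ((E4O.fibreDimAt_eq_localDim (str (R := R) S) q).le.trans (TopDim50.localDim_le_dim _)).trans
    (dim_fibre_eq R S (PrimeSpectrum.comap (algebraMap R S) q)).le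

/-- chains of primes in a fibre are bounded by the local dimension at the bottom -/
theorem length_le_of_fibreDimAt_le (S : Type u) [CommRing S] [Algebra R S] [Algebra.FiniteType R S] (d : ℕ)
    (l : LTSeries (PrimeSpectrum S))
    (hl : ∀ i, PrimeSpectrum.comap (algebraMap R S) (l i) = PrimeSpectrum.comap (algebraMap R S) l.head)
    (hd : FlatMor.fibreDimAt (str (R := R) S) l.head ≤ d) : l.length ≤ d := by
  haveI := locallyOfFiniteType_str R S
  let f := str (R := R) S
  let x : Fin (l.length + 1) → Spec (CommRingCat.of S) := fun i => l i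
  have hf : ∀ i j, f (x i) = f (x j) := fun i j => (hl i).trans (hl j).symm
  have key : ∀ (i : ℕ) (hi : i < l.length + 1), E4O.fdeg f (x ⟨i, hi⟩) + i ≤ E4O.fdeg f (x 0) := by
    intro i
    induction i with
    | zero => intro hi; exact le_rfl
    | succ i ih =>
      intro hi
      have h1 := ih (by omega)
      have hlt : l ⟨i, by omega⟩ < l ⟨i + 1, hi⟩ := l.step ⟨i, by omega⟩
      have h2 := E4O.fdeg_lt (f := f) (z := x ⟨i, by omega⟩) (x := x ⟨i + 1, hi⟩)
        ((PrimeSpectrum.le_iff_specializes _ _).1 hlt.le) (hf _ _) hlt.ne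
      omega
  have h1 := key l.length (by omega)
  have h2 := E4O.fdeg_le_fibreDimAt (f := f) (z := x 0) (x := x 0) specializes_rfl rfl
  have h3 : E4O.fdeg f (x 0) ≤ d := by exact_mod_cast h2.trans hd
  omega

variable (n c : ℕ) (F : Fin c → MvPolynomial (Fin n) R)

/-- the relations of the localised presentation -/
noncomputable def F' (h : MvPolynomial (Fin n) R) : Fin (c + 1) → MvPolynomial (Fin (n + 1)) R :=
  Fin.snoc (fun i => rename Fin.castSucc (F i)) (rename Fin.castSucc h * X (Fin.last n) - 1)

section Away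

variable (h : MvPolynomial (Fin n) R)

/-- the structure map into the localised presentation -/
noncomputable def incl : Synt.RelGCIRing R n c F →ₐ[R] Synt.RelGCIRing R (n + 1) (c + 1) (F' R n c F h) :=
  Ideal.Quotient.liftₐ _ ((Ideal.Quotient.mkₐ R _).comp (rename Fin.castSucc)) (by
    intro x hx
    refine (Ideal.span_le (I := RingHom.ker ((Ideal.Quotient.mkₐ R _).comp (rename Fin.castSucc)))).2 ?_ hx
    rintro _ ⟨i, rfl⟩
    refine Ideal.Quotient.eq_zero_iff_mem.2 (Ideal.subset_span ⟨i.castSucc, ?_⟩)
    simp [F'])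

theorem isUnit_incl : IsUnit (incl R n c F h (Ideal.Quotient.mk _ h)) := by
  refine IsUnit.of_mul_eq_one (Ideal.Quotient.mk _ (X (Fin.last n))) ?_
  show Ideal.Quotient.mk (Ideal.span (Set.range (F' R n c F h))) (rename Fin.castSucc h) *
      Ideal.Quotient.mk (Ideal.span (Set.range (F' R n c F h))) (X (Fin.last n)) =
    Ideal.Quotient.mk (Ideal.span (Set.range (F' R n c F h))) 1
  rw [← map_mul, Ideal.Quotient.eq]
  exact Ideal.subset_span ⟨Fin.last c, by simp [F']⟩

/-- values of the variables in the localisation -/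
noncomputable def awayVal : Fin (n + 1) → Localization.Away (Ideal.Quotient.mk (Ideal.span (Set.range F)) h) :=
  Fin.snoc (fun i => algebraMap _ _ (Ideal.Quotient.mk (Ideal.span (Set.range F)) (X i)))
    (IsLocalization.Away.invSelf (Ideal.Quotient.mk (Ideal.span (Set.range F)) h))

theorem aeval_awayVal (q : MvPolynomial (Fin n) R) :
    aeval (awayVal R n c F h) (rename Fin.castSucc q) = algebraMap _ _ (Ideal.Quotient.mk (Ideal.span (Set.range F)) q) := by
  rw [aeval_rename]
  have : (IsScalarTower.toAlgHom R (Synt.RelGCIRing R n c F) _).comp (Ideal.Quotient.mkₐ R (Ideal.span (Set.range F))) =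
      aeval (awayVal R n c F h ∘ Fin.castSucc) := algHom_ext fun i => by simp [awayVal]
  exact (AlgHom.congr_fun this q).symm

/-- the inverse direction -/
noncomputable def toAway : Synt.RelGCIRing R (n + 1) (c + 1) (F' R n c F h) →ₐ[R]
    Localization.Away (Ideal.Quotient.mk (Ideal.span (Set.range F)) h) :=
  Ideal.Quotient.liftₐ _ (aeval (awayVal R n c F h)) (by
    intro x hx
    refine (Ideal.span_le (I := RingHom.ker (aeval (awayVal R n c F h)))).2 ?_ hx
    rintro _ ⟨i, rfl⟩
    rw [SetLike.mem_coe, RingHom.mem_ker]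
    induction i using Fin.lastCases with
    | cast i =>
      rw [F', Fin.snoc_castSucc, aeval_awayVal, Ideal.Quotient.eq_zero_iff_mem.2 (Ideal.subset_span (Set.mem_range_self i)), map_zero]
    | last =>
      rw [F', Fin.snoc_last, map_sub, map_mul, map_one, aeval_awayVal, aeval_X, awayVal, Fin.snoc_last,
        IsLocalization.Away.mul_invSelf, sub_self])

/-- the localisation is presented by the enlarged system -/
noncomputable def awayEquiv : Localization.Away (Ideal.Quotient.mk (Ideal.span (Set.range F)) h) ≃ₐ[R]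
    Synt.RelGCIRing R (n + 1) (c + 1) (F' R n c F h) :=
  let L : Localization.Away (Ideal.Quotient.mk (Ideal.span (Set.range F)) h) →ₐ[R]
      Synt.RelGCIRing R (n + 1) (c + 1) (F' R n c F h) :=
    { IsLocalization.Away.lift (g := (incl R n c F h).toRingHom) (Ideal.Quotient.mk (Ideal.span (Set.range F)) h)
        (isUnit_incl R n c F h) with
      commutes' := fun r => by
        show IsLocalization.Away.lift (Ideal.Quotient.mk (Ideal.span (Set.range F)) h) (isUnit_incl R n c F h) _ = _
        rw [IsScalarTower.algebraMap_apply R (Synt.RelGCIRing R n c F), IsLocalization.Away.lift_eq]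
        exact (incl R n c F h).commutes r }
  have hL : ∀ s, L (algebraMap _ _ s) = incl R n c F h s := fun s =>
    IsLocalization.Away.lift_eq _ (isUnit_incl R n c F h) s
  AlgEquiv.ofAlgHom L (toAway R n c F h)
    (Ideal.Quotient.algHom_ext R (algHom_ext fun i => by
      show L (toAway R n c F h (Ideal.Quotient.mk _ (X i))) = Ideal.Quotient.mk _ (X i)
      rw [show toAway R n c F h (Ideal.Quotient.mk _ (X i)) = awayVal R n c F h i from aeval_X _ i]
      induction i using Fin.lastCases with
      | cast i =>
        rw [awayVal, Fin.snoc_castSucc, hL]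
        show Ideal.Quotient.mk _ (rename Fin.castSucc (X i)) = _
        rw [rename_X]
      | last =>
        rw [awayVal, Fin.snoc_last]
        refine (isUnit_incl R n c F h).mul_left_cancel ?_
        rw [← hL, ← map_mul, IsLocalization.Away.mul_invSelf, map_one, hL]
        show Ideal.Quotient.mk (Ideal.span (Set.range (F' R n c F h))) 1 =
          Ideal.Quotient.mk _ (rename Fin.castSucc h) * Ideal.Quotient.mk _ (X (Fin.last n))
        rw [← map_mul, eq_comm, Ideal.Quotient.eq]
        exact Ideal.subset_span ⟨Fin.last c, by simp [F']⟩))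
    (AlgHom.ext fun x => RingHom.congr_fun (IsLocalization.ringHom_ext (Submonoid.powers (Ideal.Quotient.mk (Ideal.span (Set.range F)) h))
      (j := ((toAway R n c F h).comp L).toRingHom) (k := RingHom.id _)
      (RingHom.ext fun s => by
        show toAway R n c F h (L (algebraMap _ _ s)) = _
        rw [hL]
        obtain ⟨q, rfl⟩ := Ideal.Quotient.mk_surjective s
        exact aeval_awayVal R n c F h q)) x)

theorem toAway_incl (s : Synt.RelGCIRing R n c F) :
    toAway R n c F h (incl R n c F h s) = algebraMap _ _ s := by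
  obtain ⟨q, rfl⟩ := Ideal.Quotient.mk_surjective s
  exact aeval_awayVal R n c F h q

theorem toAway_injective : Function.Injective (toAway R n c F h) := by
  intro x y hxy
  have := (awayEquiv R n c F h).symm.injective (a₁ := x) (a₂ := y)
  exact this hxy

theorem incl_comap_injective : Function.Injective (PrimeSpectrum.comap (incl R n c F h).toRingHom) := by
  have hcomp : (toAway R n c F h).toRingHom.comp (incl R n c F h).toRingHom = algebraMap _ _ :=
    RingHom.ext (toAway_incl R n c F h)
  have hsurj : Function.Surjective (PrimeSpectrum.comap (toAway R n c F h).toRingHom) :=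
    (PrimeSpectrum.comapEquiv (RingEquiv.ofBijective (toAway R n c F h).toRingHom
      ⟨toAway_injective R n c F h, (awayEquiv R n c F h).symm.surjective⟩)).symm.surjective
  intro a b hab
  obtain ⟨a, rfl⟩ := hsurj a
  obtain ⟨b, rfl⟩ := hsurj b
  rw [← PrimeSpectrum.comap_comp_apply, ← PrimeSpectrum.comap_comp_apply, hcomp] at hab
  rw [PrimeSpectrum.localization_comap_injective _ (Submonoid.powers (Ideal.Quotient.mk (Ideal.span (Set.range F)) h)) hab]

/-- upper bound on the fibres of the localised presentation -/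
theorem dim_fiber_le (d : ℕ)
    (hd : ∀ q : PrimeSpectrum (Synt.RelGCIRing R n c F), Ideal.Quotient.mk _ h ∉ q.asIdeal →
      FlatMor.fibreDimAt (str (R := R) (Synt.RelGCIRing R n c F)) q ≤ d)
    (p : PrimeSpectrum R) :
    ringKrullDim (p.asIdeal.Fiber (Synt.RelGCIRing R (n + 1) (c + 1) (F' R n c F h))) ≤ d := by
  let T := Synt.RelGCIRing R (n + 1) (c + 1) (F' R n c F h)
  let φ : PrimeSpectrum (p.asIdeal.Fiber T) → PrimeSpectrum (Synt.RelGCIRing R n c F) := fun a =>
    PrimeSpectrum.comap (incl R n c F h).toRingHom ((PrimeSpectrum.preimageOrderIsoFiber R T p).symm a).1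
  have hmono : StrictMono φ := by
    intro a b hab
    have h1 : ((PrimeSpectrum.preimageOrderIsoFiber R T p).symm a).1 < ((PrimeSpectrum.preimageOrderIsoFiber R T p).symm b).1 :=
      (PrimeSpectrum.preimageOrderIsoFiber R T p).symm.strictMono hab
    exact lt_of_le_of_ne (Ideal.comap_mono h1.le) fun he => h1.ne (incl_comap_injective R n c F h he)
  have hover : ∀ a, PrimeSpectrum.comap (algebraMap R _) (φ a) = p := fun a => by
    rw [← ((PrimeSpectrum.preimageOrderIsoFiber R T p).symm a).2]
    exact (PrimeSpectrum.comap_comp_apply _ _ _).symm.trans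
      (congrArg (fun g => PrimeSpectrum.comap g _) (RingHom.ext fun r => (incl R n c F h).commutes r))
  have hunit : ∀ a, Ideal.Quotient.mk _ h ∉ (φ a).asIdeal := fun a ha =>
    ((PrimeSpectrum.preimageOrderIsoFiber R T p).symm a).1.2.ne_top
      (Ideal.eq_top_of_isUnit_mem _ ha (isUnit_incl R n c F h))
  rw [ringKrullDim, Order.krullDim]
  refine iSup_le fun l => ?_
  have := length_le_of_fibreDimAt_le R (Synt.RelGCIRing R n c F) d (l.map φ hmono)
    (fun i => (hover _).trans (hover _).symm) (hd _ (hunit _))
  exact_mod_cast this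

end Away

/-- Krull's lower bound on fibres of a presentation. -/
theorem le_dim_fiber (p : PrimeSpectrum R) [Nontrivial (p.asIdeal.Fiber (Synt.RelGCIRing R n c F))] :
    ((n - c : ℕ) : WithBot ℕ∞) ≤ ringKrullDim (p.asIdeal.Fiber (Synt.RelGCIRing R n c F)) := by
  classical
  let κ := p.asIdeal.ResidueField
  let P := MvPolynomial (Fin n) κ
  let K : Ideal P := Ideal.span (Set.range fun i => MvPolynomial.map (algebraMap R κ) (F i))
  have hK : K = ((Ideal.span (Set.range F)).map (Algebra.TensorProduct.includeRight (A := κ) (R := R))).map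
      (algebraTensorAlgEquiv (σ := Fin n) R κ).toRingEquiv.toRingHom := by
    rw [Ideal.map_span, Ideal.map_span, ← Set.range_comp, ← Set.range_comp]
    exact congrArg Ideal.span (congrArg Set.range (funext fun i => by simp))
  let e : p.asIdeal.Fiber (Synt.RelGCIRing R n c F) ≃+* P ⧸ K :=
    (Algebra.TensorProduct.tensorQuotientEquiv (R := R) κ (MvPolynomial (Fin n) R) κ (Ideal.span (Set.range F))).toRingEquiv.trans
      (Ideal.quotientEquiv _ K (algebraTensorAlgEquiv (σ := Fin n) R κ).toRingEquiv hK)
  rw [ringKrullDim_eq_of_ringEquiv e]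
  haveI : Nontrivial (P ⧸ K) := e.symm.toEquiv.nontrivial
  obtain ⟨M, hM, hKM⟩ := K.exists_le_maximal (Ideal.Quotient.nontrivial_iff.1 inferInstance)
  have h1 := height_le_ringKrullDim_quotient_add_spanFinrank hKM
  rw [E4O.height_maximal_eq κ P M, MvPolynomial.trdeg_of_isDomain] at h1
  have h2 : K.spanFinrank ≤ c :=
    (Submodule.spanFinrank_span_le_ncard_of_finite (Set.finite_range _)).trans
      (by simpa using Set.ncard_image_le (f := fun i => MvPolynomial.map (algebraMap R κ) (F i)) (s := Set.univ) Set.finite_univ)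
  have h0 : (0 : WithBot ℕ∞) ≤ ringKrullDim (P ⧸ K) := ringKrullDim_nonneg_of_nontrivial
  generalize ringKrullDim (P ⧸ K) = x at h1 h0
  induction x with
  | bot => simp at h0
  | coe x =>
    induction x with
    | top => exact WithBot.coe_le_coe.2 le_top
    | coe x =>
      simp at h1
      have h1' : n ≤ x + K.spanFinrank := by exact_mod_cast h1
      exact WithBot.coe_le_coe.2 (Nat.cast_le.2 (show n - c ≤ x by omega))

theorem fibreDimAt_le_of_dim (d : ℕ) (q : PrimeSpectrum (Synt.RelGCIRing R n c F))
    (hq : ringKrullDim ((PrimeSpectrum.comap (algebraMap R _) q).asIdeal.Fiber (Synt.RelGCIRing R n c F)) ≤ d) :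
    FlatMor.fibreDimAt (str (R := R) (Synt.RelGCIRing R n c F)) q ≤ d :=
  (fibreDimAt_le_dim R _ q).trans hq

/-- The open locus of small fibre dimension. -/
theorem exists_ideal_small (d : ℕ) : ∃ J : Ideal (Synt.RelGCIRing R n c F), ∀ q : PrimeSpectrum (Synt.RelGCIRing R n c F),
    FlatMor.fibreDimAt (str (R := R) (Synt.RelGCIRing R n c F)) q ≤ d ↔ ¬ J ≤ q.asIdeal := by
  haveI := locallyOfFiniteType_str R (Synt.RelGCIRing R n c F)
  have hopen := Groth.Agent.S0402.result (str (R := R) (Synt.RelGCIRing R n c F)) d
  obtain ⟨J, hJ⟩ := (PrimeSpectrum.isClosed_iff_zeroLocus_ideal _).1 hopen.isClosed_compl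
  refine ⟨J, fun q => ?_⟩
  constructor
  · intro hq hle
    have : q ∈ PrimeSpectrum.zeroLocus (J : Set (Synt.RelGCIRing R n c F)) := hle
    rw [← hJ] at this
    exact this hq
  · intro hn
    by_contra hq
    exact hn (hJ.le hq)

/-- Main criterion: a lift `h` cutting into the locus of small fibre dimension works. -/
theorem isRelGCI_of_small (h : MvPolynomial (Fin n) R)
    (hc : c ≤ n ∨ ∀ q : PrimeSpectrum (Synt.RelGCIRing R n c F), Ideal.Quotient.mk _ h ∈ q.asIdeal)
    (hd : ∀ q : PrimeSpectrum (Synt.RelGCIRing R n c F), Ideal.Quotient.mk _ h ∉ q.asIdeal →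
      FlatMor.fibreDimAt (str (R := R) (Synt.RelGCIRing R n c F)) q ≤ (n - c : ℕ)) :
    Synt.IsRelGCI R (n + 1) (c + 1) (F' R n c F h) := by
  intro p hp
  have hcn : c ≤ n := by
    refine hc.resolve_right fun hall => ?_
    obtain ⟨Q⟩ : Nonempty (PrimeSpectrum (p.asIdeal.Fiber (Synt.RelGCIRing R (n + 1) (c + 1) (F' R n c F h)))) := inferInstance
    let q := ((PrimeSpectrum.preimageOrderIsoFiber R _ p).symm Q).1
    exact q.2.ne_top (Ideal.eq_top_of_isUnit_mem _
      (hall (PrimeSpectrum.comap (incl R n c F h).toRingHom q)) (isUnit_incl R n c F h))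
  refine ⟨by omega, le_antisymm ?_ (le_dim_fiber R (n + 1) (c + 1) (F' R n c F h) p)⟩
  rw [show n + 1 - (c + 1) = n - c by omega]
  exact dim_fiber_le R n c F h (n - c) hd p

end Groth.Agent.RelGCI94
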