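import Groth.Agent.LCI19.FlatNhd
import Groth.Agent.CAlg1.CMPoly
import Groth.Agent.CAlg6.CotFlat
import Groth.Agent.EGA4Alg4.CMMod
import Groth.Agent.Gor18.Poly
import Groth.Agent.RelGCI94.Fibres

/-! The relations of a relative global complete intersection are regular on the fibres. -/

set_option autoImplicit false
universe u

open MvPolynomial TensorProduct IsLocalRing

namespace Groth.Agent.RelGCI94

variable (R : Type u) [CommRing R] (n c : ℕ) (F : Fin c → MvPolynomial (Fin n) R)

/-- presentation of the fibre over the residue field -/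
noncomputable def fibreEquiv (p : Ideal R) [p.IsPrime] :
    p.Fiber (Synt.RelGCIRing R n c F) ≃ₐ[p.ResidueField]
      MvPolynomial (Fin n) p.ResidueField ⧸
        Ideal.span (Set.range fun i => MvPolynomial.map (algebraMap R p.ResidueField) (F i)) :=
  (Algebra.TensorProduct.tensorQuotientEquiv (R := R) p.ResidueField (MvPolynomial (Fin n) R) p.ResidueField
    (Ideal.span (Set.range F))).trans
    (Ideal.quotientEquivAlg _ _ (algebraTensorAlgEquiv (σ := Fin n) R p.ResidueField) (by
      rw [Ideal.map_span, Ideal.map_span, ← Set.range_comp, ← Set.range_comp]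
      exact congrArg Ideal.span (congrArg Set.range (funext fun i => by simp))))

theorem ringKrullDim_quotient_fibre_le (h : Synt.IsRelGCI R n c F) (p : PrimeSpectrum R)
    (hp : Ideal.span (Set.range fun i => MvPolynomial.map (algebraMap R p.asIdeal.ResidueField) (F i)) ≠ ⊤) :
    c ≤ n ∧ ringKrullDim (MvPolynomial (Fin n) p.asIdeal.ResidueField ⧸
      Ideal.span (Set.range fun i => MvPolynomial.map (algebraMap R p.asIdeal.ResidueField) (F i))) =
        ((n - c : ℕ) : WithBot ℕ∞) := by
  have := Ideal.Quotient.nontrivial_iff.2 hp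
  have := (fibreEquiv R n c F p.asIdeal).toEquiv.nontrivial
  obtain ⟨h1, h2⟩ := h p this
  exact ⟨h1, (ringKrullDim_eq_of_ringEquiv (fibreEquiv R n c F p.asIdeal).toRingEquiv).symm.trans h2⟩

/-- `c` polynomials cutting out codimension `c` are regular in the local rings of affine space. -/
theorem isWeaklyRegular_of_dim {k : Type u} [Field k] {n c : ℕ} (f : Fin c → MvPolynomial (Fin n) k)
    (P : Ideal (MvPolynomial (Fin n) k)) [P.IsPrime] (hf : ∀ i, f i ∈ P) (hc : c ≤ n)
    (hd : ringKrullDim (MvPolynomial (Fin n) k ⧸ Ideal.span (Set.range f)) ≤ ((n - c : ℕ) : WithBot ℕ∞)) :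
    RingTheory.Sequence.IsWeaklyRegular (Localization.AtPrime P)
      (List.ofFn (algebraMap _ (Localization.AtPrime P) ∘ f)) := by
  let A := MvPolynomial (Fin n) k
  let L := Localization.AtPrime P
  let K : Ideal A := Ideal.span (Set.range f)
  let xs := List.ofFn (algebraMap A L ∘ f)
  have hK : K ≤ P := Ideal.span_le.2 (by rintro _ ⟨i, rfl⟩; exact hf i)
  have hmem : ∀ x ∈ xs, x ∈ maximalIdeal L := by
    intro x hx
    obtain ⟨i, rfl⟩ := List.mem_ofFn.1 hx
    exact (IsLocalization.AtPrime.to_map_mem_maximal_iff L P _).2 (hf i)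
  have hxs : Ideal.ofList xs = K.map (algebraMap A L) := by
    rw [Ideal.map_span, Ideal.ofList]
    congr 1
    ext x
    simp [xs]
  let Pb : Ideal (A ⧸ K) := P.map (Ideal.Quotient.mk K)
  have hPb : Pb.IsPrime := Ideal.map_isPrime_of_surjective Ideal.Quotient.mk_surjective (by rwa [Ideal.mk_ker])
  have hcomap : Pb.comap (Ideal.Quotient.mk K) = P := by
    rw [Ideal.comap_map_of_surjective _ Ideal.Quotient.mk_surjective, ← RingHom.ker_eq_comap_bot,
      Ideal.mk_ker, sup_eq_left.2 hK]
  have := Gor18.isLocalization_atPrime_quotient P L K Pb hcomap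
  -- dimension count
  have h1 : (Pb.height : WithBot ℕ∞) + ringKrullDim (A ⧸ P) ≤ ((n - c : ℕ) : WithBot ℕ∞) := by
    refine le_trans ?_ ((CAlg6.height_add_ringKrullDim_quotient_le Pb).trans hd)
    rw [ringKrullDim_eq_of_ringEquiv ((DoubleQuot.quotQuotEquivQuotOfLE hK))]
  have h2 : (P.height : Cardinal.{u}) + Algebra.trdeg k (A ⧸ P) = Algebra.trdeg k A :=
    E4O.height_add_trdeg_eq k A P
  have h3 : ringKrullDim (A ⧸ P) = (Cardinal.toNat (Algebra.trdeg k (A ⧸ P)) : ℕ) :=
    E4O.ringKrullDim_eq_trdeg k (A ⧸ P)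
  rw [MvPolynomial.trdeg_of_isDomain, E4O.trdeg_eq_natCast k (A ⧸ P), Cardinal.mk_fin,
    Cardinal.lift_natCast] at h2
  have hcm := CAlg1.cm_of_isRegularLocalRing L
  have hCM : LocCoh.IsCohenMacaulayModule L L := hcm.supportDim_eq_depth
  refine Groth.Agent.EGA4Alg4.isWeaklyRegular_of_supportDim hCM hmem ?_
  have hdimq : Module.supportDim L (L ⧸ Ideal.ofList xs • (⊤ : Submodule L L)) = (Pb.height : WithBot ℕ∞) := by
    rw [Module.supportDim_eq_of_equiv (Submodule.quotEquivOfEq _ (K.map (algebraMap A L))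
      (by rw [Ideal.smul_eq_mul, Ideal.mul_top, hxs])), Module.supportDim_quotient_eq_ringKrullDim]
    exact IsLocalization.AtPrime.ringKrullDim_eq_height Pb (L ⧸ K.map (algebraMap A L))
  have hle := Groth.Agent.EGA4Alg4.supportDim_le_quotient_add_length (M := L) hmem
  rw [Module.supportDim_self_eq_ringKrullDim, hdimq, IsLocalization.AtPrime.ringKrullDim_eq_height P L,
    show xs.length = c from List.length_ofFn] at hle ⊢
  refine le_antisymm ?_ hle
  rw [h3] at h1
  generalize Cardinal.toNat (Algebra.trdeg k (A ⧸ P)) = d at h1 h2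
  have hP : P.height ≠ ⊤ := Ideal.height_ne_top (Ideal.IsPrime.ne_top inferInstance)
  obtain ⟨a, ha⟩ := ENat.ne_top_iff_exists.1 hP
  have hPbt : Pb.height ≠ ⊤ := Ideal.height_ne_top (Ideal.IsPrime.ne_top inferInstance)
  obtain ⟨b, hb⟩ := ENat.ne_top_iff_exists.1 hPbt
  rw [← ha] at h2 ⊢
  rw [← hb] at h1 ⊢
  have h1' : b + d ≤ n - c := by
    refine (Nat.cast_le (α := WithBot ℕ∞)).1 (le_trans (le_of_eq ?_) h1)
    simp
  have h2' : a + d = n := by exact_mod_cast h2
  exact_mod_cast (show b + c ≤ a by omega)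

/-- The relations are regular in the local ring of the fibre at every point. -/
theorem isWeaklyRegular_fib (h : Synt.IsRelGCI R n c F) (Q : Ideal (MvPolynomial (Fin n) R)) [Q.IsPrime]
    (hQ : ∀ i, F i ∈ Q) :
    RingTheory.Sequence.IsWeaklyRegular (LCI19.Fib Q) (List.ofFn (LCI19.toFib Q ∘ F)) := by
  have hf : ∀ i, LCI19.fibMap Q (F i) ∈ LCI19.fibPrime Q := fun i => (LCI19.fibMap_mem_iff Q _).2 (hQ i)
  obtain ⟨hc, hd⟩ := ringKrullDim_quotient_fibre_le R n c F h ⟨LCI19.fibBase Q, inferInstance⟩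
    (fun ht => (inferInstance : (LCI19.fibPrime Q).IsPrime).ne_top (top_le_iff.1 (ht ▸ Ideal.span_le.2 (by
      rintro _ ⟨i, rfl⟩
      exact hf i))))
  exact isWeaklyRegular_of_dim (fun i => LCI19.fibMap Q (F i)) (LCI19.fibPrime Q) hf hc hd.le

/-- The relations are regular in the local rings of affine space over the base. -/
theorem isWeaklyRegular_atPrime (h : Synt.IsRelGCI R n c F) (Q : Ideal (MvPolynomial (Fin n) R)) [Q.IsPrime]
    (hQ : ∀ i, F i ∈ Q) :
    RingTheory.Sequence.IsWeaklyRegular (Localization.AtPrime Q)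
      (List.ofFn (algebraMap (MvPolynomial (Fin n) R) (Localization.AtPrime Q) ∘ F)) :=
  LCI19.isWeaklyRegular_of_fib Q F (isWeaklyRegular_fib R n c F h Q hQ)

end Groth.Agent.RelGCI94
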