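import Groth.Agent.RelGCI94.FibreRegular
import Groth.Agent.FDesc60.QF2
import Mathlib.RingTheory.TensorProduct.Quotient
import Mathlib.RingTheory.TensorProduct.MvPolynomial

/-! Quotients of the local rings of affine space by relations regular on the fibre are flat. -/

set_option autoImplicit false
universe u

open MvPolynomial TensorProduct IsLocalRing

namespace Groth.Agent.RelGCI94

/-- Flatness of a quotient of the local ring of affine space survives a change of coefficients. -/
theorem flat_quotient_map {A₀ A : Type u} [CommRing A₀] [CommRing A] [Algebra A₀ A] {n : ℕ}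
    (Q : Ideal (MvPolynomial (Fin n) A)) [Q.IsPrime] (J₀ : Ideal (MvPolynomial (Fin n) A₀))
    [Module.Flat A₀ (Localization.AtPrime (Q.comap (MvPolynomial.map (algebraMap A₀ A))) ⧸
      J₀.map (algebraMap (MvPolynomial (Fin n) A₀)
        (Localization.AtPrime (Q.comap (MvPolynomial.map (algebraMap A₀ A))))))] :
    Module.Flat A (Localization.AtPrime Q ⧸
      (J₀.map (MvPolynomial.map (algebraMap A₀ A))).map
        (algebraMap (MvPolynomial (Fin n) A) (Localization.AtPrime Q))) := by
  let ι : MvPolynomial (Fin n) A₀ →+* MvPolynomial (Fin n) A := MvPolynomial.map (algebraMap A₀ A)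
  let P₀ := MvPolynomial (Fin n) A₀
  let P := MvPolynomial (Fin n) A
  let _ : Algebra P₀ P := MvPolynomial.algebraMvPolynomial
  let Q₀ := Q.comap ι
  let S := Localization.AtPrime Q₀
  let L := Localization.AtPrime Q
  have : IsScalarTower P₀ P L := inferInstance
  let _ : Algebra S L := (Localization.localRingHom Q₀ Q ι rfl).toAlgebra
  have : IsScalarTower P₀ S L :=
    IsScalarTower.of_algebraMap_eq fun x => (Localization.localRingHom_to_map Q₀ Q ι rfl x).symm
  let N₀ := S ⧸ J₀.map (algebraMap P₀ S)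
  have : IsScalarTower A₀ P₀ N₀ := inferInstance
  -- the base change of `N₀` is flat
  have : Algebra.IsPushout A₀ A P₀ P := inferInstance
  have hN : Module.Flat A (P ⊗[P₀] N₀) :=
    Module.Flat.of_linearEquiv (Algebra.IsPushout.cancelBaseChange A₀ A P₀ P N₀)
  have : Module.Flat P L := IsLocalization.flat L Q.primeCompl
  have hT : Module.Flat A (L ⊗[P] (P ⊗[P₀] N₀)) := FDesc60.flat_tensor_of_flat
  let e₁ : L ⊗[P] (P ⊗[P₀] N₀) ≃ₗ[L] L ⊗[P₀] N₀ :=
    TensorProduct.AlgebraTensorModule.cancelBaseChange P₀ P L L N₀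
  have := IsLocalization.tensorProduct_compatibleSMul Q₀.primeCompl S L N₀
  let e₂ : L ⊗[S] N₀ ≃ₗ[L] L ⊗[P₀] N₀ := TensorProduct.equivOfCompatibleSMul P₀ S L L N₀
  let e₃ := Algebra.TensorProduct.quotIdealMapEquivTensorQuot L (J₀.map (algebraMap P₀ S))
  have hJ : (J₀.map ι).map (algebraMap P L) = (J₀.map (algebraMap P₀ S)).map (algebraMap S L) := by
    rw [Ideal.map_map, Ideal.map_map, ← IsScalarTower.algebraMap_eq]
    rfl
  exact Module.Flat.of_linearEquiv
    ((((Submodule.quotEquivOfEq _ _ hJ).restrictScalars L).trans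
      (e₃.toLinearEquiv.trans (e₂.trans e₁.symm))).restrictScalars A)

variable (R : Type u) [CommRing R] (n c : ℕ) (F : Fin c → MvPolynomial (Fin n) R)

theorem flat_quotient_Iic_aux {A₀ A : Type u} [CommRing A₀] [IsNoetherianRing A₀] [CommRing A] [Algebra A₀ A]
    {n k : ℕ} (Q : Ideal (MvPolynomial (Fin n) A)) [Q.IsPrime] (f₀ : Fin k → MvPolynomial (Fin n) A₀)
    (h : RingTheory.Sequence.IsWeaklyRegular (LCI19.Fib Q)
      (List.ofFn (LCI19.toFib Q ∘ fun i => MvPolynomial.map (algebraMap A₀ A) (f₀ i)))) (i : Fin k) :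
    Module.Flat A (Localization.AtPrime Q ⧸
      (Ideal.span ((fun i => MvPolynomial.map (algebraMap A₀ A) (f₀ i)) '' Set.Iic i)).map
        (algebraMap (MvPolynomial (Fin n) A) (Localization.AtPrime Q))) := by
  let J₀ := Ideal.span (f₀ '' Set.Iic i)
  have : Module.Flat A₀ (Localization.AtPrime (Q.comap (MvPolynomial.map (algebraMap A₀ A))) ⧸
      J₀.map (algebraMap (MvPolynomial (Fin n) A₀)
        (Localization.AtPrime (Q.comap (MvPolynomial.map (algebraMap A₀ A)))))) := by
    rw [Ideal.map_span, ← Set.image_comp]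
    exact (LCI19.regular_and_flat_at_point Q f₀ h i).2
  have hJ : J₀.map (MvPolynomial.map (algebraMap A₀ A)) =
      Ideal.span ((fun i => MvPolynomial.map (algebraMap A₀ A) (f₀ i)) '' Set.Iic i) := by
    rw [Ideal.map_span, ← Set.image_comp]
    rfl
  rw [← hJ]
  exact flat_quotient_map Q J₀

/-- The partial quotients by a sequence regular on the fibre are flat over the base. -/
theorem flat_quotient_Iic {R : Type u} [CommRing R] {n k : ℕ} (Q : Ideal (MvPolynomial (Fin n) R)) [Q.IsPrime]
    (f : Fin k → MvPolynomial (Fin n) R)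
    (h : RingTheory.Sequence.IsWeaklyRegular (LCI19.Fib Q) (List.ofFn (LCI19.toFib Q ∘ f))) (i : Fin k) :
    Module.Flat R (Localization.AtPrime Q ⧸
      (Ideal.span (f '' Set.Iic i)).map (algebraMap (MvPolynomial (Fin n) R) (Localization.AtPrime Q))) := by
  classical
  let s : Finset R := Finset.univ.biUnion fun i => (f i).coeffs
  let A₀ := Algebra.adjoin ℤ (s : Set R)
  have hft : Algebra.FiniteType ℤ A₀ := Subalgebra.fg_iff_finiteType _ |>.1 (Subalgebra.fg_adjoin_finset s)
  have : IsNoetherianRing A₀ := Algebra.FiniteType.isNoetherianRing ℤ A₀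
  have hf₀ : ∀ i, ∃ g, MvPolynomial.map (algebraMap A₀ R) g = f i := fun i => by
    refine Set.mem_range.1 (MvPolynomial.mem_range_map_iff_coeffs_subset.2 fun c hc => ?_)
    exact ⟨⟨c, Algebra.subset_adjoin (Finset.mem_biUnion.2 ⟨i, Finset.mem_univ _, hc⟩)⟩, rfl⟩
  choose f₀ hf₀ using hf₀
  have hfun : (fun i => MvPolynomial.map (algebraMap A₀ R) (f₀ i)) = f := funext hf₀
  have := flat_quotient_Iic_aux (A₀ := A₀) Q f₀ (by rw [hfun]; exact h) i
  rwa [hfun] at this

theorem flat_atPrime (Q : Ideal (MvPolynomial (Fin n) R)) [Q.IsPrime] :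
    Module.Flat R (Localization.AtPrime Q) :=
  have : Module.Flat (MvPolynomial (Fin n) R) (Localization.AtPrime Q) := IsLocalization.flat _ Q.primeCompl
  Module.Flat.trans R (MvPolynomial (Fin n) R) _

theorem take_map_ofFn_eq {S : Type u} [CommRing S] (g : MvPolynomial (Fin n) R →+* S) (i : ℕ) :
    Ideal.ofList (((List.ofFn F).take i).map g) = (Ideal.span (F '' {j : Fin c | (j : ℕ) < i})).map g := by
  rw [Ideal.map_span, Ideal.ofList]
  congr 1
  ext x
  simp only [Set.mem_ofPred_eq, List.mem_map, List.mem_take_iff_getElem, List.length_ofFn, List.getElem_ofFn,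
    Set.mem_image]
  constructor
  · rintro ⟨y, ⟨j, hj, rfl⟩, rfl⟩
    exact ⟨_, ⟨⟨j, by omega⟩, by simp only; omega, rfl⟩, rfl⟩
  · rintro ⟨y, ⟨j, hj, rfl⟩, rfl⟩
    exact ⟨_, ⟨j, by omega, rfl⟩, rfl⟩

/-- every partial quotient is flat -/
theorem flat_quotient_take (h : Synt.IsRelGCI R n c F) (Q : Ideal (MvPolynomial (Fin n) R)) [Q.IsPrime]
    (hQ : ∀ i, F i ∈ Q) (i : ℕ) (hi : i ≤ c) :
    Module.Flat R (Localization.AtPrime Q ⧸ Ideal.ofList
      (((List.ofFn F).take i).map (algebraMap (MvPolynomial (Fin n) R) (Localization.AtPrime Q)))) := by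
  cases i with
  | zero =>
    have := flat_atPrime R n Q
    exact Module.Flat.of_linearEquiv ((Submodule.quotEquivOfEqBot _ (by simp [Ideal.ofList])).restrictScalars R)
  | succ i =>
    rw [take_map_ofFn_eq]
    have e : {j : Fin c | (j : ℕ) < i + 1} = Set.Iic ⟨i, hi⟩ := by
      ext j
      simp [Fin.le_def]
    rw [e]
    exact flat_quotient_Iic Q F (isWeaklyRegular_fib R n c F h Q hQ) _

end Groth.Agent.RelGCI94
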