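import Groth.Agent.RelGCI94.CI
import Groth.Agent.RelGCI94.FlatQuot

/-! Relative global complete intersections are syntomic. -/

set_option autoImplicit false
universe u

open MvPolynomial TensorProduct

namespace Groth.Agent.RelGCI94

variable (R : Type u) [CommRing R] (n c : ℕ) (F : Fin c → MvPolynomial (Fin n) R)

theorem flat_relGCIRing (h : Synt.IsRelGCI R n c F) : Module.Flat R (Synt.RelGCIRing R n c F) := by
  refine Module.flat_of_isLocalized_maximal (R := R) (Synt.RelGCIRing R n c F) _
    (fun P _ => Localization.AtPrime P) (fun P _ => Algebra.linearMap _ _) fun P _ => ?_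
  let Q := P.comap (Ideal.Quotient.mk (Ideal.span (Set.range F)))
  have hQ : ∀ i, F i ∈ Q := fun i => by
    show Ideal.Quotient.mk _ (F i) ∈ P
    rw [Ideal.Quotient.eq_zero_iff_mem.2 (Ideal.subset_span (Set.mem_range_self i))]
    exact zero_mem _
  have := flat_quotient_take R n c F h Q hQ c le_rfl
  have hJ : Ideal.ofList (((List.ofFn F).take c).map (algebraMap (MvPolynomial (Fin n) R) (Localization.AtPrime Q))) =
      (Ideal.span (Set.range F)).map (algebraMap (MvPolynomial (Fin n) R) (Localization.AtPrime Q)) := by
    rw [take_map_ofFn_eq]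
    congr 2
    simp
  rw [hJ] at this
  have := Gor18.isLocalization_atPrime_quotient Q (Localization.AtPrime Q) (Ideal.span (Set.range F)) P rfl
  have : IsScalarTower R (Synt.RelGCIRing R n c F) (Localization.AtPrime Q ⧸ (Ideal.span (Set.range F)).map
      (algebraMap (MvPolynomial (Fin n) R) (Localization.AtPrime Q))) := IsScalarTower.of_algebraMap_eq (R := R) (S := Synt.RelGCIRing R n c F)
      (A := Localization.AtPrime Q ⧸ (Ideal.span (Set.range F)).map
        (algebraMap (MvPolynomial (Fin n) R) (Localization.AtPrime Q))) fun r => rfl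
  exact Module.Flat.of_linearEquiv
    ((IsLocalization.algEquiv P.primeCompl (Localization.AtPrime P)
      (Localization.AtPrime Q ⧸ (Ideal.span (Set.range F)).map
        (algebraMap (MvPolynomial (Fin n) R) (Localization.AtPrime Q)))).restrictScalars R).toLinearEquiv

theorem finitePresentation_relGCIRing : Algebra.FinitePresentation R (Synt.RelGCIRing R n c F) :=
  Algebra.FinitePresentation.quotient (Submodule.fg_span (Set.finite_range F))

theorem isSyntomic_relGCIRing (h : Synt.IsRelGCI R n c F) : Synt.IsSyntomic R (Synt.RelGCIRing R n c F) :=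
  ⟨flat_relGCIRing R n c F h, finitePresentation_relGCIRing R n c F,
    fun p => isLCIOver_of_isGlobalCI (isGlobalCI_fiber R n c F h p)⟩

end Groth.Agent.RelGCI94
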