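import Groth.Agent.RelGCI94.CI
import Groth.Agent.LC16.SopRegular

/-! Relative global complete intersections, pointwise: regularity on the fibre at every point. -/

set_option autoImplicit false
universe u

open MvPolynomial TensorProduct IsLocalRing

namespace Groth.Agent.RelGCI94

/-- The relations are regular in the local ring of the fibre at `Q`. -/
def RegAt {R : Type u} [CommRing R] {n c : ℕ} (F : Fin c → MvPolynomial (Fin n) R)
    (Q : Ideal (MvPolynomial (Fin n) R)) [Q.IsPrime] : Prop :=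
  RingTheory.Sequence.IsWeaklyRegular (LCI19.Fib Q) (List.ofFn (LCI19.toFib Q ∘ F))

theorem ringKrullDim_mvPolynomial_quotient_add_height {k : Type u} [Field k] {n : ℕ}
    (P : Ideal (MvPolynomial (Fin n) k)) [P.IsPrime] :
    ∃ d h : ℕ, ringKrullDim (MvPolynomial (Fin n) k ⧸ P) = (d : WithBot ℕ∞) ∧ P.height = (h : ℕ∞) ∧ h + d = n := by
  have h2 := E4O.height_add_trdeg_eq k (MvPolynomial (Fin n) k) P
  rw [MvPolynomial.trdeg_of_isDomain, E4O.trdeg_eq_natCast k (MvPolynomial (Fin n) k ⧸ P), Cardinal.mk_fin,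
    Cardinal.lift_natCast] at h2
  obtain ⟨a, ha⟩ := ENat.ne_top_iff_exists.1 (Ideal.height_ne_top (I := P) (Ideal.IsPrime.ne_top inferInstance))
  refine ⟨_, a, E4O.ringKrullDim_eq_trdeg k (MvPolynomial (Fin n) k ⧸ P), ha.symm, ?_⟩
  rw [← ha] at h2
  exact_mod_cast h2

/-- A regular sequence in the local ring at a prime forces its height to be at least its length. -/
theorem le_height_of_isWeaklyRegular {A : Type u} [CommRing A] [IsNoetherianRing A] {c : ℕ} (f : Fin c → A)
    (P : Ideal A) [P.IsPrime] (hf : ∀ i, f i ∈ P)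
    (h : RingTheory.Sequence.IsWeaklyRegular (Localization.AtPrime P)
      (List.ofFn (algebraMap A (Localization.AtPrime P) ∘ f))) : (c : ℕ∞) ≤ P.height := by
  let L := Localization.AtPrime P
  let xs := List.ofFn (algebraMap A L ∘ f)
  have hmem : ∀ x ∈ xs, x ∈ maximalIdeal L := fun x hx => by
    obtain ⟨i, rfl⟩ := List.mem_ofFn.1 hx
    exact (IsLocalization.AtPrime.to_map_mem_maximal_iff L P _).2 (hf i)
  have h1 := Module.supportDim_add_length_eq_supportDim_of_isRegular xs
    (LC16.isRegular_of_weakly h hmem)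
  rw [Module.supportDim_self_eq_ringKrullDim, IsLocalization.AtPrime.ringKrullDim_eq_height P L,
    show xs.length = c from List.length_ofFn] at h1
  have : Nontrivial (L ⧸ (Ideal.ofList xs • ⊤ : Submodule L L)) :=
    Submodule.Quotient.nontrivial_iff.2 (LC16.isRegular_of_weakly h hmem).top_ne_smul.symm
  have h2 : (0 : WithBot ℕ∞) ≤ Module.supportDim L (L ⧸ (Ideal.ofList xs • ⊤ : Submodule L L)) := by
    rw [← WithBot.coe_zero]
    have := Module.supportDim_ne_bot_of_nontrivial L (L ⧸ (Ideal.ofList xs • ⊤ : Submodule L L))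
    revert this
    generalize Module.supportDim L (L ⧸ (Ideal.ofList xs • ⊤ : Submodule L L)) = x
    intro hx
    induction x with
    | bot => exact absurd rfl hx
    | coe a => exact WithBot.coe_le_coe.2 zero_le
  have : ((c : ℕ∞) : WithBot ℕ∞) ≤ (P.height : WithBot ℕ∞) := by
    rw [← h1]
    calc ((c : ℕ∞) : WithBot ℕ∞) = 0 + (c : WithBot ℕ∞) := by simp
      _ ≤ _ := add_le_add h2 le_rfl
  exact WithBot.coe_le_coe.1 this

/-- A bound on all minimal primes bounds the dimension. -/
theorem ringKrullDim_quotient_le {A : Type u} [CommRing A] (K : Ideal A) (d : WithBot ℕ∞)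
    (h : ∀ m ∈ K.minimalPrimes, ringKrullDim (A ⧸ m) ≤ d) : ringKrullDim (A ⧸ K) ≤ d := by
  rw [ringKrullDim_quotient, Order.krullDim]
  refine iSup_le fun l => ?_
  obtain ⟨m, hm, hle⟩ := Ideal.exists_minimalPrimes_le (I := K) (J := l.head.1.asIdeal) l.head.2
  have hdim := h m hm
  rw [ringKrullDim_quotient] at hdim
  let l' : LTSeries (PrimeSpectrum.zeroLocus (m : Set A)) :=
    { length := l.length
      toFun := fun i => ⟨(l i).1, fun x hx => (show l.head.1.asIdeal ≤ (l i).1.asIdeal from l.head_le i) (hle hx)⟩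
      step := fun i => l.step i }
  exact (Order.LTSeries.length_le_krullDim l').trans hdim

/-- Over a field, a relative global complete intersection is the same as regularity everywhere. -/
theorem isRelGCI_field_iff_regular {k : Type u} [Field k] {n c : ℕ} (f : Fin c → MvPolynomial (Fin n) k) :
    Synt.IsRelGCI k n c f ↔ ∀ (P : Ideal (MvPolynomial (Fin n) k)) [P.IsPrime], (∀ i, f i ∈ P) →
      RingTheory.Sequence.IsWeaklyRegular (Localization.AtPrime P)
        (List.ofFn (algebraMap _ (Localization.AtPrime P) ∘ f)) := by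
  rw [isRelGCI_field_iff]
  constructor
  · intro h P _ hP
    have : Nontrivial (Synt.RelGCIRing k n c f) := Ideal.Quotient.nontrivial_iff.2 fun ht =>
      Ideal.IsPrime.ne_top (I := P) inferInstance (top_le_iff.1 (ht ▸ Ideal.span_le.2 (by
        rintro _ ⟨i, rfl⟩
        exact hP i)))
    exact isWeaklyRegular_of_dim f P hP (h this).1 (h this).2.le
  · intro h hn
    let K : Ideal (MvPolynomial (Fin n) k) := Ideal.span (Set.range f)
    have hmin : ∀ m ∈ K.minimalPrimes, c ≤ n ∧
        ringKrullDim (MvPolynomial (Fin n) k ⧸ m) ≤ ((n - c : ℕ) : WithBot ℕ∞) := by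
      intro m hm
      have := hm.1.1
      have hfm : ∀ i, f i ∈ m := fun i => hm.1.2 (Ideal.subset_span (Set.mem_range_self i))
      have hc := le_height_of_isWeaklyRegular f m hfm (h m hfm)
      obtain ⟨d, a, hd, ha, had⟩ := ringKrullDim_mvPolynomial_quotient_add_height m
      rw [ha, Nat.cast_le] at hc
      exact ⟨by omega, hd.le.trans (Nat.cast_le.2 (by omega))⟩
    obtain ⟨P, hP, hKP⟩ := K.exists_le_maximal (Ideal.Quotient.nontrivial_iff.1 hn)
    obtain ⟨m, hm, -⟩ := Ideal.exists_minimalPrimes_le hKP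
    refine ⟨(hmin m hm).1, le_antisymm (ringKrullDim_quotient_le K _ fun m hm => (hmin m hm).2) ?_⟩
    obtain ⟨p⟩ : Nonempty (PrimeSpectrum k) := inferInstance
    have hne : Nontrivial (p.asIdeal.Fiber (Synt.RelGCIRing k n c f)) := by
      rw [← PrimeSpectrum.nonempty_iff_nontrivial]
      exact ⟨PrimeSpectrum.preimageOrderIsoFiber k _ p
        ⟨Classical.arbitrary (PrimeSpectrum (Synt.RelGCIRing k n c f)), Subsingleton.elim _ _⟩⟩
    rw [← ringKrullDim_fiber_field (Synt.RelGCIRing k n c f) p]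
    exact le_dim_fiber k n c f p

variable {R : Type u} [CommRing R] {n c : ℕ}

/-- A prime of a fibre is the prime of the fibre at its preimage. -/
theorem regular_iff_regAt (F : Fin c → MvPolynomial (Fin n) R) (p : Ideal R) [p.IsPrime]
    (P : Ideal (MvPolynomial (Fin n) p.ResidueField)) [P.IsPrime] (Q : Ideal (MvPolynomial (Fin n) R)) [Q.IsPrime]
    (hp : Q.comap MvPolynomial.C = p) (hQ : Q = P.comap (MvPolynomial.map (algebraMap R p.ResidueField))) :
    RingTheory.Sequence.IsWeaklyRegular (Localization.AtPrime P)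
        (List.ofFn (algebraMap _ (Localization.AtPrime P) ∘ fun i => MvPolynomial.map (algebraMap R p.ResidueField) (F i))) ↔
      RegAt F Q := by
  subst hp
  have hP : P = LCI19.fibPrime Q := by
    ext v
    obtain ⟨b, y, hb, hy⟩ := LCI19.exists_denom Q v
    have h1 : LCI19.fibMap Q (C b) ∉ P := fun h => hb (by
      have : (C b : MvPolynomial (Fin n) R) ∈ Q := hQ ▸ h
      exact this)
    have h2 : LCI19.fibMap Q (C b) ∉ LCI19.fibPrime Q := fun h => hb ((LCI19.fibMap_mem_iff Q _).1 h)
    have hy' : LCI19.fibMap Q y ∈ P ↔ LCI19.fibMap Q y ∈ LCI19.fibPrime Q := by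
      rw [LCI19.fibMap_mem_iff]
      exact ⟨fun h => hQ ▸ h, fun h => (hQ ▸ h : y ∈ P.comap _)⟩
    rw [← hy] at hy'
    exact ⟨fun hv => (Ideal.IsPrime.mem_or_mem inferInstance (hy'.1 (Ideal.mul_mem_left _ _ hv))).resolve_left h2,
      fun hv => (Ideal.IsPrime.mem_or_mem inferInstance (hy'.2 (Ideal.mul_mem_left _ _ hv))).resolve_left h1⟩
  subst hP
  exact Iff.rfl

/-- **Pointwise criterion.** -/
theorem isRelGCI_iff_regAt (F : Fin c → MvPolynomial (Fin n) R) :
    Synt.IsRelGCI R n c F ↔
      ∀ (Q : Ideal (MvPolynomial (Fin n) R)) [Q.IsPrime], (∀ i, F i ∈ Q) → RegAt F Q := by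
  constructor
  · exact fun h Q _ hQ => isWeaklyRegular_fib R n c F h Q hQ
  · intro h p hp
    let f : Fin c → MvPolynomial (Fin n) p.asIdeal.ResidueField := fun i =>
      MvPolynomial.map (algebraMap R p.asIdeal.ResidueField) (F i)
    have hf : Synt.IsRelGCI p.asIdeal.ResidueField n c f := by
      refine (isRelGCI_field_iff_regular f).2 fun P _ hP => ?_
      refine (regular_iff_regAt F p.asIdeal P (P.comap (MvPolynomial.map (algebraMap R p.asIdeal.ResidueField)))
        ?_ rfl).2 (h _ hP)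
      ext a
      rw [Ideal.mem_comap, Ideal.mem_comap, MvPolynomial.map_C]
      refine ⟨fun ha => ?_, fun ha => ?_⟩
      · by_contra hap
        exact Ideal.IsPrime.ne_top inferInstance (Ideal.eq_top_of_isUnit_mem P ha
          (((Ne.isUnit fun h0 => hap (Ideal.algebraMap_residueField_eq_zero.1 h0))).map C))
      · rw [Ideal.algebraMap_residueField_eq_zero.2 ha, map_zero]
        exact zero_mem _
    have := (fibreEquiv R n c F p.asIdeal).symm.toEquiv.nontrivial
    obtain ⟨h1, h2⟩ := (isRelGCI_field_iff _ _ _).1 hf this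
    exact ⟨h1, (ringKrullDim_eq_of_ringEquiv (fibreEquiv R n c F p.asIdeal).toRingEquiv).trans h2⟩

/-- Regularity at a point is insensitive to base change. -/
theorem regAt_map_iff {A : Type u} [CommRing A] [Algebra R A] (F : Fin c → MvPolynomial (Fin n) R)
    (Q : Ideal (MvPolynomial (Fin n) A)) [Q.IsPrime] :
    RegAt (fun i => MvPolynomial.map (algebraMap R A) (F i)) Q ↔
      RegAt F (Q.comap (MvPolynomial.map (algebraMap R A))) := by
  let ι : MvPolynomial (Fin n) R →+* MvPolynomial (Fin n) A := MvPolynomial.map (algebraMap R A)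
  let Q₀ := Q.comap ι
  let ψ : (LCI19.fibBase Q₀).ResidueField →+* (LCI19.fibBase Q).ResidueField :=
    Ideal.ResidueField.map (LCI19.fibBase Q₀) (LCI19.fibBase Q) (algebraMap R A) (by
      show Q₀.comap MvPolynomial.C = (Q.comap MvPolynomial.C).comap (algebraMap R A)
      rw [Ideal.comap_comap, Ideal.comap_comap]
      congr 1
      ext x
      simp [ι])
  let Ψ : LCI19.FibPoly Q₀ →+* LCI19.FibPoly Q := MvPolynomial.map ψ
  have hΨ : ∀ y, Ψ (LCI19.fibMap Q₀ y) = LCI19.fibMap Q (ι y) := by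
    intro y
    simp only [Ψ, ι, MvPolynomial.map_map]
    congr 2
    ext a
    exact Ideal.ResidueField.map_algebraMap _ _ _ _ _
  have hover : LCI19.fibPrime Q₀ = (LCI19.fibPrime Q).comap Ψ := by
    have hsame : ∀ y, LCI19.fibMap Q₀ y ∈ LCI19.fibPrime Q₀ ↔
        LCI19.fibMap Q₀ y ∈ (LCI19.fibPrime Q).comap Ψ := fun y => by
      rw [Ideal.mem_comap, hΨ, LCI19.fibMap_mem_iff, LCI19.fibMap_mem_iff]
      rfl
    ext v
    obtain ⟨b, y, hb, hy⟩ := LCI19.exists_denom Q₀ v
    have hb' : LCI19.fibMap Q₀ (C b) ∉ LCI19.fibPrime Q₀ := fun h => hb ((LCI19.fibMap_mem_iff Q₀ _).1 h)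
    have hb'' : LCI19.fibMap Q₀ (C b) ∉ (LCI19.fibPrime Q).comap Ψ := fun h => hb' ((hsame _).2 h)
    constructor
    · intro hv
      have := (hsame y).1 (hy ▸ Ideal.mul_mem_left _ _ hv)
      rw [← hy] at this
      exact (Ideal.IsPrime.mem_or_mem inferInstance this).resolve_left hb''
    · intro hv
      have := (hsame y).2 (hy ▸ Ideal.mul_mem_left _ _ hv)
      rw [← hy] at this
      exact (Ideal.IsPrime.mem_or_mem inferInstance this).resolve_left hb'
  let θ : LCI19.Fib Q₀ →+* LCI19.Fib Q := Localization.localRingHom (LCI19.fibPrime Q₀) (LCI19.fibPrime Q) Ψ hover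
  let : Algebra (LCI19.Fib Q₀) (LCI19.Fib Q) := θ.toAlgebra
  have : Module.FaithfullyFlat (LCI19.Fib Q₀) (LCI19.Fib Q) := by
    let : Algebra (LCI19.fibBase Q₀).ResidueField (LCI19.fibBase Q).ResidueField := ψ.toAlgebra
    let : Algebra (LCI19.FibPoly Q₀) (LCI19.FibPoly Q) := MvPolynomial.algebraMvPolynomial
    have : Algebra.IsPushout (LCI19.fibBase Q₀).ResidueField (LCI19.fibBase Q).ResidueField
        (LCI19.FibPoly Q₀) (LCI19.FibPoly Q) := inferInstance
    have : Algebra.IsPushout (LCI19.fibBase Q₀).ResidueField (LCI19.FibPoly Q₀)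
        (LCI19.fibBase Q).ResidueField (LCI19.FibPoly Q) := this.symm
    have : Module.Flat (LCI19.FibPoly Q₀) (LCI19.FibPoly Q) :=
      Module.Flat.isBaseChange (LCI19.fibBase Q₀).ResidueField (LCI19.FibPoly Q₀)
        (LCI19.fibBase Q).ResidueField (LCI19.FibPoly Q)
        (Algebra.IsPushout.out (R := (LCI19.fibBase Q₀).ResidueField) (S := LCI19.FibPoly Q₀)
          (R' := (LCI19.fibBase Q).ResidueField))
    have : (LCI19.fibPrime Q).LiesOver (LCI19.fibPrime Q₀) := ⟨hover⟩
    have : Localization.AtPrime.IsLiesOverAlgebra (LCI19.fibPrime Q₀) (LCI19.fibPrime Q) := ⟨rfl⟩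
    have : Module.Flat (LCI19.Fib Q₀) (LCI19.Fib Q) := inferInstance
    have : IsLocalHom (algebraMap (LCI19.Fib Q₀) (LCI19.Fib Q)) :=
      (inferInstance : IsLocalHom (Localization.localRingHom (LCI19.fibPrime Q₀) (LCI19.fibPrime Q) Ψ hover))
    exact Module.FaithfullyFlat.of_flat_of_isLocalHom
  have hθ : ∀ y, θ (LCI19.toFib Q₀ y) = LCI19.toFib Q (ι y) := fun y => by
    show θ (algebraMap _ _ (LCI19.fibMap Q₀ y)) = algebraMap _ _ (LCI19.fibMap Q (ι y))
    rw [Localization.localRingHom_to_map, hΨ]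
  have hl : List.ofFn (LCI19.toFib Q ∘ fun i => ι (F i)) =
      (List.ofFn (LCI19.toFib Q₀ ∘ F)).map (algebraMap (LCI19.Fib Q₀) (LCI19.Fib Q)) := by
    rw [List.map_ofFn]
    exact congrArg List.ofFn (funext fun i => (hθ (F i)).symm)
  unfold RegAt
  constructor
  · intro h
    rw [LCI19.isWeaklyRegular_ofFn_iff] at h ⊢
    intro i z hz
    have hmap : (Ideal.span ((LCI19.toFib Q₀ ∘ F) '' Set.Iio i)).map θ =
        Ideal.span ((LCI19.toFib Q ∘ fun i => ι (F i)) '' Set.Iio i) := by
      rw [Ideal.map_span, ← Set.image_comp]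
      simp [hθ, Function.comp_def]
    have h1 := h i (θ z) (by
      rw [← hmap, Function.comp_apply, ← hθ, ← map_mul]
      exact Ideal.mem_map_of_mem θ hz)
    rw [← hmap] at h1
    rw [← Ideal.comap_map_eq_self_of_faithfullyFlat (B := LCI19.Fib Q)
      (Ideal.span ((LCI19.toFib Q₀ ∘ F) '' Set.Iio i))]
    exact h1
  · intro h
    show RingTheory.Sequence.IsWeaklyRegular (LCI19.Fib Q) (List.ofFn (LCI19.toFib Q ∘ fun i => ι (F i)))
    rw [hl]
    exact RingTheory.Sequence.IsWeaklyRegular.of_flat h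

/-- Relative global complete intersections are stable under base change. -/
theorem isRelGCI_map {A : Type u} [CommRing A] [Algebra R A] (F : Fin c → MvPolynomial (Fin n) R)
    (h : Synt.IsRelGCI R n c F) :
    Synt.IsRelGCI A n c (fun i => MvPolynomial.map (algebraMap R A) (F i)) :=
  (isRelGCI_iff_regAt _).2 fun Q _ hQ => (regAt_map_iff F Q).2 ((isRelGCI_iff_regAt F).1 h _ hQ)

end Groth.Agent.RelGCI94
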