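import Groth.Agent.RelGCI94.CI
import Groth.Agent.RelGCI94.Pointwise
import Groth.Agent.RelGCI94.SyntProperty
import Groth.Agent.E4O.FibreDim

/-! The fibres of a relative global complete intersection are equidimensional. -/

set_option autoImplicit false
universe u

open AlgebraicGeometry CategoryTheory TopologicalSpace Topology MvPolynomial TensorProduct

namespace Groth.Agent.RelGCI94

theorem localDim_eq_of_isOpenEmbedding {α β : Type*} [TopologicalSpace α] [TopologicalSpace β] {e : α → β}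
    (he : IsOpenEmbedding e) (a : α) : FlatMor.localDim α a = FlatMor.localDim β (e a) := by
  refine le_antisymm (le_iInf fun U => ?_) (le_iInf fun U => ?_)
  · refine le_trans (TopDim50.localDim_le ⟨e ⁻¹' U.1, U.1.isOpen.preimage he.continuous⟩ U.2) ?_
    exact (he.isEmbedding.isInducing.restrictPreimage (U.1 : Set β)).topologicalKrullDim_le
  · refine le_trans (TopDim50.localDim_le ⟨e '' U.1, he.isOpenMap _ U.1.isOpen⟩ ⟨a, U.2, rfl⟩) ?_
    exact (he.isEmbedding.homeomorphImage (U.1 : Set α)).symm.isInducing.topologicalKrullDim_le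

theorem localDim_spec_relGCI {k : Type u} [Field k] {A : Type u} [CommRing A] [Algebra k A] {n c : ℕ}
    (F : Fin c → MvPolynomial (Fin n) k) (hF : Synt.IsRelGCI k n c F) (e : A ≃ₐ[k] Synt.RelGCIRing k n c F)
    (a : PrimeSpectrum A) : FlatMor.localDim (PrimeSpectrum A) a = ((n - c : ℕ) : WithBot ℕ∞) := by
  have : Nontrivial A := PrimeSpectrum.nonempty_iff_nontrivial.1 ⟨a⟩
  refine le_antisymm ?_ (le_iInf fun U => ?_)
  · refine (TopDim50.localDim_le_dim a).trans ?_
    rw [PrimeSpectrum.topologicalKrullDim_eq_ringKrullDim, ringKrullDim_eq_of_ringEquiv e.toRingEquiv,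
      ((isRelGCI_field_iff n c F).1 hF e.symm.toEquiv.nontrivial).2]
  · obtain ⟨_, ⟨g, rfl⟩, hag, hgU⟩ :=
      PrimeSpectrum.isTopologicalBasis_basic_opens.exists_subset_of_mem_open U.2 U.1.isOpen
    obtain ⟨F₁, hF₁, ⟨e₁⟩⟩ := exists_relGCI_away k n c F hF e g
    let φ : PrimeSpectrum (Localization.Away g) → PrimeSpectrum A := PrimeSpectrum.comap (algebraMap A _)
    have hφ : IsOpenEmbedding φ := PrimeSpectrum.localization_away_isOpenEmbedding (Localization.Away g) g
    have hr : Set.range φ = PrimeSpectrum.basicOpen g := PrimeSpectrum.localization_away_comap_range _ g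
    have hmem : ∀ t, φ t ∈ (U.1 : Set (PrimeSpectrum A)) := fun t => hgU (hr.le ⟨t, rfl⟩)
    have : Nontrivial (Localization.Away g) := by
      obtain ⟨t, -⟩ : a ∈ Set.range φ := hr ▸ hag
      exact PrimeSpectrum.nonempty_iff_nontrivial.1 ⟨t⟩
    have hd : ringKrullDim (Localization.Away g) = ((n - c : ℕ) : WithBot ℕ∞) := by
      rw [ringKrullDim_eq_of_ringEquiv e₁.toRingEquiv,
        ((isRelGCI_field_iff _ _ F₁).1 hF₁ e₁.symm.toEquiv.nontrivial).2, Nat.add_sub_add_right]
    rw [← hd, ← PrimeSpectrum.topologicalKrullDim_eq_ringKrullDim]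
    exact (hφ.isEmbedding.codRestrict _ hmem).isInducing.topologicalKrullDim_le

theorem fibreDimAt_chart {R : Type u} [CommRing R] {n c : ℕ} (F : Fin c → MvPolynomial (Fin n) R)
    (hF : Synt.IsRelGCI R n c F) {X Y : Scheme.{u}} (f : X ⟶ Y)
    (e : Spec (CommRingCat.of (Synt.RelGCIRing R n c F)) ⟶ X) [IsOpenImmersion e]
    (j : Spec (CommRingCat.of R) ⟶ Y) [IsOpenImmersion j]
    (comm : e ≫ f = Spec.map (CommRingCat.ofHom (algebraMap R (Synt.RelGCIRing R n c F))) ≫ j)
    (q : Spec (CommRingCat.of (Synt.RelGCIRing R n c F))) :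
    FlatMor.fibreDimAt f (e q) = ((n - c : ℕ) : WithBot ℕ∞) := by
  let φ : PrimeSpectrum (Synt.RelGCIRing R n c F) → PrimeSpectrum R := PrimeSpectrum.comap (algebraMap R _)
  have happ : ∀ t, f (e t) = j (φ t) := fun t => congr(($comm).base t)
  let s : Set X := f ⁻¹' {f (e q)}
  have hs : (fun t => e t) ⁻¹' s = φ ⁻¹' {φ q} := by
    ext t
    simp only [s, Set.mem_preimage, Set.mem_singleton_iff]
    rw [happ, happ]
    exact j.isOpenEmbedding.injective.eq_iff
  rw [E4O.fibreDimAt_eq_localDim]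
  refine (localDim_eq_of_isOpenEmbedding (e.isOpenEmbedding.restrictPreimage s) ⟨q, rfl⟩).symm.trans ?_
  refine (E4O.localDim_eq_of_homeomorph (Homeomorph.setCongr hs) _).trans ?_
  refine (E4O.localDim_eq_of_homeomorph (PrimeSpectrum.preimageHomeomorphFiber R _ (φ q)) _).trans ?_
  exact localDim_spec_relGCI (A := (φ q).asIdeal.Fiber (Synt.RelGCIRing R n c F))
    _ (isRelGCI_map (A := (φ q).asIdeal.ResidueField) F hF)
    (baseChangePresEquiv (φ q).asIdeal.ResidueField F) _

end Groth.Agent.RelGCI94
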