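import Groth.Agent.RelGCI94.LocalCI

/-! Regularity on the fibre and the trick `h * X - 1`. -/

set_option autoImplicit false
universe u

open MvPolynomial TensorProduct IsLocalRing

namespace Groth.Agent.RelGCI94

section General

variable (R : Type u) [CommRing R] (n c : ℕ) (F : Fin c → MvPolynomial (Fin n) R) (h : MvPolynomial (Fin n) R)

/-- inclusion of spectra -/
noncomputable abbrev inclSpec : PrimeSpectrum (Synt.RelGCIRing R (n + 1) (c + 1) (F' R n c F h)) →
    PrimeSpectrum (Synt.RelGCIRing R n c F) :=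
  PrimeSpectrum.comap (incl R n c F h).toRingHom

theorem inclSpec_eq (a : PrimeSpectrum (Synt.RelGCIRing R (n + 1) (c + 1) (F' R n c F h))) :
    inclSpec R n c F h a = PrimeSpectrum.comap (algebraMap (Synt.RelGCIRing R n c F)
      (Localization.Away (Ideal.Quotient.mk (Ideal.span (Set.range F)) h)))
        (PrimeSpectrum.comap (awayEquiv R n c F h).toRingEquiv.toRingHom a) := by
  rw [← PrimeSpectrum.comap_comp_apply]
  refine congrArg (fun g => PrimeSpectrum.comap g a) (RingHom.ext fun s => ?_)
  show _ = awayEquiv R n c F h (algebraMap _ _ s)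
  exact (IsLocalization.Away.lift_eq _ (isUnit_incl R n c F h) s).symm

theorem inclSpec_strictMono : StrictMono (inclSpec R n c F h) := fun _ _ hab =>
  lt_of_le_of_ne (Ideal.comap_mono hab.le) fun he => hab.ne (incl_comap_injective R n c F h he)

theorem exists_inclSpec_eq (q : PrimeSpectrum (Synt.RelGCIRing R n c F))
    (hq : Ideal.Quotient.mk _ h ∉ q.asIdeal) : ∃ a, inclSpec R n c F h a = q := by
  let L := Localization.Away (Ideal.Quotient.mk (Ideal.span (Set.range F)) h)
  have hmem : q ∈ Set.range (PrimeSpectrum.comap (algebraMap (Synt.RelGCIRing R n c F) L)) := by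
    rw [PrimeSpectrum.localization_away_comap_range L (Ideal.Quotient.mk (Ideal.span (Set.range F)) h)]
    exact hq
  obtain ⟨b, hb⟩ := hmem
  refine ⟨PrimeSpectrum.comap (awayEquiv R n c F h).symm.toRingEquiv.toRingHom b, ?_⟩
  rw [inclSpec_eq, ← PrimeSpectrum.comap_comp_apply (awayEquiv R n c F h).toRingEquiv.toRingHom
    (awayEquiv R n c F h).symm.toRingEquiv.toRingHom b]
  rw [show (awayEquiv R n c F h).symm.toRingEquiv.toRingHom.comp (awayEquiv R n c F h).toRingEquiv.toRingHom =
    RingHom.id L from RingHom.ext fun x => (awayEquiv R n c F h).symm_apply_apply x, PrimeSpectrum.comap_id]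
  exact hb

theorem inclSpec_notMem (a : PrimeSpectrum (Synt.RelGCIRing R (n + 1) (c + 1) (F' R n c F h))) :
    Ideal.Quotient.mk _ h ∉ (inclSpec R n c F h a).asIdeal := fun hm =>
  a.2.ne_top (Ideal.eq_top_of_isUnit_mem _ hm (isUnit_incl R n c F h))

theorem height_inclSpec (a : PrimeSpectrum (Synt.RelGCIRing R (n + 1) (c + 1) (F' R n c F h))) :
    Order.height a = Order.height (inclSpec R n c F h a) := by
  refine Order.height_eq_of_strictMono _ (inclSpec_strictMono R n c F h) (fun x q hq => ?_) a
  obtain ⟨y, hy⟩ := exists_inclSpec_eq R n c F h q fun hm => inclSpec_notMem R n c F h x (hq.le hm)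
  refine ⟨y, ?_, hy⟩
  rw [← hy, inclSpec_eq, inclSpec_eq] at hq
  let L := Localization.Away (Ideal.Quotient.mk (Ideal.span (Set.range F)) h)
  have key : ∀ u v : PrimeSpectrum L, PrimeSpectrum.comap (algebraMap (Synt.RelGCIRing R n c F) L) u ≤
      PrimeSpectrum.comap (algebraMap (Synt.RelGCIRing R n c F) L) v → u ≤ v := fun u v huv => by
    show u.asIdeal ≤ v.asIdeal
    rw [← IsLocalization.map_under (Submonoid.powers (Ideal.Quotient.mk (Ideal.span (Set.range F)) h)) L u.asIdeal,
      ← IsLocalization.map_under (Submonoid.powers (Ideal.Quotient.mk (Ideal.span (Set.range F)) h)) L v.asIdeal]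
    exact Ideal.map_mono huv
  have hle := key _ _ hq.le
  refine lt_of_le_of_ne ?_ fun hyx => hq.ne (by rw [hyx])
  show y.asIdeal ≤ x.asIdeal
  intro z hz
  have : (awayEquiv R n c F h).symm z ∈ (PrimeSpectrum.comap (awayEquiv R n c F h).toRingEquiv.toRingHom y).asIdeal := by
    show awayEquiv R n c F h ((awayEquiv R n c F h).symm z) ∈ y.asIdeal
    rwa [AlgEquiv.apply_symm_apply]
  have h2 := hle this
  have : awayEquiv R n c F h ((awayEquiv R n c F h).symm z) ∈ x.asIdeal := h2
  rwa [AlgEquiv.apply_symm_apply] at this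

end General

section Field

variable {k : Type u} [Field k] {n c : ℕ} (f : Fin c → MvPolynomial (Fin n) k)

/-- dimension of the local ring of a presentation -/
theorem ringKrullDim_atPrime_quotient (P : Ideal (MvPolynomial (Fin n) k)) [P.IsPrime] (hP : ∀ i, f i ∈ P)
    (q : PrimeSpectrum (Synt.RelGCIRing k n c f)) (hq : q.asIdeal.comap (Ideal.Quotient.mk _) = P) :
    ringKrullDim (Localization.AtPrime P ⧸
      Ideal.span (Set.range (algebraMap _ (Localization.AtPrime P) ∘ f))) = (Order.height q : WithBot ℕ∞) := by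
  subst hq
  rw [Set.range_comp, ← Ideal.map_span]
  have := Gor18.isLocalization_atPrime_quotient (q.asIdeal.comap (Ideal.Quotient.mk (Ideal.span (Set.range f))))
    (Localization.AtPrime (q.asIdeal.comap (Ideal.Quotient.mk (Ideal.span (Set.range f))))) (Ideal.span (Set.range f))
    q.asIdeal rfl
  exact (IsLocalization.AtPrime.ringKrullDim_eq_height q.asIdeal (Localization.AtPrime
    (q.asIdeal.comap (Ideal.Quotient.mk (Ideal.span (Set.range f)))) ⧸ (Ideal.span (Set.range f)).map
      (algebraMap _ (Localization.AtPrime (q.asIdeal.comap (Ideal.Quotient.mk (Ideal.span (Set.range f)))))))).trans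
    (congrArg _ (PrimeSpectrum.height_eq_orderHeight q))

theorem regular_away_iff (h : MvPolynomial (Fin n) k) (P' : Ideal (MvPolynomial (Fin (n + 1)) k)) [P'.IsPrime]
    (P : Ideal (MvPolynomial (Fin n) k)) [P.IsPrime] (hP : P = P'.comap (rename Fin.castSucc))
    (hP' : ∀ i, F' k n c f h i ∈ P') :
    RingTheory.Sequence.IsWeaklyRegular (Localization.AtPrime P')
        (List.ofFn (algebraMap _ (Localization.AtPrime P') ∘ F' k n c f h)) ↔
      RingTheory.Sequence.IsWeaklyRegular (Localization.AtPrime P)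
        (List.ofFn (algebraMap _ (Localization.AtPrime P) ∘ f)) := by
  have hf : ∀ i, f i ∈ P := fun i => by
    subst hP
    have := hP' i.castSucc
    rwa [F', Fin.snoc_castSucc] at this
  let J := Ideal.span (Set.range f)
  let J' := Ideal.span (Set.range (F' k n c f h))
  have hJ' : J' ≤ P' := Ideal.span_le.2 (by rintro _ ⟨i, rfl⟩; exact hP' i)
  have hJ : J ≤ P := Ideal.span_le.2 (by rintro _ ⟨i, rfl⟩; exact hf i)
  let a : PrimeSpectrum (Synt.RelGCIRing k (n + 1) (c + 1) (F' k n c f h)) :=
    ⟨P'.map (Ideal.Quotient.mk J'),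
      Ideal.map_isPrime_of_surjective Ideal.Quotient.mk_surjective (by rwa [Ideal.mk_ker])⟩
  have ha : a.asIdeal.comap (Ideal.Quotient.mk J') = P' := by
    show (P'.map _).comap _ = P'
    rw [Ideal.comap_map_of_surjective _ Ideal.Quotient.mk_surjective, ← RingHom.ker_eq_comap_bot, Ideal.mk_ker,
      sup_eq_left.2 hJ']
  let b := inclSpec k n c f h a
  have hb : b.asIdeal.comap (Ideal.Quotient.mk J) = P := by
    rw [hP, ← ha]
    show (a.asIdeal.comap (incl k n c f h).toRingHom).comap _ = (a.asIdeal.comap _).comap _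
    rw [Ideal.comap_comap, ← Ideal.comap_coe (rename (R := k) (Fin.castSucc : Fin n → Fin (n + 1))), Ideal.comap_comap]
    rfl
  rw [isWeaklyRegular_iff_dim (algebraMap _ (Localization.AtPrime P') ∘ F' k n c f h) fun i =>
      (IsLocalization.AtPrime.to_map_mem_maximal_iff (Localization.AtPrime P') P' _).2 (hP' i),
    isWeaklyRegular_iff_dim (algebraMap _ (Localization.AtPrime P) ∘ f) fun i =>
      (IsLocalization.AtPrime.to_map_mem_maximal_iff (Localization.AtPrime P) P _).2 (hf i),
    ringKrullDim_atPrime_quotient _ P' hP' a ha, ringKrullDim_atPrime_quotient _ P hf b hb,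
    show Order.height a = Order.height b from height_inclSpec k n c f h a,
    IsLocalization.AtPrime.ringKrullDim_eq_height P', IsLocalization.AtPrime.ringKrullDim_eq_height P]
  obtain ⟨d, e, hd, he, hde⟩ := ringKrullDim_mvPolynomial_quotient_add_height P
  obtain ⟨d', e', hd', he', hde'⟩ := ringKrullDim_mvPolynomial_quotient_add_height P'
  -- the residue domains have the same dimension
  let ρ : MvPolynomial (Fin n) k ⧸ P →ₐ[k] MvPolynomial (Fin (n + 1)) k ⧸ P' :=
    Ideal.quotientMapₐ P' (rename Fin.castSucc) hP.le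
  have hρ : Function.Injective ρ := Ideal.quotientMap_injective' (H := hP.le) hP.ge
  have hle : d ≤ d' := by
    have h1 := trdeg_le_of_injective ρ hρ
    rw [E4O.trdeg_eq_natCast k (MvPolynomial (Fin n) k ⧸ P),
      E4O.trdeg_eq_natCast k (MvPolynomial (Fin (n + 1)) k ⧸ P'), Nat.cast_le] at h1
    rw [E4O.ringKrullDim_eq_trdeg k (MvPolynomial (Fin n) k ⧸ P), Nat.cast_inj] at hd
    rw [E4O.ringKrullDim_eq_trdeg k (MvPolynomial (Fin (n + 1)) k ⧸ P'), Nat.cast_inj] at hd'
    omega
  have hge : d' ≤ d := by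
    have h1 : Order.coheight a ≤ Order.coheight b :=
      Order.coheight_le_coheight_apply_of_strictMono _ (inclSpec_strictMono k n c f h) a
    have key : ∀ {m r : ℕ} (g : Fin r → MvPolynomial (Fin m) k)
        (x : PrimeSpectrum (Synt.RelGCIRing k m r g)) (Q : Ideal (MvPolynomial (Fin m) k)),
        x.asIdeal.comap (Ideal.Quotient.mk _) = Q →
        (Order.coheight x : WithBot ℕ∞) = ringKrullDim (MvPolynomial (Fin m) k ⧸ Q) := by
      intro m r g x Q hx
      subst hx
      have e : (Synt.RelGCIRing k m r g ⧸ x.asIdeal) ≃+*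
          MvPolynomial (Fin m) k ⧸ x.asIdeal.comap (Ideal.Quotient.mk _) :=
        (RingEquiv.ofBijective (Ideal.quotientMap x.asIdeal (Ideal.Quotient.mk _) le_rfl)
          ⟨Ideal.quotientMap_injective, Ideal.quotientMap_surjective Ideal.Quotient.mk_surjective⟩).symm
      rw [← @ringKrullDim_eq_of_ringEquiv (Synt.RelGCIRing k m r g ⧸ x.asIdeal) _ _ _ e,
        Order.coheight_eq_krullDim_Ici, ringKrullDim_quotient]
      exact (Order.krullDim_eq_of_orderIso
        { toEquiv := Equiv.subtypeEquivRight (fun q => by simp)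
          map_rel_iff' := Iff.rfl }).symm
    have h2 := WithBot.coe_le_coe.2 h1
    rw [key _ a P' ha, key _ b P hb, hd, hd'] at h2
    exact_mod_cast h2
  have hE : Order.height b ≠ ⊤ := by
    rw [← PrimeSpectrum.height_eq_orderHeight]
    exact Ideal.height_ne_top b.2.ne_top
  obtain ⟨x, hx⟩ := ENat.ne_top_iff_exists.1 hE
  rw [← hx, he, he']
  constructor <;> intro h1
  · have h2 : x + (c + 1) ≤ e' := (Nat.cast_le (α := WithBot ℕ∞)).1 (le_trans (le_of_eq (by simp)) h1)
    refine le_trans (le_of_eq (by simp)) ((Nat.cast_le (α := WithBot ℕ∞)).2 (show x + c ≤ e by omega))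
  · have h2 : x + c ≤ e := (Nat.cast_le (α := WithBot ℕ∞)).1 (le_trans (le_of_eq (by simp)) h1)
    refine le_trans (le_of_eq (by simp)) ((Nat.cast_le (α := WithBot ℕ∞)).2 (show x + (c + 1) ≤ e' by omega))

end Field

section Rel

variable {R : Type u} [CommRing R] {n c : ℕ} (F : Fin c → MvPolynomial (Fin n) R) (h : MvPolynomial (Fin n) R)

/-- Regularity on the fibre is unchanged by `h * X - 1`. -/
theorem regAt_away_iff (Q' : Ideal (MvPolynomial (Fin (n + 1)) R)) [Q'.IsPrime]
    (Q : Ideal (MvPolynomial (Fin n) R)) [Q.IsPrime] (hQ : Q = Q'.comap (rename Fin.castSucc))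
    (hQ' : ∀ i, F' R n c F h i ∈ Q') : RegAt (F' R n c F h) Q' ↔ RegAt F Q := by
  let p := LCI19.fibBase Q'
  let φ := algebraMap R p.ResidueField
  let P' := LCI19.fibPrime Q'
  let P := P'.comap (rename (R := p.ResidueField) (Fin.castSucc : Fin n → Fin (n + 1)))
  have hmap : ∀ i, MvPolynomial.map φ (F' R n c F h i) =
      F' p.ResidueField n c (fun i => MvPolynomial.map φ (F i)) (MvPolynomial.map φ h) i := fun i => by
    induction i using Fin.lastCases with
    | cast i => simp [F', map_rename]
    | last => simp [F', map_rename]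
  have hP' : ∀ i, F' p.ResidueField n c (fun i => MvPolynomial.map φ (F i)) (MvPolynomial.map φ h) i ∈ P' :=
    fun i => hmap i ▸ (LCI19.fibMap_mem_iff Q' _).2 (hQ' i)
  have h1 : RegAt (F' R n c F h) Q' ↔ RingTheory.Sequence.IsWeaklyRegular (Localization.AtPrime P')
      (List.ofFn (algebraMap _ (Localization.AtPrime P') ∘
        F' p.ResidueField n c (fun i => MvPolynomial.map φ (F i)) (MvPolynomial.map φ h))) := by
    rw [← funext hmap]
    exact Iff.rfl
  rw [h1, regular_away_iff _ _ P' P rfl hP']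
  refine regular_iff_regAt F p P Q ?_ ?_
  · rw [hQ, ← Ideal.comap_coe (rename (R := R) (Fin.castSucc : Fin n → Fin (n + 1))), Ideal.comap_comap]
    show Q'.comap _ = Q'.comap MvPolynomial.C
    congr 1
    ext r
    simp
  · rw [hQ]
    ext x
    rw [Ideal.mem_comap, ← LCI19.fibMap_mem_iff Q', Ideal.mem_comap, Ideal.mem_comap]
    show MvPolynomial.map φ (rename Fin.castSucc x) ∈ P' ↔ rename Fin.castSucc (MvPolynomial.map φ x) ∈ P'
    rw [map_rename]

/-- `R[x, y]/(F, h y - 1)` is a relative global complete intersection iff `F` is regular on `D(h)`. -/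
theorem isRelGCI_away_iff :
    Synt.IsRelGCI R (n + 1) (c + 1) (F' R n c F h) ↔
      ∀ (Q : Ideal (MvPolynomial (Fin n) R)) [Q.IsPrime], (∀ i, F i ∈ Q) → h ∉ Q → RegAt F Q := by
  rw [isRelGCI_iff_regAt]
  constructor
  · intro H Q _ hQ hh
    let J := Ideal.span (Set.range F)
    have hJ : J ≤ Q := Ideal.span_le.2 (by rintro _ ⟨i, rfl⟩; exact hQ i)
    let b : PrimeSpectrum (Synt.RelGCIRing R n c F) :=
      ⟨Q.map (Ideal.Quotient.mk J),
        Ideal.map_isPrime_of_surjective Ideal.Quotient.mk_surjective (by rwa [Ideal.mk_ker])⟩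
    have hb : b.asIdeal.comap (Ideal.Quotient.mk J) = Q := by
      show (Q.map _).comap _ = Q
      rw [Ideal.comap_map_of_surjective _ Ideal.Quotient.mk_surjective, ← RingHom.ker_eq_comap_bot, Ideal.mk_ker,
        sup_eq_left.2 hJ]
    obtain ⟨a, ha⟩ := exists_inclSpec_eq R n c F h b (fun hm => hh (hb ▸ hm : h ∈ Q))
    let Q' := a.asIdeal.comap (Ideal.Quotient.mk (Ideal.span (Set.range (F' R n c F h))))
    have hQ' : ∀ i, F' R n c F h i ∈ Q' := fun i => by
      show Ideal.Quotient.mk _ _ ∈ a.asIdeal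
      rw [Ideal.Quotient.eq_zero_iff_mem.2 (Ideal.subset_span (Set.mem_range_self i))]
      exact zero_mem _
    refine (regAt_away_iff F h Q' Q ?_ hQ').1 (H Q' hQ')
    rw [← hb, ← ha]
    ext x
    rfl
  · intro H Q' _ hQ'
    refine (regAt_away_iff F h Q' (Q'.comap (rename Fin.castSucc)) rfl hQ').2 (H _ (fun i => ?_) fun hm => ?_)
    · have := hQ' i.castSucc
      rwa [F', Fin.snoc_castSucc] at this
    · have h1 := hQ' (Fin.last c)
      rw [F', Fin.snoc_last] at h1
      refine (Ideal.ne_top_iff_one Q').1 (Ideal.IsPrime.ne_top inferInstance) ?_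
      have h2 : rename Fin.castSucc h * X (Fin.last n) ∈ Q' := Ideal.mul_mem_right _ _ hm
      simpa using sub_mem h2 h1

end Rel

end Groth.Agent.RelGCI94
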