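import Groth.Agent.RelGCI94.FibreRegular
import Mathlib.RingTheory.Localization.Away.Basic

/-! Global and local complete intersections over a field via presentations. -/

set_option autoImplicit false
universe u

open MvPolynomial TensorProduct

namespace Groth.Agent.RelGCI94

section Field

variable {k : Type u} [Field k] {S : Type u} [CommRing S] [Algebra k S]

variable (S) in
/-- over a field there is only one fibre -/
theorem ringKrullDim_fiber_field (p : PrimeSpectrum k) :
    ringKrullDim (p.asIdeal.Fiber S) = ringKrullDim S := by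
  refine (Order.krullDim_eq_of_orderIso (PrimeSpectrum.preimageOrderIsoFiber k S p)).symm.trans
    (Order.krullDim_eq_of_orderIso ?_)
  exact
    { toEquiv := Equiv.subtypeUnivEquiv fun q => Subsingleton.elim _ _
      map_rel_iff' := Iff.rfl }

theorem isRelGCI_field_iff (n c : ℕ) (F : Fin c → MvPolynomial (Fin n) k) :
    Synt.IsRelGCI k n c F ↔ (Nontrivial (Synt.RelGCIRing k n c F) →
      c ≤ n ∧ ringKrullDim (Synt.RelGCIRing k n c F) = ((n - c : ℕ) : WithBot ℕ∞)) := by
  have hnt : ∀ p : PrimeSpectrum k, Nontrivial (p.asIdeal.Fiber (Synt.RelGCIRing k n c F)) ↔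
      Nontrivial (Synt.RelGCIRing k n c F) := fun p => by
    rw [← not_iff_not, not_nontrivial_iff_subsingleton, not_nontrivial_iff_subsingleton,
      ← PrimeSpectrum.isEmpty_iff_subsingleton, ← PrimeSpectrum.isEmpty_iff_subsingleton,
      ← Order.krullDim_eq_bot_iff, ← Order.krullDim_eq_bot_iff]
    exact (congrArg (· = ⊥) (ringKrullDim_fiber_field _ p)).to_iff
  constructor
  · intro h hn
    obtain ⟨p⟩ : Nonempty (PrimeSpectrum k) := inferInstance
    have := h p ((hnt p).2 hn)
    rwa [ringKrullDim_fiber_field] at this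
  · intro h p hp
    rw [ringKrullDim_fiber_field]
    exact h ((hnt p).1 hp)

theorem isGlobalCI_iff : Synt.IsGlobalCI k S ↔ ∃ (n c : ℕ) (F : Fin c → MvPolynomial (Fin n) k),
    Synt.IsRelGCI k n c F ∧ Nonempty (S ≃ₐ[k] Synt.RelGCIRing k n c F) := by
  constructor
  · rintro (hS | ⟨n, c, hcn, φ, r, hφ, hker, hdim⟩)
    · have hT : Subsingleton (Synt.RelGCIRing k 0 1 fun _ => 1) :=
        Ideal.Quotient.subsingleton_iff.2 ((Ideal.eq_top_iff_one _).2 (Ideal.subset_span ⟨0, rfl⟩))
      refine ⟨0, 1, fun _ => 1, (isRelGCI_field_iff _ _ _).2 fun h => (not_nontrivial_iff_subsingleton.2 hT h).elim, ⟨?_⟩⟩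
      exact AlgEquiv.ofBijective
        { toFun := fun _ => 0
          map_one' := Subsingleton.elim _ _
          map_mul' := fun _ _ => Subsingleton.elim _ _
          map_zero' := rfl
          map_add' := fun _ _ => Subsingleton.elim _ _
          commutes' := fun _ => Subsingleton.elim _ _ }
        ⟨fun _ _ _ => Subsingleton.elim _ _, fun x => ⟨0, Subsingleton.elim _ _⟩⟩
    · let e : Synt.RelGCIRing k n c r ≃ₐ[k] S :=
        (Ideal.quotientEquivAlgOfEq k hker.symm).trans (Ideal.quotientKerAlgEquivOfSurjective hφ)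
      exact ⟨n, c, r, (isRelGCI_field_iff _ _ _).2 fun _ =>
        ⟨hcn, (ringKrullDim_eq_of_ringEquiv e.toRingEquiv).trans hdim⟩, ⟨e.symm⟩⟩
  · rintro ⟨n, c, F, hF, ⟨e⟩⟩
    rcases subsingleton_or_nontrivial S with hS | hS
    · exact Or.inl hS
    have := e.symm.toEquiv.nontrivial
    obtain ⟨hcn, hdim⟩ := (isRelGCI_field_iff _ _ _).1 hF this
    refine Or.inr ⟨n, c, hcn, e.symm.toAlgHom.comp (Ideal.Quotient.mkₐ k _), F,
      e.symm.surjective.comp Ideal.Quotient.mk_surjective, ?_,
      (ringKrullDim_eq_of_ringEquiv e.toRingEquiv).trans hdim⟩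
    ext x
    show e.symm (Ideal.Quotient.mk _ x) = 0 ↔ _
    rw [map_eq_zero_iff _ e.symm.injective, Ideal.Quotient.eq_zero_iff_mem]

theorem isGlobalCI_congr {T : Type u} [CommRing T] [Algebra k T] (e : S ≃ₐ[k] T)
    (h : Synt.IsGlobalCI k S) : Synt.IsGlobalCI k T := by
  rw [isGlobalCI_iff] at h ⊢
  obtain ⟨n, c, F, hF, ⟨e'⟩⟩ := h
  exact ⟨n, c, F, hF, ⟨e.symm.trans e'⟩⟩

end Field

/-- Inverting an element of a relative global complete intersection. -/
theorem isRelGCI_away (R : Type u) [CommRing R] (n c : ℕ) (F : Fin c → MvPolynomial (Fin n) R)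
    (h : Synt.IsRelGCI R n c F) (g : MvPolynomial (Fin n) R) :
    Synt.IsRelGCI R (n + 1) (c + 1) (F' R n c F g) := by
  have hq : ∀ q : PrimeSpectrum (Synt.RelGCIRing R n c F),
      c ≤ n ∧ ringKrullDim ((PrimeSpectrum.comap (algebraMap R _) q).asIdeal.Fiber (Synt.RelGCIRing R n c F)) =
        ((n - c : ℕ) : WithBot ℕ∞) := fun q =>
    h _ (PrimeSpectrum.nonempty_iff_nontrivial.1 ⟨(PrimeSpectrum.preimageOrderIsoFiber R _ _) ⟨q, rfl⟩⟩)
  refine isRelGCI_of_small R n c F g ?_ fun q _ => fibreDimAt_le_of_dim R n c F (n - c) q (hq q).2.le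
  rcases isEmpty_or_nonempty (PrimeSpectrum (Synt.RelGCIRing R n c F)) with hS | ⟨⟨q⟩⟩
  · exact Or.inr fun q => (hS.false q).elim
  · exact Or.inl (hq q).1

/-- Transport of the localisation along an isomorphism. -/
noncomputable def awayCongr {R S T : Type u} [CommRing R] [CommRing S] [CommRing T] [Algebra R S] [Algebra R T]
    (e : S ≃ₐ[R] T) (g : S) : Localization.Away g ≃ₐ[R] Localization.Away (e g) :=
  AlgEquiv.ofRingEquiv
    (f := IsLocalization.ringEquivOfRingEquiv (M := Submonoid.powers g) (T := Submonoid.powers (e g))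
      (Localization.Away g) (Localization.Away (e g)) e.toRingEquiv
      (by rw [Submonoid.map_powers]; rfl))
    (fun r => by
      rw [IsScalarTower.algebraMap_apply R S (Localization.Away g),
        IsScalarTower.algebraMap_apply R T (Localization.Away (e g))]
      exact (IsLocalization.ringEquivOfRingEquiv_eq _ _).trans (congrArg _ (e.commutes r)))

theorem exists_relGCI_away (R : Type u) [CommRing R] (n c : ℕ) (F : Fin c → MvPolynomial (Fin n) R)
    (h : Synt.IsRelGCI R n c F) {S : Type u} [CommRing S] [Algebra R S]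
    (e : S ≃ₐ[R] Synt.RelGCIRing R n c F) (g : S) :
    ∃ F₁ : Fin (c + 1) → MvPolynomial (Fin (n + 1)) R, Synt.IsRelGCI R (n + 1) (c + 1) F₁ ∧
      Nonempty (Localization.Away g ≃ₐ[R] Synt.RelGCIRing R (n + 1) (c + 1) F₁) := by
  obtain ⟨h₀, hh₀⟩ := Ideal.Quotient.mk_surjective (e g)
  refine ⟨F' R n c F h₀, isRelGCI_away R n c F h h₀, ⟨(awayCongr e g).trans ?_⟩⟩
  rw [← hh₀]
  exact awayEquiv R n c F h₀

section Field

variable {k : Type u} [Field k] {S : Type u} [CommRing S] [Algebra k S]

theorem isGlobalCI_away (h : Synt.IsGlobalCI k S) (g : S) : Synt.IsGlobalCI k (Localization.Away g) := by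
  obtain ⟨n, c, F, hF, ⟨e⟩⟩ := isGlobalCI_iff.1 h
  obtain ⟨F₁, hF₁, he⟩ := exists_relGCI_away k n c F hF e g
  exact isGlobalCI_iff.2 ⟨_, _, F₁, hF₁, he⟩

end Field

/-- `(S_g)_a ≅ (S_a)_g`. -/
noncomputable def awayAwayEquiv (R : Type u) [CommRing R] {S : Type u} [CommRing S] [Algebra R S] (g a : S) :
    Localization.Away (algebraMap S (Localization.Away g) a) ≃ₐ[R]
      Localization.Away (algebraMap S (Localization.Away a) g) :=
  haveI : IsLocalization.Away (a * g) (Localization.Away (algebraMap S (Localization.Away g) a)) :=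
    IsLocalization.Away.mul (Localization.Away g) _ g a
  haveI : IsLocalization.Away (a * g) (Localization.Away (algebraMap S (Localization.Away a) g)) :=
    IsLocalization.Away.mul' (Localization.Away a) _ a g
  (IsLocalization.algEquiv (Submonoid.powers (a * g)) _ _).restrictScalars R

theorem isLCIOver_away {k : Type u} [Field k] {S : Type u} [CommRing S] [Algebra k S] (h : Synt.IsLCIOver k S)
    (g : S) : Synt.IsLCIOver k (Localization.Away g) := by
  have := h.1
  refine ⟨Algebra.FiniteType.trans (S := S) inferInstance inferInstance, fun P => ?_⟩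
  obtain ⟨a, ha, hGCI⟩ := h.2 (PrimeSpectrum.comap (algebraMap S (Localization.Away g)) P)
  exact ⟨algebraMap S _ a, ha,
    isGlobalCI_congr (awayAwayEquiv k g a).symm (isGlobalCI_away hGCI (algebraMap S _ g))⟩

theorem isLCIOver_of_isGlobalCI {k : Type u} [Field k] {S : Type u} [CommRing S] [Algebra k S]
    (h : Synt.IsGlobalCI k S) : Synt.IsLCIOver k S := by
  obtain ⟨n, c, F, hF, ⟨e⟩⟩ := isGlobalCI_iff.1 h
  exact ⟨Algebra.FiniteType.equiv inferInstance e.symm,
    fun P => ⟨1, (Ideal.ne_top_iff_one _).1 P.2.ne_top, isGlobalCI_away h 1⟩⟩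

/-- The fibres of a relative global complete intersection are global complete intersections. -/
theorem isGlobalCI_fiber (R : Type u) [CommRing R] (n c : ℕ) (F : Fin c → MvPolynomial (Fin n) R)
    (h : Synt.IsRelGCI R n c F) (p : PrimeSpectrum R) :
    Synt.IsGlobalCI p.asIdeal.ResidueField (p.asIdeal.Fiber (Synt.RelGCIRing R n c F)) :=
  isGlobalCI_iff.2 ⟨n, c, _, (isRelGCI_field_iff _ _ _).2 fun hn =>
    ringKrullDim_quotient_fibre_le R n c F h p (Ideal.Quotient.nontrivial_iff.1 hn),
    ⟨fibreEquiv R n c F p.asIdeal⟩⟩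

end Groth.Agent.RelGCI94
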