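import Groth.Agent.RelGCI94.SyntLocal

/-! Local rings of quotients of affine space cut out by codimension many equations. -/

set_option autoImplicit false
universe u

open IsLocalRing

namespace Groth.Agent.RelGCI94

variable {k : Type u} [Field k] {n : ℕ} (I : Ideal (MvPolynomial (Fin n) k))
  (q : Ideal (MvPolynomial (Fin n) k ⧸ I)) [q.IsPrime]

/-- the regular local ring of affine space -/
abbrev AmbLoc : Type u := Localization.AtPrime (q.comap (Ideal.Quotient.mk I))

/-- the ideal in it -/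
noncomputable abbrev locIdeal : Ideal (AmbLoc I q) :=
  I.map (algebraMap _ (Localization.AtPrime (q.comap (Ideal.Quotient.mk I))))

theorem dim_eq {c : ℕ} (hc : (c : ℕ∞) + q.height = (q.comap (Ideal.Quotient.mk I)).height) :
    ringKrullDim (AmbLoc I q ⧸ locIdeal I q) + (c : WithBot ℕ∞) = ringKrullDim (AmbLoc I q) := by
  have := Gor18.isLocalization_atPrime_quotient (q.comap (Ideal.Quotient.mk I)) (AmbLoc I q) I q rfl
  rw [IsLocalization.AtPrime.ringKrullDim_eq_height q (AmbLoc I q ⧸ locIdeal I q), IsLocalization.AtPrime.ringKrullDim_eq_height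
    (q.comap (Ideal.Quotient.mk I)) (AmbLoc I q), ← hc, add_comm]
  rfl

theorem locIdeal_le : locIdeal I q ≤ maximalIdeal (AmbLoc I q) := by
  refine Ideal.map_le_iff_le_comap.2 fun x hx => ?_
  rw [Ideal.mem_comap, IsLocalization.AtPrime.to_map_mem_maximal_iff (AmbLoc I q) (q.comap (Ideal.Quotient.mk I)),
    Ideal.mem_comap, Ideal.Quotient.eq_zero_iff_mem.2 hx]
  exact q.zero_mem

theorem isRegular_of_gen {c : ℕ} (hc : (c : ℕ∞) + q.height = (q.comap (Ideal.Quotient.mk I)).height)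
    (f : Fin c → AmbLoc I q) (hf : ∀ i, f i ∈ locIdeal I q)
    (hgen : Ideal.span (Set.range f) ⊔ maximalIdeal (AmbLoc I q) * locIdeal I q = locIdeal I q) :
    RingTheory.Sequence.IsRegular (AmbLoc I q) (List.ofFn f) := by
  have hm : ∀ i, f i ∈ maximalIdeal (AmbLoc I q) := fun i => locIdeal_le I q (hf i)
  have heq : Ideal.span (Set.range f) = locIdeal I q := by
    refine le_antisymm (Ideal.span_le.2 (by rintro _ ⟨i, rfl⟩; exact hf i)) ?_
    exact Submodule.le_of_le_smul_of_le_jacobson_bot (locIdeal I q).fg_of_isNoetherianRing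
      (IsLocalRing.maximalIdeal_le_jacobson _) hgen.ge
  refine LC16.isRegular_of_weakly ((isWeaklyRegular_iff_dim f hm).2 ?_) fun x hx => ?_
  · rw [heq]; exact (dim_eq I q hc).le
  · obtain ⟨i, rfl⟩ := List.mem_ofFn.1 hx
    exact hm i

theorem countCI_iff {c : ℕ} (hc : (c : ℕ∞) + q.height = (q.comap (Ideal.Quotient.mk I)).height) :
    (CountCI (locIdeal I q) ↔ ∃ s : Finset (AmbLoc I q), s.card = c ∧ Ideal.span (s : Set _) = locIdeal I q) ∧
    (CountCI (locIdeal I q) ↔ ∃ rs : List (AmbLoc I q), RingTheory.Sequence.IsRegular (AmbLoc I q) rs ∧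
      Ideal.ofList rs = locIdeal I q) := by
  have hne : locIdeal I q ≠ ⊤ := ne_top_of_le_ne_top (maximalIdeal.isMaximal _).ne_top (locIdeal_le I q)
  refine ⟨⟨fun h => ?_, fun ⟨s, hs, hspan⟩ => ?_⟩, ⟨fun h => ?_, fun ⟨rs, hreg, hspan⟩ => ?_⟩⟩
  · obtain ⟨s, hcard, hspan⟩ :=
      Submodule.FG.exists_span_finset_card_eq_spanFinrank (locIdeal I q).fg_of_isNoetherianRing
    refine ⟨s, ?_, hspan⟩
    obtain ⟨d, hd⟩ := exists_dim_quotient (locIdeal I q) hne
    have h1 : ringKrullDim (AmbLoc I q ⧸ locIdeal I q) + ((locIdeal I q).spanFinrank : WithBot ℕ∞) =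
        ringKrullDim (AmbLoc I q ⧸ locIdeal I q) + (c : WithBot ℕ∞) := h.trans (dim_eq I q hc).symm
    rw [hd, ← Nat.cast_add, ← Nat.cast_add, Nat.cast_inj, Nat.add_left_cancel_iff] at h1
    rw [hcard, h1]
  · let g : Fin c → AmbLoc I q := fun i => (s.equivFin.symm (Fin.cast hs.symm i) : AmbLoc I q)
    have hg : Ideal.span (Set.range g) = locIdeal I q := by
      rw [← hspan]
      congr 1
      ext x
      refine ⟨fun ⟨i, hi⟩ => hi ▸ (s.equivFin.symm _).2, fun hx => ⟨Fin.cast hs (s.equivFin ⟨x, hx⟩), by simp [g]⟩⟩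
    have := countCI_of_span g (fun i => locIdeal_le I q (hg ▸ Ideal.subset_span ⟨i, rfl⟩))
      (by rw [hg]; exact (dim_eq I q hc).le)
    rwa [hg] at this
  · obtain ⟨rs, -, hreg, hrs⟩ := h.exists_isRegular hne
    exact ⟨rs, hreg, hrs⟩
  · rw [← hspan]
    exact countCI_of_isRegular (fun r hr => locIdeal_le I q (hspan ▸ Ideal.subset_span hr)) hreg.toIsWeaklyRegular

theorem exists_globalCI_away_iff :
    (∃ g : MvPolynomial (Fin n) k ⧸ I, g ∉ q ∧ Synt.IsGlobalCI k (Localization.Away g)) ↔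
      CountCI (locIdeal I q) := by
  rw [← isCIOver_atPrime_iff I q]
  refine ⟨fun ⟨g, hg, hG⟩ => ?_, fun h => exists_globalCI_nhd q h⟩
  obtain ⟨Q₁, hQ₁, -, ⟨e⟩⟩ := exists_prime_away (k := k) g q hg
  exact isCIOver_congr e.symm (isCIOver_atPrime_of_isGlobalCI hG Q₁)

end Groth.Agent.RelGCI94
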