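import Groth.Agent.RelGCI94.SyntKoszul

/-! The conormal module over a syntomic standard open. -/

set_option autoImplicit false
universe u

open MvPolynomial TensorProduct

namespace Groth.Agent.RelGCI94

theorem cotangent_away_of_isKoszulRegularIdeal {A : Type u} [CommRing A] (I : Ideal A) (hI : I.FG) (G : A)
    (h : LCI.IsKoszulRegularIdeal (I.map (algebraMap A (Localization.Away G)))) :
    Module.Finite (Localization.Away (Ideal.Quotient.mk I G))
        (LocalizedModule (Submonoid.powers (Ideal.Quotient.mk I G)) I.Cotangent) ∧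
      Module.Projective (Localization.Away (Ideal.Quotient.mk I G))
        (LocalizedModule (Submonoid.powers (Ideal.Quotient.mk I G)) I.Cotangent) := by
  have : Module.Finite (A ⧸ I) I.Cotangent := by
    have : Module.Finite A I := Module.Finite.iff_fg.2 hI
    have : Module.Finite A I.Cotangent := Module.Finite.of_surjective I.toCotangent I.toCotangent_surjective
    exact Module.Finite.of_restrictScalars_finite A (A ⧸ I) I.Cotangent
  refine ⟨inferInstance, ?_⟩
  let B := A ⧸ I
  let gb : B := Ideal.Quotient.mk I G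
  let A' := Localization.Away G
  let al := algebraMap A A'
  let I' := I.map al
  let B' := A' ⧸ I'
  obtain ⟨-, hproj⟩ := LCI19.projective_cotangent h
  let : Algebra B B' := (Ideal.quotientMap I' al Ideal.le_comap_map).toAlgebra
  have hBB' : ∀ a : A, algebraMap B B' (Ideal.Quotient.mk I a) = Ideal.Quotient.mk I' (al a) := fun a => rfl
  have : IsLocalization.Away gb B' := by
    refine IsLocalization.Away.mk gb ?_ (fun z => ?_) fun a b hab => ?_
    · rw [hBB']
      exact (IsLocalization.Away.algebraMap_isUnit (S := A') G).map (Ideal.Quotient.mk I')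
    · obtain ⟨z, rfl⟩ := Ideal.Quotient.mk_surjective z
      obtain ⟨m, a, ha⟩ := IsLocalization.Away.surj G z
      exact ⟨m, Ideal.Quotient.mk I a, by rw [hBB', hBB', ← map_pow, ← map_mul, ha]⟩
    · obtain ⟨a, rfl⟩ := Ideal.Quotient.mk_surjective a
      obtain ⟨b, rfl⟩ := Ideal.Quotient.mk_surjective b
      rw [hBB', hBB', Ideal.Quotient.eq, ← map_sub] at hab
      obtain ⟨_, ⟨m, rfl⟩, hm⟩ :=
        (IsLocalization.algebraMap_mem_map_algebraMap_iff (Submonoid.powers G) A' _ _).1 hab
      refine ⟨m, ?_⟩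
      rw [← map_pow, ← map_mul, ← map_mul, Ideal.Quotient.eq, ← mul_sub]
      exact hm
  let : Module B I'.Cotangent := Module.compHom _ (algebraMap B B')
  have : IsScalarTower B B' I'.Cotangent := ⟨fun b x y => by
    show (b • x) • y = algebraMap B B' b • (x • y)
    rw [Algebra.smul_def, mul_smul]⟩
  have hsmul : ∀ (a : A) (x : I'.Cotangent), Ideal.Quotient.mk I a • x = al a • x := fun a x => by
    show algebraMap B B' (Ideal.Quotient.mk I a) • x = _
    rw [hBB', ← Ideal.Quotient.algebraMap_eq, algebraMap_smul]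
  have hsmul₀ : ∀ (a : A) (x : I.Cotangent), Ideal.Quotient.mk I a • x = a • x := fun a x => algebraMap_smul B a x
  let ψ : I →ₗ[A] I' :=
    { toFun := fun x => ⟨al x, Ideal.mem_map_of_mem _ x.2⟩
      map_add' := fun x y => Subtype.ext (map_add al _ _)
      map_smul' := fun a x => Subtype.ext (by
        show al (a * x) = a • al (x : A)
        rw [map_mul, Algebra.smul_def]) }
  let q' : I → I'.Cotangent := fun x => I'.toCotangent (ψ x)
  have hwd : ∀ x y : I, I.toCotangent x = I.toCotangent y → q' x = q' y := fun x y hxy => by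
    rw [Ideal.toCotangent_eq] at hxy
    show I'.toCotangent _ = I'.toCotangent _
    rw [Ideal.toCotangent_eq, pow_two, ← Ideal.map_mul]
    show al (x : A) - al (y : A) ∈ _
    rw [← map_sub]
    exact Ideal.mem_map_of_mem _ (by rwa [← pow_two])
  choose s hs using I.toCotangent_surjective
  let φ : I.Cotangent →ₗ[B] I'.Cotangent :=
    { toFun := fun z => q' (s z)
      map_add' := fun z w => by
        rw [hwd (s (z + w)) (s z + s w) (by rw [map_add, hs, hs, hs])]
        show I'.toCotangent _ = I'.toCotangent _ + I'.toCotangent _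
        rw [map_add, map_add]
      map_smul' := fun b z => by
        obtain ⟨a, rfl⟩ := Ideal.Quotient.mk_surjective b
        rw [hwd (s (Ideal.Quotient.mk I a • z)) (a • s z) (by rw [map_smul, hs, hs, hsmul₀]), RingHom.id_apply, hsmul]
        show I'.toCotangent (ψ (a • s z)) = al a • I'.toCotangent (ψ (s z))
        rw [← LinearMap.map_smul]
        exact congrArg _ (Subtype.ext (map_mul al _ _)) }
  have hφ : ∀ x : I, φ (I.toCotangent x) = I'.toCotangent (ψ x) := fun x => hwd _ _ (hs _)
  have hgu : IsUnit (algebraMap B B' gb) := IsLocalization.Away.algebraMap_isUnit gb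
  have : IsLocalizedModule (Submonoid.powers gb) φ :=
    { map_units := by
        rintro ⟨_, m, rfl⟩
        obtain ⟨u, hu⟩ : IsUnit (algebraMap B B' (gb ^ m)) := by rw [map_pow]; exact hgu.pow m
        refine (Module.End.isUnit_iff _).2 ⟨fun x y hxy => ?_, fun y => ⟨(↑u⁻¹ : B') • y, ?_⟩⟩
        · have : algebraMap B B' (gb ^ m) • x = algebraMap B B' (gb ^ m) • y := hxy
          rw [← hu] at this
          simpa [smul_smul] using congrArg ((↑u⁻¹ : B') • ·) this
        · show algebraMap B B' (gb ^ m) • (↑u⁻¹ : B') • y = y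
          rw [← hu, smul_smul, Units.mul_inv, one_smul]
      surj := fun y => by
        obtain ⟨⟨y, hy⟩, rfl⟩ := I'.toCotangent_surjective y
        obtain ⟨⟨⟨a, ha⟩, ⟨_, m, rfl⟩⟩, hya⟩ := (IsLocalization.mem_map_algebraMap_iff (Submonoid.powers G) A').1 hy
        refine ⟨(I.toCotangent ⟨a, ha⟩, ⟨gb ^ m, m, rfl⟩), ?_⟩
        show (gb ^ m) • I'.toCotangent ⟨y, hy⟩ = φ (I.toCotangent ⟨a, ha⟩)
        rw [hφ, show gb ^ m = Ideal.Quotient.mk I (G ^ m) from (map_pow _ _ _).symm, hsmul,
          ← LinearMap.map_smul]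
        exact congrArg _ (Subtype.ext ((mul_comm _ _).trans hya))
      exists_of_eq := fun {z w} hzw => by
        obtain ⟨x, rfl⟩ := I.toCotangent_surjective z
        obtain ⟨y, rfl⟩ := I.toCotangent_surjective w
        rw [hφ, hφ, Ideal.toCotangent_eq, pow_two, ← Ideal.map_mul] at hzw
        change al (x : A) - al (y : A) ∈ _ at hzw
        rw [← map_sub] at hzw
        obtain ⟨_, ⟨m, rfl⟩, hm⟩ :=
          (IsLocalization.algebraMap_mem_map_algebraMap_iff (Submonoid.powers G) A' _ _).1 hzw
        refine ⟨⟨gb ^ m, m, rfl⟩, ?_⟩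
        show (gb ^ m) • I.toCotangent x = (gb ^ m) • I.toCotangent y
        rw [show gb ^ m = Ideal.Quotient.mk I (G ^ m) from (map_pow _ _ _).symm,
          hsmul₀, hsmul₀, ← map_smul, ← map_smul, Ideal.toCotangent_eq, pow_two]
        show G ^ m * (x : A) - G ^ m * (y : A) ∈ I * I
        rwa [← mul_sub] }
  let Bg := Localization.Away gb
  let e : Bg ≃ₐ[B] B' := IsLocalization.algEquiv (Submonoid.powers gb) Bg B'
  let σ : B' ≃+* Bg := e.symm.toRingEquiv
  let ε := IsLocalizedModule.iso (Submonoid.powers gb) φ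
  have : RingHomInvPair σ.toRingHom σ.symm.toRingHom := RingHomInvPair.of_ringEquiv σ
  have : RingHomInvPair σ.symm.toRingHom σ.toRingHom := RingHomInvPair.of_ringEquiv_symm σ
  let : Module Bg I'.Cotangent := Module.compHom _ e.toRingEquiv.toRingHom
  have : IsScalarTower B Bg I'.Cotangent := ⟨fun b x y => by
    show e (b • x) • y = algebraMap B B' b • (e x • y)
    rw [map_smul, Algebra.smul_def, mul_smul]⟩
  let ε' : LocalizedModule (Submonoid.powers gb) I.Cotangent ≃ₗ[Bg] I'.Cotangent :=
    ε.extendScalarsOfIsLocalization (Submonoid.powers gb) Bg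
  let τ : I'.Cotangent ≃ₛₗ[σ.toRingHom] LocalizedModule (Submonoid.powers gb) I.Cotangent :=
    { ε'.symm.toAddEquiv with
      map_smul' := fun x y => by
        show ε'.symm (x • y) = e.symm x • ε'.symm y
        rw [← map_smul]
        exact congrArg ε'.symm (show x • y = e (e.symm x) • y by rw [e.apply_symm_apply]) }
  exact Module.Projective.of_equiv τ

/-- The conormal module of a presentation is projective over a syntomic standard open. -/
theorem cotangent_away_of_isSyntomic {R : Type u} [CommRing R] {n : ℕ} (I : Ideal (MvPolynomial (Fin n) R))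
    (hI : I.FG) (g : MvPolynomial (Fin n) R ⧸ I) (hg : Synt.IsSyntomic R (Localization.Away g)) :
    Module.Finite (Localization.Away g) (LocalizedModule (Submonoid.powers g) I.Cotangent) ∧
      Module.Projective (Localization.Away g) (LocalizedModule (Submonoid.powers g) I.Cotangent) := by
  obtain ⟨G, rfl⟩ := Ideal.Quotient.mk_surjective g
  refine cotangent_away_of_isKoszulRegularIdeal I hI G ((LCI19.isKoszulRegularIdeal_iff _).2 fun Q' hQ' => ?_)
  let P := MvPolynomial (Fin n) R
  let Q : Ideal P := Q'.asIdeal.comap (algebraMap P (Localization.Away G))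
  have : Module.Flat P (Localization.Away G) := IsLocalization.flat _ (Submonoid.powers G)
  refine LCI19.KRAt.map ?_
  have hGQ : G ∉ Q := fun hm => Q'.2.ne_top
    (Ideal.eq_top_of_isUnit_mem _ hm (IsLocalization.Away.algebraMap_isUnit G))
  have hIQ : I ≤ Q := Ideal.map_le_iff_le_comap.1 hQ'
  let q : Ideal (P ⧸ I) := Q.map (Ideal.Quotient.mk I)
  have : q.IsPrime := Ideal.map_isPrime_of_surjective Ideal.Quotient.mk_surjective (by rwa [Ideal.mk_ker])
  have hq : q.comap (Ideal.Quotient.mk I) = Q := by
    rw [Ideal.comap_map_of_surjective _ Ideal.Quotient.mk_surjective, ← RingHom.ker_eq_comap_bot, Ideal.mk_ker,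
      sup_eq_left.2 hIQ]
  let p : Ideal R := q.comap (algebraMap R (P ⧸ I))
  let z : PrimeSpectrum (p.Fiber (P ⧸ I)) := (PrimeSpectrum.preimageOrderIsoFiber R (P ⧸ I) ⟨p, inferInstance⟩)
    ⟨⟨q, inferInstance⟩, rfl⟩
  have hz : z.asIdeal.comap (Algebra.TensorProduct.includeRight.toRingHom : P ⧸ I →+* p.Fiber (P ⧸ I)) = q :=
    congrArg PrimeSpectrum.asIdeal
      (congrArg Subtype.val ((PrimeSpectrum.preimageOrderIsoFiber R (P ⧸ I) ⟨p, inferInstance⟩).symm_apply_apply
        ⟨⟨q, inferInstance⟩, rfl⟩))
  have hGq : Ideal.Quotient.mk I G ∉ q := fun hm => hGQ (hq.le hm)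
  obtain ⟨hflat, hci⟩ := point_of_syntomic_away p z.asIdeal q hz _ hGq hg
  have := Gor18.isLocalization_atPrime_quotient Q (Localization.AtPrime Q) I q hq
  have : IsScalarTower R (P ⧸ I) (Localization.AtPrime Q ⧸ I.map (algebraMap _ (Localization.AtPrime Q))) :=
    IsScalarTower.of_algebraMap_eq (R := R) (S := P ⧸ I)
      (A := Localization.AtPrime Q ⧸ I.map (algebraMap _ (Localization.AtPrime Q))) fun r => rfl
  have : Module.Flat R (Localization.AtPrime Q ⧸ I.map (algebraMap _ (Localization.AtPrime Q))) :=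
    Module.Flat.of_linearEquiv ((IsLocalization.algEquiv q.primeCompl
      (Localization.AtPrime Q ⧸ I.map (algebraMap _ (Localization.AtPrime Q)))
      (Localization.AtPrime q)).restrictScalars R).toLinearEquiv
  exact krAt_of_countCI I hI Q hIQ
    ((isCIOver_fibre_iff I AlgEquiv.refl p z.asIdeal Q fun y => by rw [hz, ← hq]; rfl).1 hci)

end Groth.Agent.RelGCI94
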