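import Groth.Agent.RelGCI94.Nhd

/-! Local rings of fibres, localisations and presentations. -/

set_option autoImplicit false
universe u

open MvPolynomial TensorProduct IsLocalRing

namespace Groth.Agent.RelGCI94

section Local

variable {k A : Type u} [CommRing k] [CommRing A] [Algebra k A]

/-- Local rings of a localisation. -/
theorem exists_prime_away (a : A) (Q : Ideal A) [Q.IsPrime] (ha : a ∉ Q) :
    ∃ (Q₁ : Ideal (Localization.Away a)) (_ : Q₁.IsPrime), Q₁.comap (algebraMap A _) = Q ∧
      Nonempty (Localization.AtPrime Q ≃ₐ[k] Localization.AtPrime Q₁) := by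
  have hmem : (⟨Q, inferInstance⟩ : PrimeSpectrum A) ∈ Set.range (PrimeSpectrum.comap (algebraMap A (Localization.Away a))) := by
    rw [PrimeSpectrum.localization_away_comap_range (Localization.Away a) a]
    exact ha
  obtain ⟨Q₁, hQ₁⟩ := hmem
  have h : Q₁.asIdeal.comap (algebraMap A _) = Q := congrArg PrimeSpectrum.asIdeal hQ₁
  subst h
  exact ⟨Q₁.asIdeal, inferInstance, rfl, ⟨(IsLocalization.localizationLocalizationAtPrimeIsoLocalization
    (Submonoid.powers a) Q₁.asIdeal).restrictScalars k⟩⟩

theorem atPrime_away_equiv (a : A) (Q₁ : Ideal (Localization.Away a)) [Q₁.IsPrime] :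
    Nonempty (Localization.AtPrime (Q₁.comap (algebraMap A (Localization.Away a))) ≃ₐ[k] Localization.AtPrime Q₁) :=
  ⟨(IsLocalization.localizationLocalizationAtPrimeIsoLocalization (Submonoid.powers a) Q₁).restrictScalars k⟩

end Local

variable {R : Type u} [CommRing R]

/-- Points of the fibre of a localisation. -/
theorem exists_fibre_away {S : Type u} [CommRing S] [Algebra R S] (g : S) (p : Ideal R) [p.IsPrime]
    (Q : Ideal (p.Fiber S)) [Q.IsPrime]
    (hg : g ∉ Q.comap (Algebra.TensorProduct.includeRight.toRingHom : S →+* p.Fiber S)) :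
    ∃ (QT : Ideal (p.Fiber (Localization.Away g))) (_ : QT.IsPrime),
      (QT.comap (Algebra.TensorProduct.includeRight.toRingHom :
          Localization.Away g →+* p.Fiber (Localization.Away g))).comap (algebraMap S _) =
        Q.comap Algebra.TensorProduct.includeRight.toRingHom ∧
      Nonempty (Localization.AtPrime Q ≃ₐ[p.ResidueField] Localization.AtPrime QT) := by
  let a : p.Fiber S := (1 : p.ResidueField) ⊗ₜ[R] g
  have ha : a ∉ Q := hg
  obtain ⟨Q₁, hQ₁p, hQ₁, ⟨e₁⟩⟩ := exists_prime_away (k := p.ResidueField) a Q ha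
  let e : p.Fiber (Localization.Away g) ≃ₐ[p.ResidueField] Localization.Away a :=
    IsLocalization.Away.tensorProductEquivTMulRight R p.ResidueField g (Localization.Away g)
  let QT : Ideal (p.Fiber (Localization.Away g)) := Q₁.comap e.toAlgHom
  have : QT.IsPrime := Ideal.IsPrime.comap _
  refine ⟨QT, this, ?_, ⟨e₁.trans (Localization.localAlgEquiv QT Q₁ e rfl).symm⟩⟩
  ext x
  show e ((1 : p.ResidueField) ⊗ₜ[R] algebraMap S (Localization.Away g) x) ∈ Q₁ ↔
    (1 : p.ResidueField) ⊗ₜ[R] x ∈ Q
  rw [show e ((1 : p.ResidueField) ⊗ₜ[R] algebraMap S (Localization.Away g) x) =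
    algebraMap _ (Localization.Away a) ((1 : p.ResidueField) ⊗ₜ[R] x) from
      IsLocalization.Away.tensorProductEquivTMulRight_tmul S g (Localization.Away g) (1 : p.ResidueField) x, ← hQ₁]
  rfl

variable {n : ℕ}

/-- presentation of the fibre of a presentation -/
noncomputable def fibrePresEquiv (I : Ideal (MvPolynomial (Fin n) R)) (p : Ideal R) [p.IsPrime] :
    p.Fiber (MvPolynomial (Fin n) R ⧸ I) ≃ₐ[p.ResidueField]
      MvPolynomial (Fin n) p.ResidueField ⧸ I.map (MvPolynomial.map (algebraMap R p.ResidueField)) :=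
  (Algebra.TensorProduct.tensorQuotientEquiv (R := R) p.ResidueField (MvPolynomial (Fin n) R) p.ResidueField I).trans
    (Ideal.quotientEquivAlg _ _ (algebraTensorAlgEquiv (σ := Fin n) R p.ResidueField) (by
      rw [← Ideal.span_eq I, Ideal.map_span, Ideal.map_span, Ideal.map_span, ← Set.image_comp]
      exact congrArg Ideal.span (Set.image_congr fun y _ => by simp)))

theorem fibrePresEquiv_tmul (I : Ideal (MvPolynomial (Fin n) R)) (p : Ideal R) [p.IsPrime]
    (y : MvPolynomial (Fin n) R) :
    fibrePresEquiv I p ((1 : p.ResidueField) ⊗ₜ[R] Ideal.Quotient.mk I y) =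
      Ideal.Quotient.mk _ (MvPolynomial.map (algebraMap R p.ResidueField) y) := by
  simp [fibrePresEquiv]

/-- counting in the local ring of the fibre, at any name of the prime -/
theorem countCI_fib_iff (I : Ideal (MvPolynomial (Fin n) R)) (p : Ideal R) [p.IsPrime]
    (P : Ideal (MvPolynomial (Fin n) p.ResidueField)) [P.IsPrime] (Q : Ideal (MvPolynomial (Fin n) R)) [Q.IsPrime]
    (hp : Q.comap MvPolynomial.C = p) (hQ : Q = P.comap (MvPolynomial.map (algebraMap R p.ResidueField))) :
    CountCI ((I.map (MvPolynomial.map (algebraMap R p.ResidueField))).map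
        (algebraMap _ (Localization.AtPrime P))) ↔ CountCI (I.map (LCI19.toFib Q)) := by
  subst hp
  have hP : P = LCI19.fibPrime Q := by
    ext v
    obtain ⟨b, y, hb, hy⟩ := LCI19.exists_denom Q v
    have h1 : LCI19.fibMap Q (C b) ∉ P := fun h => hb (by
      have : (C b : MvPolynomial (Fin n) R) ∈ Q := hQ ▸ h
      exact this)
    have h2 : LCI19.fibMap Q (C b) ∉ LCI19.fibPrime Q := fun h => hb ((LCI19.fibMap_mem_iff Q _).1 h)
    have hy' : LCI19.fibMap Q y ∈ P ↔ LCI19.fibMap Q y ∈ LCI19.fibPrime Q := by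
      rw [LCI19.fibMap_mem_iff]
      exact ⟨fun h => hQ ▸ h, fun h => (hQ ▸ h : y ∈ P.comap _)⟩
    rw [← hy] at hy'
    exact ⟨fun hv => (Ideal.IsPrime.mem_or_mem inferInstance (hy'.1 (Ideal.mul_mem_left _ _ hv))).resolve_left h2,
      fun hv => (Ideal.IsPrime.mem_or_mem inferInstance (hy'.2 (Ideal.mul_mem_left _ _ hv))).resolve_left h1⟩
  subst hP
  rw [Ideal.map_map]
  exact Iff.rfl

/-- The fibre local ring in terms of a presentation. -/
theorem isCIOver_fibre_iff (I : Ideal (MvPolynomial (Fin n) R)) {T : Type u} [CommRing T] [Algebra R T]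
    (eT : (MvPolynomial (Fin n) R ⧸ I) ≃ₐ[R] T) (p : Ideal R) [p.IsPrime]
    (QT : Ideal (p.Fiber T)) [QT.IsPrime]
    (Q : Ideal (MvPolynomial (Fin n) R)) [Q.IsPrime]
    (hQ : ∀ y, y ∈ Q ↔ eT (Ideal.Quotient.mk I y) ∈
      QT.comap (Algebra.TensorProduct.includeRight.toRingHom : T →+* p.Fiber T)) :
    Synt.IsCIOver p.ResidueField (Localization.AtPrime QT) ↔ CountCI (I.map (LCI19.toFib Q)) := by
  let φ := MvPolynomial.map (σ := Fin n) (algebraMap R p.ResidueField)
  let e : p.Fiber T ≃ₐ[p.ResidueField] MvPolynomial (Fin n) p.ResidueField ⧸ I.map φ :=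
    (Algebra.TensorProduct.congr (AlgEquiv.refl : p.ResidueField ≃ₐ[p.ResidueField] p.ResidueField) eT).symm.trans
      (fibrePresEquiv I p)
  let q' : Ideal (MvPolynomial (Fin n) p.ResidueField ⧸ I.map φ) := QT.comap e.symm.toAlgHom
  have : q'.IsPrime := Ideal.IsPrime.comap _
  let ε : Localization.AtPrime q' ≃ₐ[p.ResidueField] Localization.AtPrime QT :=
    Localization.localAlgEquiv q' QT e.symm rfl
  rw [show Synt.IsCIOver p.ResidueField (Localization.AtPrime QT) ↔
      Synt.IsCIOver p.ResidueField (Localization.AtPrime q') from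
    ⟨isCIOver_congr ε.symm, isCIOver_congr ε⟩, isCIOver_atPrime_iff]
  have key : ∀ y, φ y ∈ q'.comap (Ideal.Quotient.mk (I.map φ)) ↔ y ∈ Q := fun y => by
    rw [hQ]
    show e.symm (Ideal.Quotient.mk _ (φ y)) ∈ QT ↔ (1 : p.ResidueField) ⊗ₜ[R] eT (Ideal.Quotient.mk I y) ∈ QT
    rw [← fibrePresEquiv_tmul I p y]
    simp [e]
  refine countCI_fib_iff I p _ Q ?_ (Ideal.ext fun y => (key y).symm)
  ext a
  rw [Ideal.mem_comap, ← key, show φ (C a) = C (algebraMap R p.ResidueField a) from MvPolynomial.map_C _ a]
  refine ⟨fun ha => ?_, fun ha => ?_⟩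
  · by_contra hap
    exact Ideal.IsPrime.ne_top inferInstance (Ideal.eq_top_of_isUnit_mem (q'.comap (Ideal.Quotient.mk (I.map φ))) ha
      ((Ne.isUnit fun h0 => hap (Ideal.algebraMap_residueField_eq_zero.1 h0)).map C))
  · rw [Ideal.algebraMap_residueField_eq_zero.2 ha, map_zero]
    exact zero_mem _

/-- **A flat point with complete intersection fibre has a relative global complete intersection
neighbourhood.** -/
theorem exists_relGCI_nhd {S : Type u} [CommRing S] [Algebra R S] (q : Ideal S) [q.IsPrime]
    (p : Ideal R) [p.IsPrime] (Q : Ideal (p.Fiber S)) [Q.IsPrime]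
    (hQ : Q.comap (Algebra.TensorProduct.includeRight.toRingHom : S →+* p.Fiber S) = q)
    (g : S) (hg : g ∉ q) [Algebra.FinitePresentation R (Localization.Away g)]
    [Module.Flat R (Localization.AtPrime q)] (h : Synt.IsCIOver p.ResidueField (Localization.AtPrime Q)) :
    ∃ a : S, a ∉ q ∧ ∃ (n c : ℕ) (F : Fin c → MvPolynomial (Fin n) R), Synt.IsRelGCI R n c F ∧
      Nonempty (Localization.Away a ≃ₐ[R] Synt.RelGCIRing R n c F) := by
  subst hQ
  obtain ⟨QT, hQTp, hcomap, ⟨e₁⟩⟩ := exists_fibre_away g p Q hg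
  obtain ⟨n, π, hπ, hfg⟩ := Algebra.FinitePresentation.out (R := R) (A := Localization.Away g)
  let I : Ideal (MvPolynomial (Fin n) R) := RingHom.ker π.toRingHom
  let eT : (MvPolynomial (Fin n) R ⧸ I) ≃ₐ[R] Localization.Away g := Ideal.quotientKerAlgEquivOfSurjective hπ
  let qT : Ideal (Localization.Away g) := QT.comap (Algebra.TensorProduct.includeRight.toRingHom :
    Localization.Away g →+* p.Fiber (Localization.Away g))
  let qI : Ideal (MvPolynomial (Fin n) R ⧸ I) := qT.comap eT.toAlgHom
  let QP : Ideal (MvPolynomial (Fin n) R) := qI.comap (Ideal.Quotient.mk I)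
  have hIQ : I ≤ QP := fun y hy => by
    show Ideal.Quotient.mk I y ∈ qI
    rw [Ideal.Quotient.eq_zero_iff_mem.2 hy]
    exact zero_mem _
  have hcount : CountCI (I.map (LCI19.toFib QP)) :=
    (isCIOver_fibre_iff I eT p QT QP fun y => Iff.rfl).1 (isCIOver_congr e₁ h)
  -- the local ring
  have : Module.Flat R (Localization.AtPrime QP ⧸ I.map (algebraMap _ (Localization.AtPrime QP))) := by
    have := Gor18.isLocalization_atPrime_quotient QP (Localization.AtPrime QP) I qI rfl
    have : IsScalarTower R (MvPolynomial (Fin n) R ⧸ I)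
        (Localization.AtPrime QP ⧸ I.map (algebraMap _ (Localization.AtPrime QP))) :=
      IsScalarTower.of_algebraMap_eq (R := R) (S := MvPolynomial (Fin n) R ⧸ I)
        (A := Localization.AtPrime QP ⧸ I.map (algebraMap _ (Localization.AtPrime QP))) fun r => rfl
    let εT : Localization.AtPrime qI ≃ₐ[R] Localization.AtPrime qT := Localization.localAlgEquiv qI qT eT rfl
    obtain ⟨εS⟩ := atPrime_away_equiv (k := R) g qT
    have hq : qT.comap (algebraMap S (Localization.Away g)) =
        Q.comap Algebra.TensorProduct.includeRight.toRingHom := hcomap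
    let εq : Localization.AtPrime (qT.comap (algebraMap S (Localization.Away g))) ≃ₐ[R]
        Localization.AtPrime (Q.comap (Algebra.TensorProduct.includeRight.toRingHom : S →+* p.Fiber S)) :=
      Localization.localAlgEquiv _ _ AlgEquiv.refl (hq.trans (Ideal.comap_id _).symm)
    exact Module.Flat.of_linearEquiv
      ((((IsLocalization.algEquiv qI.primeCompl
          (Localization.AtPrime QP ⧸ I.map (algebraMap _ (Localization.AtPrime QP)))
          (Localization.AtPrime qI)).restrictScalars R).trans εT).trans (εS.symm.trans εq)).toLinearEquiv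
  obtain ⟨G, hG, n', c', F', hF', ⟨eG⟩⟩ := exists_relGCI_nhd_pres I hfg QP hIQ hcount
  -- numerator
  let y : Localization.Away g := eT (Ideal.Quotient.mk I G)
  obtain ⟨m, a, hya⟩ := IsLocalization.Away.surj g y
  refine ⟨g * a, ?_, n', c', F', hF', ⟨AlgEquiv.trans ?_ eG⟩⟩
  · intro hm
    refine hG ?_
    show Ideal.Quotient.mk I G ∈ qI
    show y ∈ qT
    rcases Ideal.IsPrime.mem_or_mem inferInstance hm with h1 | h1
    · exact absurd h1 hg
    · have h2 : algebraMap S (Localization.Away g) a ∈ qT := by
        rw [← Ideal.mem_comap, show qT.comap (algebraMap S (Localization.Away g)) =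
          Q.comap Algebra.TensorProduct.includeRight.toRingHom from hcomap]
        exact h1
      rw [← hya] at h2
      exact (Ideal.IsPrime.mem_or_mem inferInstance h2).resolve_right fun h3 =>
        Ideal.IsPrime.ne_top inferInstance (Ideal.eq_top_of_isUnit_mem qT h3
          ((IsLocalization.Away.algebraMap_isUnit (S := Localization.Away g) g).pow m))
  · have hass : Associated (algebraMap S (Localization.Away g) a) y :=
      Associated.symm ⟨((IsLocalization.Away.algebraMap_isUnit (S := Localization.Away g) g).pow m).unit, hya⟩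
    have := IsLocalization.Away.mul_of_associated g a y (T := Localization.Away y) hass
    exact ((IsLocalization.algEquiv (Submonoid.powers (g * a)) (Localization.Away (g * a))
      (Localization.Away y)).restrictScalars R).trans (awayCongr eT (Ideal.Quotient.mk I G)).symm

end Groth.Agent.RelGCI94
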