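import Groth.Agent.RelGCI94.Syntomic
import Groth.Agent.RelGCI94.SyntLocal

/-! Finite syntomic algebras over local rings are cut out by as many equations as variables. -/

set_option autoImplicit false
universe u

open MvPolynomial TensorProduct IsLocalRing

namespace Groth.Agent.RelGCI94

variable {R : Type u} [CommRing R]

theorem ringKrullDim_artinian (B : Type u) [CommRing B] [Nontrivial B] (h : IsArtinianRing B) :
    ringKrullDim B = 0 :=
  ringKrullDimZero_iff_ringKrullDim_eq_zero.1 (Ring.krullDimLE_zero_iff.2 fun I _ =>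
    IsArtinianRing.isMaximal_of_isPrime I)

theorem isRelGCI_of_finite {n : ℕ} (F : Fin n → MvPolynomial (Fin n) R)
    [Module.Finite R (Synt.RelGCIRing R n n F)] : Synt.IsRelGCI R n n F := by
  intro p hp
  refine ⟨le_rfl, ?_⟩
  rw [Nat.sub_self, Nat.cast_zero]
  exact ringKrullDim_artinian (p.asIdeal.Fiber (Synt.RelGCIRing R n n F)) (IsArtinianRing.of_finite p.asIdeal.ResidueField
    (p.asIdeal.ResidueField ⊗[R] Synt.RelGCIRing R n n F))

/-- At a point with complete intersection fibre, a flat algebra is cut out by as many equations as variables. -/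
theorem exists_local_equations {n : ℕ} (I : Ideal (MvPolynomial (Fin n) R)) (hfg : I.FG)
    (Q : Ideal (MvPolynomial (Fin n) R)) [Q.IsPrime] (hI : I ≤ Q)
    [Module.Flat R (Localization.AtPrime Q ⧸ I.map (algebraMap _ (Localization.AtPrime Q)))]
    (h : CountCI (I.map (LCI19.toFib Q))) :
    ∃ g : Fin n → MvPolynomial (Fin n) R, (∀ i, g i ∈ I) ∧
      I.map (algebraMap _ (Localization.AtPrime Q)) ≤
        (Ideal.span (Set.range g)).map (algebraMap _ (Localization.AtPrime Q)) := by
  classical
  obtain ⟨r, F, hFI, hspan, hreg⟩ := exists_lift_equations Q I hI h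
  have hFQ : ∀ i, F i ∈ Q := fun i => hI (hFI i)
  have hrn : r ≤ n := by
    have h1 := (isWeaklyRegular_iff_dim (LCI19.toFib Q ∘ F)
      fun i => fun hu => (LCI19.isUnit_toFib_iff Q _).1 hu (hFQ i)).1 hreg
    have h2 : ringKrullDim (LCI19.Fib Q) ≤ (n : WithBot ℕ∞) := by
      rw [IsLocalization.AtPrime.ringKrullDim_eq_height (LCI19.fibPrime Q) (LCI19.Fib Q)]
      refine (Ideal.height_le_ringKrullDim_of_ne_top (Ideal.IsPrime.ne_top inferInstance)).trans ?_
      rw [MvPolynomial.ringKrullDim_of_isNoetherianRing, ringKrullDim_eq_zero_of_field, zero_add]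
      simp
    have hne : Ideal.span (Set.range (LCI19.toFib Q ∘ F)) ≠ ⊤ := fun ht =>
      (maximalIdeal.isMaximal (LCI19.Fib Q)).ne_top (top_le_iff.1 (ht ▸ Ideal.span_le.2 (by
        rintro _ ⟨i, rfl⟩; exact fun hu => (LCI19.isUnit_toFib_iff Q _).1 hu (hFQ i))))
    obtain ⟨d, hd⟩ := exists_dim_quotient _ hne
    have h3 := h1.trans h2
    rw [hd, ← Nat.cast_add, Nat.cast_le] at h3
    omega
  let g : Fin n → MvPolynomial (Fin n) R := fun i => if h : (i : ℕ) < r then F ⟨i, h⟩ else 0
  refine ⟨g, fun i => by simp only [g]; split_ifs with hi; exacts [hFI _, zero_mem _], ?_⟩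
  let L := Localization.AtPrime Q
  let J := Ideal.span (Set.range g)
  have hFJ : ∀ i, F i ∈ J := fun i => Ideal.subset_span ⟨⟨i, i.2.trans_le hrn⟩, by simp [g]⟩
  have hJI : J ≤ I := Ideal.span_le.2 (by
    rintro _ ⟨i, rfl⟩; simp only [g]; split_ifs with hi; exacts [hFI _, zero_mem _])
  obtain ⟨χ, hχs, hχ, hker⟩ := exists_toFibLoc Q
  refine Submodule.le_of_le_smul_of_le_jacobson_bot (hfg.map _) (maximalIdeal_le_jacobson _) fun x hx => ?_
  have h1 : χ x ∈ (J.map (algebraMap _ L)).map χ := by
    have h0 : χ x ∈ (I.map (algebraMap _ L)).map χ := Ideal.mem_map_of_mem _ hx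
    rw [Ideal.map_map, show χ.comp (algebraMap _ L) = LCI19.toFib Q from RingHom.ext hχ] at h0 ⊢
    rw [← hspan] at h0
    refine (Ideal.span_le.2 ?_) h0
    rintro _ ⟨i, rfl⟩
    exact Ideal.mem_map_of_mem _ (hFJ i)
  obtain ⟨j, hj, hje⟩ := (Ideal.mem_map_iff_of_surjective χ hχs).1 h1
  have hxj : x - j ∈ (LCI19.fibBase Q).map (algebraMap R L) := by
    rw [← hker, RingHom.mem_ker, map_sub, hje, sub_self]
  have h2 := mem_smul_of_flat_quotient (I.map (algebraMap _ L)) (LCI19.fibBase Q) (x - j)
    (sub_mem hx (Ideal.map_mono hJI hj)) hxj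
  rw [← add_sub_cancel j x]
  refine add_mem (Submodule.mem_sup_left hj) (Submodule.mem_sup_right ?_)
  rw [smul_eq_mul]
  refine Ideal.mul_mono_left ?_ h2
  rw [Ideal.map_le_iff_le_comap]
  intro a ha
  rw [Ideal.mem_comap, IsScalarTower.algebraMap_apply R (MvPolynomial (Fin n) R) L,
    IsLocalization.AtPrime.to_map_mem_maximal_iff L Q]
  exact ha

theorem finite_maximalSpectrum {A B : Type u} [CommRing A] [IsLocalRing A] [CommRing B] [Algebra A B]
    [Module.Finite A B] : Finite (MaximalSpectrum B) := by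
  let k := ResidueField A
  have : IsArtinianRing (k ⊗[A] B) := IsArtinianRing.of_finite k _
  let π : B →+* k ⊗[A] B := Algebra.TensorProduct.includeRight.toRingHom
  refine Finite.of_injective (fun M : MaximalSpectrum B => ({z : PrimeSpectrum (k ⊗[A] B) |
    PrimeSpectrum.comap π z = M.toPrimeSpectrum} : Set (PrimeSpectrum (k ⊗[A] B)))) fun M N h => ?_
  have hM : M.toPrimeSpectrum.asIdeal.comap (algebraMap A B) = maximalIdeal A :=
    IsLocalRing.eq_maximalIdeal (Ideal.isMaximal_comap_of_isIntegral_of_isMaximal (R := A) M.asIdeal)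
  have hker : RingHom.ker π ≤ M.asIdeal := by
    intro b hb
    have hb' : (1 : k) ⊗ₜ[A] b = 0 := hb
    have hb'' := (FlatCrit65.one_tmul_eq_zero_iff _ _).1 hb'
    rw [Ideal.smul_top_eq_map] at hb''
    exact (Ideal.map_le_iff_le_comap.2 hM.ge) hb''
  have hsurj : Function.Surjective π :=
    Algebra.TensorProduct.includeRight_surjective _ Ideal.Quotient.mk_surjective
  let z : PrimeSpectrum (k ⊗[A] B) := ⟨M.asIdeal.map π, Ideal.map_isPrime_of_surjective hsurj hker⟩
  have hz : PrimeSpectrum.comap π z = M.toPrimeSpectrum := by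
    ext1
    show (M.asIdeal.map π).comap π = M.asIdeal
    rw [Ideal.comap_map_of_surjective _ hsurj, ← RingHom.ker_eq_comap_bot, sup_eq_left.2 hker]
  have hzN : PrimeSpectrum.comap π z = N.toPrimeSpectrum := (Set.ext_iff.1 h z).1 hz
  exact MaximalSpectrum.toPrimeSpectrum_injective (hz.symm.trans hzN)

/-- **Finite syntomic algebras over a local ring.** -/
theorem exists_square_presentation {A B : Type u} [CommRing A] [IsLocalRing A] [CommRing B] [Algebra A B]
    [Module.Finite A B] (h : Synt.IsSyntomic A B) :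
    ∃ (n : ℕ) (F : Fin n → MvPolynomial (Fin n) A), Nonempty (B ≃ₐ[A] Synt.RelGCIRing A n n F) := by
  classical
  have := h.1
  have := h.2.1
  obtain ⟨n, π, hπ, hfg⟩ := Algebra.FinitePresentation.out (R := A) (A := B)
  let I : Ideal (MvPolynomial (Fin n) A) := RingHom.ker π.toRingHom
  let eT : (MvPolynomial (Fin n) A ⧸ I) ≃ₐ[A] B := Ideal.quotientKerAlgEquivOfSurjective hπ
  have : Finite (MaximalSpectrum B) := finite_maximalSpectrum (A := A)
  have := Fintype.ofFinite (MaximalSpectrum B)
  let Q : MaximalSpectrum B → Ideal (MvPolynomial (Fin n) A) := fun M => M.asIdeal.comap π.toRingHom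
  have hQmax : ∀ M, (Q M).IsMaximal := fun M => Ideal.comap_isMaximal_of_surjective π.toRingHom hπ
  have hIQ : ∀ M, I ≤ Q M := fun M y hy => by
    show π y ∈ M.asIdeal
    rw [show π y = 0 from hy]; exact zero_mem _
  have hloc : ∀ M, ∃ g : Fin n → MvPolynomial (Fin n) A, (∀ i, g i ∈ I) ∧
      I.map (algebraMap _ (Localization.AtPrime (Q M))) ≤
        (Ideal.span (Set.range g)).map (algebraMap _ (Localization.AtPrime (Q M))) := fun M => by
    let p : Ideal A := M.asIdeal.comap (algebraMap A B)
    let qI : Ideal (MvPolynomial (Fin n) A ⧸ I) := M.asIdeal.comap eT.toAlgHom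
    let z : PrimeSpectrum (p.Fiber B) := (PrimeSpectrum.preimageOrderIsoFiber A B ⟨p, inferInstance⟩)
      ⟨M.toPrimeSpectrum, rfl⟩
    have hz : z.asIdeal.comap (Algebra.TensorProduct.includeRight.toRingHom : B →+* p.Fiber B) = M.asIdeal :=
      congrArg PrimeSpectrum.asIdeal
        (congrArg Subtype.val ((PrimeSpectrum.preimageOrderIsoFiber A B ⟨p, inferInstance⟩).symm_apply_apply
          ⟨M.toPrimeSpectrum, rfl⟩))
    have hcount : CountCI (I.map (LCI19.toFib (Q M))) :=
      (isCIOver_fibre_iff I eT p z.asIdeal (Q M) fun y => by rw [hz]; rfl).1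
        (isCIOver_fibre_of_isSyntomic h p z.asIdeal)
    have := Gor18.isLocalization_atPrime_quotient (Q M) (Localization.AtPrime (Q M)) I qI rfl
    have : IsScalarTower A (MvPolynomial (Fin n) A ⧸ I)
        (Localization.AtPrime (Q M) ⧸ I.map (algebraMap _ (Localization.AtPrime (Q M)))) :=
      IsScalarTower.of_algebraMap_eq (R := A) (S := MvPolynomial (Fin n) A ⧸ I)
        (A := Localization.AtPrime (Q M) ⧸ I.map (algebraMap _ (Localization.AtPrime (Q M)))) fun r => rfl
    have : Module.Flat A (MvPolynomial (Fin n) A ⧸ I) := Module.Flat.of_linearEquiv eT.toLinearEquiv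
    have : Module.Flat (MvPolynomial (Fin n) A ⧸ I) (Localization.AtPrime qI) := IsLocalization.flat _ qI.primeCompl
    have : Module.Flat A (Localization.AtPrime qI) := Module.Flat.trans A (MvPolynomial (Fin n) A ⧸ I) _
    have : Module.Flat A (Localization.AtPrime (Q M) ⧸ I.map (algebraMap _ (Localization.AtPrime (Q M)))) :=
      Module.Flat.of_linearEquiv ((IsLocalization.algEquiv qI.primeCompl
        (Localization.AtPrime (Q M) ⧸ I.map (algebraMap _ (Localization.AtPrime (Q M))))
        (Localization.AtPrime qI)).restrictScalars A).toLinearEquiv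
    exact exists_local_equations I hfg (Q M) (hIQ M) hcount
  choose g hgI hgle using hloc
  have hcop : Pairwise (Function.onFun IsCoprime Q) := fun M N hMN => by
    refine Ideal.isCoprime_iff_sup_eq.2 ((hQmax M).coprime_of_ne (hQmax N) fun he => hMN ?_)
    exact MaximalSpectrum.ext (Ideal.comap_injective_of_surjective π.toRingHom hπ he)
  choose e he using fun M => Ideal.exists_forall_sub_mem_ideal hcop (fun N => if N = M then (1 : MvPolynomial (Fin n) A) else 0)
  let G : Fin n → MvPolynomial (Fin n) A := fun i => ∑ M, e M * g M i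
  let J := Ideal.span (Set.range G)
  have hJI : J ≤ I := Ideal.span_le.2 (by
    rintro _ ⟨i, rfl⟩; exact sum_mem fun M _ => Ideal.mul_mem_left _ _ (hgI M i))
  have hcolon : ∀ M, ∃ s ∉ Q M, ∀ y ∈ I, s * y ∈ J := fun M => by
    let L := Localization.AtPrime (Q M)
    have hle : I.map (algebraMap _ L) ≤ J.map (algebraMap _ L) := by
      refine Submodule.le_of_le_smul_of_le_jacobson_bot (hfg.map _) (maximalIdeal_le_jacobson _) ?_
      refine (hgle M).trans ?_
      rw [Ideal.map_le_iff_le_comap, Ideal.span_le]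
      rintro _ ⟨i, rfl⟩
      have h1 : G i - g M i ∈ Q M * I := by
        have : G i - g M i = ∑ N, (e N - if M = N then 1 else 0) * g N i := by
          simp only [G, sub_mul, ite_mul, one_mul, zero_mul, Finset.sum_sub_distrib]
          rw [Finset.sum_ite_eq Finset.univ M]
          simp
        rw [this]
        exact sum_mem fun N _ => Ideal.mul_mem_mul (he N M) (hgI N i)
      have h2 := Ideal.mem_map_of_mem (algebraMap _ L) h1
      rw [Ideal.map_mul] at h2
      show algebraMap _ L (g M i) ∈ J.map (algebraMap _ L) ⊔ maximalIdeal L • I.map (algebraMap _ L)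
      rw [show g M i = G i - (G i - g M i) by ring, map_sub]
      refine sub_mem (Submodule.mem_sup_left (Ideal.mem_map_of_mem _ (Ideal.subset_span ⟨i, rfl⟩))) ?_
      refine Submodule.mem_sup_right ?_
      rw [smul_eq_mul]
      refine Ideal.mul_mono_left (Ideal.map_le_iff_le_comap.2 fun a ha => ?_) h2
      rw [Ideal.mem_comap, IsLocalization.AtPrime.to_map_mem_maximal_iff L (Q M)]
      exact ha
    obtain ⟨T, hT⟩ := id hfg
    have hloc : ∀ y : T, ∃ t ∉ Q M, t * y.1 ∈ J := fun y => by
      have h1 : algebraMap _ L y.1 ∈ J.map (algebraMap _ L) :=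
        hle (Ideal.mem_map_of_mem _ (hT.le (Ideal.subset_span y.2)))
      obtain ⟨t, ht, hty⟩ :=
        (IsLocalization.algebraMap_mem_map_algebraMap_iff (Q M).primeCompl L _ _).1 h1
      exact ⟨t, ht, hty⟩
    choose t ht hty using hloc
    refine ⟨∏ y, t y, fun hm => ?_, fun y hy => ?_⟩
    · obtain ⟨y, -, hy⟩ := Ideal.IsPrime.prod_mem_iff.1 hm
      exact ht y hy
    · replace hy := hT.ge hy
      suffices y ∈ J.colon {∏ z, t z} by
        rwa [Submodule.mem_colon_singleton, smul_eq_mul, mul_comm] at this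
      refine (Ideal.span_le.2 ?_) hy
      intro z hz
      rw [SetLike.mem_coe, Submodule.mem_colon_singleton, smul_eq_mul]
      obtain ⟨w, hw⟩ : t ⟨z, hz⟩ ∣ ∏ z, t z := Finset.dvd_prod_of_mem _ (Finset.mem_univ _)
      rw [hw, mul_comm z, mul_comm (t ⟨z, hz⟩) w, mul_assoc]
      exact Ideal.mul_mem_left _ _ (hty ⟨z, hz⟩)
  choose s hsQ hsJ using hcolon
  -- `1` in the image of the colon ideal
  have hunit : Ideal.span (Set.range fun M => π (s M)) = ⊤ := by
    by_contra hne
    obtain ⟨M, hM, hle⟩ := Ideal.exists_le_maximal _ hne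
    exact hsQ ⟨M, hM⟩ (hle (Ideal.subset_span ⟨⟨M, hM⟩, rfl⟩))
  obtain ⟨c, hc⟩ := (Submodule.mem_span_range_iff_exists_fun B).1 (hunit.ge (Submodule.mem_top (x := (1 : B))))
  choose c' hc' using fun M => hπ (c M)
  let H := ∑ M, c' M * s M
  have hH : π H = 1 := by
    rw [← hc, map_sum]
    exact Finset.sum_congr rfl fun M _ => by rw [map_mul, hc', smul_eq_mul]
  have hHI : ∀ y ∈ I, ∃ m : ℕ, H ^ m * y ∈ J := fun y hy => ⟨1, by
    rw [pow_one, Finset.sum_mul]
    exact sum_mem fun M _ => by rw [mul_assoc]; exact Ideal.mul_mem_left _ _ (hsJ M y hy)⟩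
  have h1 : Ideal.Quotient.mk I H = 1 := eT.injective ((map_one eT).symm ▸ hH)
  have : IsLocalization.Away (Ideal.Quotient.mk I H) (MvPolynomial (Fin n) A ⧸ I) := by
    rw [h1]; exact IsLocalization.away_of_isUnit_of_bijective _ isUnit_one Function.bijective_id
  exact ⟨n + 1, F' A n n G H, ⟨eT.symm.trans
    (((IsLocalization.algEquiv (Submonoid.powers (Ideal.Quotient.mk I H)) (MvPolynomial (Fin n) A ⧸ I)
      (Localization.Away (Ideal.Quotient.mk I H))).restrictScalars A).trans
      ((awayQuotEquiv J I hJI H hHI).symm.trans (awayEquiv A n n G H)))⟩⟩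

theorem finite_isSyntomic_iff {A B : Type u} [CommRing A] [IsLocalRing A] [CommRing B] [Algebra A B]
    [Module.Finite A B] :
    Synt.IsSyntomic A B ↔
      ∃ (n : ℕ) (F : Fin n → MvPolynomial (Fin n) A), Nonempty (B ≃ₐ[A] Synt.RelGCIRing A n n F) := by
  refine ⟨exists_square_presentation, fun ⟨n, F, ⟨e⟩⟩ => ?_⟩
  have : Module.Finite A (Synt.RelGCIRing A n n F) := Module.Finite.equiv e.toLinearEquiv
  exact isSyntomic_congr e.symm (isSyntomic_relGCIRing A n n F (isRelGCI_of_finite F))

end Groth.Agent.RelGCI94
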