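import Groth.Agent.RelGCI94.Open
import Groth.Agent.EtAlg23.GlueFlat

/-! A flat point with complete intersection fibre has a relative global complete intersection neighbourhood. -/

set_option autoImplicit false
universe u

open MvPolynomial TensorProduct IsLocalRing

namespace Groth.Agent.RelGCI94

/-- Equations of the fibre lift to the ideal. -/
theorem exists_lift_equations {R : Type u} [CommRing R] {n : ℕ} (Q : Ideal (MvPolynomial (Fin n) R)) [Q.IsPrime]
    (I : Ideal (MvPolynomial (Fin n) R)) (hI : I ≤ Q) (h : CountCI (I.map (LCI19.toFib Q))) :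
    ∃ (r : ℕ) (F : Fin r → MvPolynomial (Fin n) R), (∀ i, F i ∈ I) ∧
      Ideal.span (Set.range (LCI19.toFib Q ∘ F)) = I.map (LCI19.toFib Q) ∧ RegAt F Q := by
  have hne : I.map (LCI19.toFib Q) ≠ ⊤ := fun ht => (maximalIdeal.isMaximal (LCI19.Fib Q)).ne_top
    (top_le_iff.1 (ht ▸ Ideal.map_le_iff_le_comap.2 fun y hy => by
      show LCI19.toFib Q y ∈ maximalIdeal (LCI19.Fib Q)
      exact fun hu => (LCI19.isUnit_toFib_iff Q y).1 hu (hI hy)))
  obtain ⟨r, g, hg, hm, hd⟩ := h.exists_span hne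
  have hmem : ∀ z ∈ I.map (LCI19.toFib Q), ∃ y ∈ I, ∃ s ∉ Q, z * LCI19.toFib Q s = LCI19.toFib Q y := by
    intro z hz
    refine Submodule.span_induction ?_ ?_ ?_ ?_ hz
    · rintro _ ⟨y, hy, rfl⟩
      exact ⟨y, hy, 1, (Ideal.ne_top_iff_one Q).1 (Ideal.IsPrime.ne_top inferInstance), by rw [map_one, mul_one]⟩
    · exact ⟨0, zero_mem _, 1, (Ideal.ne_top_iff_one Q).1 (Ideal.IsPrime.ne_top inferInstance), by simp⟩
    · rintro a b _ _ ⟨y, hy, s, hs, he⟩ ⟨y', hy', s', hs', he'⟩
      refine ⟨y * s' + y' * s, add_mem (Ideal.mul_mem_right _ _ hy) (Ideal.mul_mem_right _ _ hy'), s * s',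
        Ideal.IsPrime.mul_notMem inferInstance hs hs', ?_⟩
      rw [map_add, map_mul, map_mul, map_mul, ← he, ← he']
      ring
    · rintro a b _ ⟨y, hy, s, hs, he⟩
      obtain ⟨y', s', hs', he'⟩ := LCI19.exists_toFib_eq Q a
      refine ⟨y' * y, Ideal.mul_mem_left _ _ hy, s' * s, Ideal.IsPrime.mul_notMem inferInstance hs' hs, ?_⟩
      rw [smul_eq_mul, map_mul, map_mul, ← he, ← he']
      ring
  choose y hy s hs he using fun i => hmem (g i) (hg ▸ Ideal.subset_span (Set.mem_range_self i))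
  have hu : ∀ i, IsUnit (LCI19.toFib Q (s i)) := fun i => (LCI19.isUnit_toFib_iff Q _).2 (hs i)
  have hspan : Ideal.span (Set.range (LCI19.toFib Q ∘ y)) = I.map (LCI19.toFib Q) := by
    refine le_antisymm (Ideal.span_le.2 ?_) ?_
    · rintro _ ⟨i, rfl⟩
      exact Ideal.mem_map_of_mem _ (hy i)
    · rw [← hg, Ideal.span_le]
      rintro _ ⟨i, rfl⟩
      refine (Ideal.mul_unit_mem_iff_mem _ (hu i)).1 ?_
      rw [he i]
      exact Ideal.subset_span ⟨i, rfl⟩
  refine ⟨r, y, hy, hspan, ?_⟩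
  refine (isWeaklyRegular_iff_dim _ fun i => ?_).2 ?_
  · exact fun hu' => (LCI19.isUnit_toFib_iff Q _).1 hu' (hI (hy i))
  · rw [hspan]
    exact hd.le

/-- An ideal with flat quotient meets `p` in `p` times itself. -/
theorem mem_smul_of_flat_quotient {R L : Type u} [CommRing R] [CommRing L] [Algebra R L] (N : Ideal L)
    [Module.Flat R (L ⧸ N)] (p : Ideal R) (x : L) (hx : x ∈ N) (hxp : x ∈ p.map (algebraMap R L)) :
    x ∈ p.map (algebraMap R L) * N := by
  let ι : N →ₗ[R] L := (N.subtype).restrictScalars R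
  let π : L →ₗ[R] L ⧸ N := (Ideal.Quotient.mkₐ R N).toLinearMap
  have hex : Function.Exact ι π := fun y => by
    constructor
    · intro hy
      exact ⟨⟨y, Ideal.Quotient.eq_zero_iff_mem.1 hy⟩, rfl⟩
    · rintro ⟨z, rfl⟩
      exact Ideal.Quotient.eq_zero_iff_mem.2 z.2
  have hinj : Function.Injective (ι.rTensor (R ⧸ p)) :=
    EtAlg23.rTensor_injective_of_flat_quotient hex Ideal.Quotient.mk_surjective Subtype.val_injective _
  have hinj' : Function.Injective (ι.lTensor (R ⧸ p)) := (LinearMap.lTensor_inj_iff_rTensor_inj _ _).2 hinj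
  have h0 : (1 : R ⧸ p) ⊗ₜ[R] (⟨x, hx⟩ : N) = 0 := by
    apply hinj'
    rw [map_zero, LinearMap.lTensor_tmul, FlatCrit65.one_tmul_eq_zero_iff]
    show x ∈ p • (⊤ : Submodule R L)
    rw [Ideal.smul_top_eq_map]
    exact hxp
  rw [FlatCrit65.one_tmul_eq_zero_iff] at h0
  suffices ∀ z : N, z ∈ p • (⊤ : Submodule R N) → (z : L) ∈ p.map (algebraMap R L) * N from this ⟨x, hx⟩ h0
  intro z hz
  refine Submodule.smul_induction_on hz (fun r hr w _ => ?_) fun a b ha hb => ?_
  · show r • (w : L) ∈ _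
    rw [Algebra.smul_def]
    exact Ideal.mul_mem_mul (Ideal.mem_map_of_mem _ hr) w.2
  · exact add_mem ha hb

/-- The kernel of the map to the local ring of the fibre. -/
theorem exists_toFibLoc {R : Type u} [CommRing R] {n : ℕ} (Q : Ideal (MvPolynomial (Fin n) R)) [Q.IsPrime] :
    ∃ χ : Localization.AtPrime Q →+* LCI19.Fib Q, Function.Surjective χ ∧
      (∀ y, χ (algebraMap _ _ y) = LCI19.toFib Q y) ∧
      RingHom.ker χ = (LCI19.fibBase Q).map (algebraMap R (Localization.AtPrime Q)) := by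
  let L := Localization.AtPrime Q
  let χ : L →+* LCI19.Fib Q := IsLocalization.lift (M := Q.primeCompl) (g := LCI19.toFib Q) fun y =>
    (LCI19.isUnit_toFib_iff Q _).2 y.2
  have hm : (LCI19.fibBase Q).map (algebraMap R L) =
      ((LCI19.fibBase Q).map (MvPolynomial.C : R →+* MvPolynomial (Fin n) R)).map (algebraMap _ L) := by
    rw [Ideal.map_map]
    congr 1
  refine ⟨χ, fun z => ?_, fun y => IsLocalization.lift_eq _ y, ?_⟩
  · obtain ⟨y, t, ht, he⟩ := LCI19.exists_toFib_eq Q z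
    refine ⟨IsLocalization.mk' L y (⟨t, ht⟩ : Q.primeCompl), ((LCI19.isUnit_toFib_iff Q t).2 ht).mul_left_inj.1 ?_⟩
    rw [he, show LCI19.toFib Q t = χ (algebraMap _ L ((⟨t, ht⟩ : Q.primeCompl) : MvPolynomial (Fin n) R)) from
      (IsLocalization.lift_eq _ _).symm, ← map_mul, IsLocalization.mk'_spec, IsLocalization.lift_eq]
  · rw [hm]
    refine le_antisymm (fun z hz => ?_) (Ideal.map_le_iff_le_comap.2 fun y hy => ?_)
    · obtain ⟨⟨y, t⟩, hyt⟩ := IsLocalization.surj Q.primeCompl z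
      refine (Ideal.mul_unit_mem_iff_mem _ (IsLocalization.map_units L t)).1 ?_
      rw [hyt]
      refine Ideal.mem_map_of_mem _ (LCI19.mem_map_of_toFib_eq_zero Q ?_)
      have := congrArg χ hyt
      rw [map_mul, RingHom.mem_ker.1 hz, zero_mul, IsLocalization.lift_eq] at this
      exact this.symm
    · rw [Ideal.mem_comap, RingHom.mem_ker, IsLocalization.lift_eq]
      exact LCI19.toFib_eq_zero_of_mem Q hy

/-- Two presentations agreeing after inverting `G`. -/
noncomputable def awayQuotEquiv {R : Type u} [CommRing R] {n : ℕ} (J I : Ideal (MvPolynomial (Fin n) R))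
    (hJI : J ≤ I) (G : MvPolynomial (Fin n) R) (hG : ∀ y ∈ I, ∃ m : ℕ, G ^ m * y ∈ J) :
    Localization.Away (Ideal.Quotient.mk J G) ≃ₐ[R] Localization.Away (Ideal.Quotient.mk I G) :=
  let σ := Ideal.Quotient.factorₐ R hJI
  let TJ := Localization.Away (Ideal.Quotient.mk J G)
  let TI := Localization.Away (Ideal.Quotient.mk I G)
  let _ : Algebra (MvPolynomial (Fin n) R ⧸ J) TI :=
    ((algebraMap (MvPolynomial (Fin n) R ⧸ I) TI).comp σ.toRingHom).toAlgebra
  have : IsScalarTower R (MvPolynomial (Fin n) R ⧸ J) TI := IsScalarTower.of_algebraMap_eq (R := R) (S := MvPolynomial (Fin n) R ⧸ J) (A := TI) fun r => by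
    show _ = algebraMap (MvPolynomial (Fin n) R ⧸ I) TI (σ (algebraMap R _ r))
    rw [AlgHom.commutes, ← IsScalarTower.algebraMap_apply]
  have : IsLocalization.Away (Ideal.Quotient.mk J G) TI := by
    refine IsLocalization.Away.mk _ ?_ (fun z => ?_) fun a b hab => ?_
    · exact IsLocalization.Away.algebraMap_isUnit (S := TI) (Ideal.Quotient.mk I G)
    · obtain ⟨m, a, ha⟩ := IsLocalization.Away.surj (Ideal.Quotient.mk I G) z
      obtain ⟨a, rfl⟩ := Ideal.Quotient.mk_surjective a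
      exact ⟨m, Ideal.Quotient.mk J a, ha⟩
    · obtain ⟨a, rfl⟩ := Ideal.Quotient.mk_surjective a
      obtain ⟨b, rfl⟩ := Ideal.Quotient.mk_surjective b
      obtain ⟨m, hm⟩ := IsLocalization.Away.exists_of_eq (S := TI) (Ideal.Quotient.mk I G)
        (show algebraMap _ TI (Ideal.Quotient.mk I a) = algebraMap _ TI (Ideal.Quotient.mk I b) from hab)
      rw [← map_pow, ← map_mul, ← map_mul, Ideal.Quotient.eq] at hm
      obtain ⟨m', hm'⟩ := hG _ hm
      refine ⟨m' + m, ?_⟩
      rw [← map_pow, ← map_mul, ← map_mul, Ideal.Quotient.eq]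
      convert hm' using 1
      ring
  (IsLocalization.algEquiv (Submonoid.powers (Ideal.Quotient.mk J G)) TJ TI).restrictScalars R

/-- **Relative global complete intersection neighbourhood.** -/
theorem exists_relGCI_nhd_pres {R : Type u} [CommRing R] {n : ℕ} (I : Ideal (MvPolynomial (Fin n) R)) (hfg : I.FG)
    (Q : Ideal (MvPolynomial (Fin n) R)) [Q.IsPrime] (hI : I ≤ Q)
    [Module.Flat R (Localization.AtPrime Q ⧸ I.map (algebraMap _ (Localization.AtPrime Q)))]
    (h : CountCI (I.map (LCI19.toFib Q))) :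
    ∃ G ∉ Q, ∃ (n' c' : ℕ) (F' : Fin c' → MvPolynomial (Fin n') R), Synt.IsRelGCI R n' c' F' ∧
      Nonempty (Localization.Away (Ideal.Quotient.mk I G) ≃ₐ[R] Synt.RelGCIRing R n' c' F') := by
  classical
  obtain ⟨r, F, hFI, hspan, hreg⟩ := exists_lift_equations Q I hI h
  have hFQ : ∀ i, F i ∈ Q := fun i => hI (hFI i)
  let L := Localization.AtPrime Q
  let J := Ideal.span (Set.range F)
  have hJI : J ≤ I := Ideal.span_le.2 (by rintro _ ⟨i, rfl⟩; exact hFI i)
  obtain ⟨χ, hχs, hχ, hker⟩ := exists_toFibLoc Q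
  have hle : I.map (algebraMap _ L) ≤ J.map (algebraMap _ L) := by
    refine Submodule.le_of_le_smul_of_le_jacobson_bot (hfg.map _) (maximalIdeal_le_jacobson _) fun x hx => ?_
    have h1 : χ x ∈ (J.map (algebraMap _ L)).map χ := by
      have h0 : χ x ∈ (I.map (algebraMap _ L)).map χ := Ideal.mem_map_of_mem _ hx
      rw [Ideal.map_map, show χ.comp (algebraMap _ L) = LCI19.toFib Q from RingHom.ext hχ] at h0 ⊢
      rw [Ideal.map_span, ← Set.range_comp, hspan]
      exact h0
    obtain ⟨j, hj, hje⟩ := (Ideal.mem_map_iff_of_surjective χ hχs).1 h1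
    have hxj : x - j ∈ (LCI19.fibBase Q).map (algebraMap R L) := by
      rw [← hker, RingHom.mem_ker, map_sub, hje, sub_self]
    have h2 := mem_smul_of_flat_quotient (I.map (algebraMap _ L)) (LCI19.fibBase Q) (x - j)
      (sub_mem hx (Ideal.map_mono hJI hj)) hxj
    rw [← add_sub_cancel j x]
    refine add_mem (Submodule.mem_sup_left hj) (Submodule.mem_sup_right ?_)
    rw [smul_eq_mul]
    refine Ideal.mul_mono_left ?_ h2
    rw [Ideal.map_le_iff_le_comap]
    intro a ha
    rw [Ideal.mem_comap, IsScalarTower.algebraMap_apply R (MvPolynomial (Fin n) R) L,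
      IsLocalization.AtPrime.to_map_mem_maximal_iff L Q]
    exact ha
  obtain ⟨T, hT⟩ := hfg
  have hloc : ∀ i : T, ∃ t ∉ Q, t * i.1 ∈ J := fun i => by
    have h1 : algebraMap _ L i.1 ∈ J.map (algebraMap _ L) :=
      hle (Ideal.mem_map_of_mem _ (hT ▸ Ideal.subset_span i.2))
    obtain ⟨t, ht, hti⟩ := (IsLocalization.algebraMap_mem_map_algebraMap_iff Q.primeCompl L _ _).1 h1
    exact ⟨t, ht, hti⟩
  choose t ht hti using hloc
  obtain ⟨-, g, hg, hF'⟩ := exists_isRelGCI_away F Q hFQ hreg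
  let G := g * ∏ i, t i
  have hGQ : G ∉ Q := fun hm => by
    rcases Ideal.IsPrime.mem_or_mem inferInstance hm with h1 | h1
    · exact hg h1
    · obtain ⟨i, -, hi⟩ := Ideal.IsPrime.prod_mem_iff.1 h1
      exact ht i hi
  have hGI : ∀ y ∈ I, ∃ m : ℕ, G ^ m * y ∈ J := fun y hy => by
    refine ⟨1, ?_⟩
    rw [pow_one]
    have : y ∈ J.colon {G} := by
      rw [← hT] at hy
      refine (Ideal.span_le.2 ?_) hy
      intro z hz
      rw [SetLike.mem_coe, Submodule.mem_colon_singleton, smul_eq_mul, mul_comm]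
      obtain ⟨w, hw⟩ : t ⟨z, hz⟩ ∣ G :=
        dvd_mul_of_dvd_right (Finset.dvd_prod_of_mem _ (Finset.mem_univ _)) g
      rw [hw, mul_comm (t ⟨z, hz⟩) w, mul_assoc]
      exact Ideal.mul_mem_left _ _ (hti ⟨z, hz⟩)
    rw [Submodule.mem_colon_singleton, smul_eq_mul, mul_comm] at this
    exact this
  refine ⟨G, hGQ, n + 1, r + 1, F' R n r F G, (isRelGCI_away_iff F G).2 fun Q₁ _ hQ₁ hG₁ => ?_,
    ⟨(awayQuotEquiv J I hJI G hGI).symm.trans (awayEquiv R n r F G)⟩⟩
  exact (isRelGCI_away_iff F g).1 hF' Q₁ hQ₁ fun hm => hG₁ (Ideal.mul_mem_right _ _ hm)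

end Groth.Agent.RelGCI94
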