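import Groth.Agent.RelGCI94.Fibres

/-! Spreading relative global complete intersections from a closed subset or a fibre. -/

set_option autoImplicit false
universe u

open AlgebraicGeometry CategoryTheory TopologicalSpace MvPolynomial TensorProduct

namespace Groth.Agent.RelGCI94

variable (R : Type u) [CommRing R] (n c : ℕ) (F : Fin c → MvPolynomial (Fin n) R)

/-- reduction of the base -/
noncomputable def redMap (I : Ideal R) : Synt.RelGCIRing R n c F →+*
    Synt.RelGCIRing (R ⧸ I) n c (fun i => MvPolynomial.map (Ideal.Quotient.mk I) (F i)) :=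
  Ideal.quotientMap _ (MvPolynomial.map (Ideal.Quotient.mk I)) (Ideal.span_le.2 (by
    rintro _ ⟨i, rfl⟩
    exact Ideal.subset_span ⟨i, rfl⟩))

theorem redMap_surjective (I : Ideal R) : Function.Surjective (redMap R n c F I) := by
  intro x
  obtain ⟨y, rfl⟩ := Ideal.Quotient.mk_surjective x
  obtain ⟨z, rfl⟩ := MvPolynomial.map_surjective (Ideal.Quotient.mk I) Ideal.Quotient.mk_surjective y
  exact ⟨Ideal.Quotient.mk _ z, rfl⟩

theorem ker_redMap_le (I : Ideal R) :
    RingHom.ker (redMap R n c F I) ≤ I.map (algebraMap R (Synt.RelGCIRing R n c F)) := by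
  intro x hx
  obtain ⟨y, rfl⟩ := Ideal.Quotient.mk_surjective x
  have h1 : MvPolynomial.map (Ideal.Quotient.mk I) y ∈ (Ideal.span (Set.range F)).map (MvPolynomial.map (Ideal.Quotient.mk I)) := by
    rw [Ideal.map_span, ← Set.range_comp]
    exact Ideal.Quotient.eq_zero_iff_mem.1 hx
  have h2 : y ∈ Ideal.span (Set.range F) ⊔ RingHom.ker (MvPolynomial.map (σ := Fin n) (Ideal.Quotient.mk I)) := by
    rw [RingHom.ker_eq_comap_bot, ← Ideal.comap_map_of_surjective _ (MvPolynomial.map_surjective (Ideal.Quotient.mk I) Ideal.Quotient.mk_surjective)]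
    exact h1
  obtain ⟨a, ha, b, hb, rfl⟩ := Submodule.mem_sup.1 h2
  rw [map_add, Ideal.Quotient.eq_zero_iff_mem.2 ha, zero_add]
  rw [MvPolynomial.ker_map, Ideal.mk_ker] at hb
  have := Ideal.mem_map_of_mem (Ideal.Quotient.mk (Ideal.span (Set.range F))) hb
  rw [Ideal.map_map] at this
  exact this

theorem exists_spread (I : Ideal R)
    (hI : Synt.IsRelGCI (R ⧸ I) n c (fun i => MvPolynomial.map (Ideal.Quotient.mk I) (F i))) :
    ∃ h : MvPolynomial (Fin n) R,
      Ideal.Quotient.mk (I.map (algebraMap R (Synt.RelGCIRing R n c F)))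
        (Ideal.Quotient.mk (Ideal.span (Set.range F)) h) = 1 ∧
      Synt.IsRelGCI R (n + 1) (c + 1) (F' R n c F h) := by
  classical
  let S := Synt.RelGCIRing R n c F
  let IS : Ideal S := I.map (algebraMap R S)
  by_cases htop : IS = ⊤
  · refine ⟨0, ?_, isRelGCI_of_small R n c F 0 (Or.inr fun q => by simp) fun q hq => absurd (by simp) hq⟩
    rw [Ideal.Quotient.eq_zero_iff_mem.2 (by simp : Ideal.Quotient.mk (Ideal.span (Set.range F)) (0 : MvPolynomial (Fin n) R) ∈ IS)]
    exact (Ideal.Quotient.subsingleton_iff.2 htop).elim _ _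
  -- the reduced fibres
  let S' := Synt.RelGCIRing (R ⧸ I) n c (fun i => MvPolynomial.map (Ideal.Quotient.mk I) (F i))
  let π : S →+* S' := redMap R n c F I
  have hfib : ∀ q : PrimeSpectrum S, IS ≤ q.asIdeal →
      c ≤ n ∧ ringKrullDim ((PrimeSpectrum.comap (algebraMap R S) q).asIdeal.Fiber S) ≤ (n - c : ℕ) := by
    intro q hq
    let p := PrimeSpectrum.comap (algebraMap R S) q
    have hπ : ∀ q' : PrimeSpectrum S, PrimeSpectrum.comap (algebraMap R S) q' = p → RingHom.ker π ≤ q'.asIdeal := by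
      intro q' hq'
      refine (ker_redMap_le R n c F I).trans (Ideal.map_le_iff_le_comap.2 ?_)
      exact le_of_le_of_eq (Ideal.map_le_iff_le_comap.1 hq) (congrArg PrimeSpectrum.asIdeal hq').symm
    let up : PrimeSpectrum (p.asIdeal.Fiber S) → PrimeSpectrum S' := fun a =>
      ⟨((PrimeSpectrum.preimageOrderIsoFiber R S p).symm a).1.asIdeal.map π,
        Ideal.map_isPrime_of_surjective (redMap_surjective R n c F I) (hπ _ ((PrimeSpectrum.preimageOrderIsoFiber R S p).symm a).2)⟩
    have hup : ∀ a, PrimeSpectrum.comap π (up a) = ((PrimeSpectrum.preimageOrderIsoFiber R S p).symm a).1 := fun a =>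
      PrimeSpectrum.ext (by
        show Ideal.comap π (Ideal.map π _) = _
        rw [Ideal.comap_map_of_surjective _ (redMap_surjective R n c F I), ← RingHom.ker_eq_comap_bot, sup_eq_left]
        exact hπ _ ((PrimeSpectrum.preimageOrderIsoFiber R S p).symm a).2)
    let a₀ := (PrimeSpectrum.preimageOrderIsoFiber R S p) ⟨q, rfl⟩
    let p' := PrimeSpectrum.comap (algebraMap (R ⧸ I) S') (up a₀)
    have hcomm : π.comp (algebraMap R S) = (algebraMap (R ⧸ I) S').comp (Ideal.Quotient.mk I) := by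
      refine RingHom.ext fun r => ?_
      show Ideal.Quotient.mk _ (MvPolynomial.map (Ideal.Quotient.mk I) (C r)) = Ideal.Quotient.mk _ (C (Ideal.Quotient.mk I r))
      rw [MvPolynomial.map_C]
    have hover : ∀ a, PrimeSpectrum.comap (algebraMap (R ⧸ I) S') (up a) = p' := by
      intro a
      refine PrimeSpectrum.comap_injective_of_surjective _ Ideal.Quotient.mk_surjective ?_
      rw [← PrimeSpectrum.comap_comp_apply, ← PrimeSpectrum.comap_comp_apply, ← hcomm,
        PrimeSpectrum.comap_comp_apply, PrimeSpectrum.comap_comp_apply, hup, hup]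
      exact (((PrimeSpectrum.preimageOrderIsoFiber R S p).symm a).2).trans (((PrimeSpectrum.preimageOrderIsoFiber R S p).symm a₀).2).symm
    let emb : PrimeSpectrum (p.asIdeal.Fiber S) → PrimeSpectrum (p'.asIdeal.Fiber S') := fun a =>
      PrimeSpectrum.preimageOrderIsoFiber (R ⧸ I) S' p' ⟨up a, hover a⟩
    have hmono : StrictMono emb := by
      intro a b hab
      refine (PrimeSpectrum.preimageOrderIsoFiber (R ⧸ I) S' p').strictMono ?_
      have h1 : ((PrimeSpectrum.preimageOrderIsoFiber R S p).symm a).1 < ((PrimeSpectrum.preimageOrderIsoFiber R S p).symm b).1 :=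
        (PrimeSpectrum.preimageOrderIsoFiber R S p).symm.strictMono hab
      have h2 : (up a).asIdeal ≤ (up b).asIdeal := Ideal.map_mono h1.le
      exact lt_of_le_of_ne (show up a ≤ up b from h2) fun he => h1.ne ((hup a).symm.trans ((congrArg (PrimeSpectrum.comap π) (congrArg Subtype.val he)).trans (hup b)))
    haveI : Nontrivial (p'.asIdeal.Fiber S') := PrimeSpectrum.nonempty_iff_nontrivial.1 ⟨emb a₀⟩
    obtain ⟨h1, h2⟩ := hI p' inferInstance
    exact ⟨h1, (Order.krullDim_le_of_strictMono emb hmono).trans h2.le⟩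
  have hcn : c ≤ n := by
    obtain ⟨m, hm, hle⟩ := IS.exists_le_maximal htop
    exact (hfib ⟨m, hm.isPrime⟩ hle).1
  obtain ⟨J, hJ⟩ := exists_ideal_small R n c F (n - c)
  have hsup : J ⊔ IS = ⊤ := by
    by_contra hne
    obtain ⟨m, hm, hle⟩ := Ideal.exists_le_maximal _ hne
    exact (hJ ⟨m, hm.isPrime⟩).1 (fibreDimAt_le_of_dim R n c F (n - c) _ (hfib ⟨m, hm.isPrime⟩ (le_sup_right.trans hle)).2)
      (le_sup_left.trans hle)
  obtain ⟨j, hj, i, hi, hji⟩ := Submodule.mem_sup.1 ((Ideal.eq_top_iff_one _).1 hsup)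
  obtain ⟨h, rfl⟩ := Ideal.Quotient.mk_surjective j
  refine ⟨h, ?_, isRelGCI_of_small R n c F h (Or.inl hcn) fun q hq => (hJ q).2 fun hle => hq (hle hj)⟩
  rw [← map_one (Ideal.Quotient.mk IS), ← hji, map_add, Ideal.Quotient.eq_zero_iff_mem.2 hi, add_zero]

theorem exists_spread_fibre (p : Ideal R) [p.IsPrime]
    (hp : c ≤ n ∧ ringKrullDim (p.Fiber (Synt.RelGCIRing R n c F)) = ((n - c : ℕ) : WithBot ℕ∞)) :
    ∃ h : MvPolynomial (Fin n) R,
      IsUnit ((1 : p.ResidueField) ⊗ₜ[R] (Ideal.Quotient.mk (Ideal.span (Set.range F)) h) :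
        p.Fiber (Synt.RelGCIRing R n c F)) ∧
      Synt.IsRelGCI R (n + 1) (c + 1) (F' R n c F h) := by
  classical
  let S := Synt.RelGCIRing R n c F
  obtain ⟨J, hJ⟩ := exists_ideal_small R n c F (n - c)
  let pS : Ideal S := p.map (algebraMap R S)
  let T : Submonoid S := p.primeCompl.map (algebraMap R S).toMonoidHom
  have hmeet : ∃ t ∈ T, t ∈ J ⊔ pS := by
    by_contra hc
    push Not at hc
    obtain ⟨q, hq, hle, hdis⟩ := Ideal.exists_le_prime_disjoint (J ⊔ pS) T
      (Set.disjoint_left.2 fun x hx hxT => hc x hxT hx)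
    have hqp : q.comap (algebraMap R S) = p := by
      refine le_antisymm (fun r hr => ?_) (Ideal.map_le_iff_le_comap.1 (le_sup_right.trans hle))
      by_contra hrp
      exact Set.disjoint_left.1 hdis hr ⟨r, hrp, rfl⟩
    have hd : ringKrullDim ((PrimeSpectrum.comap (algebraMap R S) ⟨q, hq⟩).asIdeal.Fiber S) ≤ (n - c : ℕ) := by
      have he : PrimeSpectrum.comap (algebraMap R S) ⟨q, hq⟩ = ⟨p, inferInstance⟩ := PrimeSpectrum.ext hqp
      rw [he]
      exact hp.2.le
    exact (hJ ⟨q, hq⟩).1 (fibreDimAt_le_of_dim R n c F (n - c) _ hd) (le_sup_left.trans hle)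
  obtain ⟨_, ⟨r, hr, rfl⟩, htJ⟩ := hmeet
  obtain ⟨j, hj, i, hi, hji⟩ := Submodule.mem_sup.1 htJ
  obtain ⟨h, rfl⟩ := Ideal.Quotient.mk_surjective j
  refine ⟨h, ?_, isRelGCI_of_small R n c F h (Or.inl hp.1) fun q hq => (hJ q).2 fun hle => hq (hle hj)⟩
  have h0 : ∀ x ∈ pS, (1 : p.ResidueField) ⊗ₜ[R] x = (0 : p.Fiber S) := by
    intro x hx
    refine Submodule.span_induction ?_ ?_ ?_ ?_ hx
    · rintro _ ⟨a, ha, rfl⟩
      rw [Algebra.algebraMap_eq_smul_one, ← TensorProduct.smul_tmul, ← Algebra.algebraMap_eq_smul_one,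
        Ideal.algebraMap_residueField_eq_zero.2 ha, TensorProduct.zero_tmul]
    · exact TensorProduct.tmul_zero _ _
    · intro x y _ _ hx hy; rw [TensorProduct.tmul_add, hx, hy, add_zero]
    · intro s x _ hx
      have h1 : (1 : p.ResidueField) ⊗ₜ[R] (s * x) = ((1 : p.ResidueField) ⊗ₜ[R] s : p.Fiber S) * ((1 : p.ResidueField) ⊗ₜ[R] x : p.Fiber S) := by
        rw [Algebra.TensorProduct.tmul_mul_tmul, one_mul]
      rw [smul_eq_mul, h1, hx]
      exact mul_zero (M₀ := p.Fiber S) _
  have heq : ((1 : p.ResidueField) ⊗ₜ[R] (Ideal.Quotient.mk (Ideal.span (Set.range F)) h) : p.Fiber S) =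
      (algebraMap R p.ResidueField r) ⊗ₜ[R] (1 : S) := by
    have h1 : ((1 : p.ResidueField) ⊗ₜ[R] (algebraMap R S r) : p.Fiber S) = (algebraMap R p.ResidueField r) ⊗ₜ[R] (1 : S) := by
      rw [Algebra.algebraMap_eq_smul_one r, ← TensorProduct.smul_tmul, ← Algebra.algebraMap_eq_smul_one]
    rw [← h1]
    have h2 : ((1 : p.ResidueField) ⊗ₜ[R] (Ideal.Quotient.mk (Ideal.span (Set.range F)) h + i) : p.Fiber S) = (1 : p.ResidueField) ⊗ₜ[R] (algebraMap R S r) := by
      rw [hji]; rfl
    rwa [TensorProduct.tmul_add, h0 i hi, add_zero] at h2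
  rw [heq]
  exact (Ne.isUnit fun h0' => hr (Ideal.algebraMap_residueField_eq_zero.1 h0')).map
    (Algebra.TensorProduct.includeLeftRingHom (R := R) (A := p.ResidueField) (B := S))

end Groth.Agent.RelGCI94
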