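import Groth.Agent.RelGCI94.Away
import Groth.Agent.RelGCI94.Spread

/-! Regularity on the fibre is an open condition. -/

set_option autoImplicit false
universe u

open MvPolynomial TensorProduct IsLocalRing

namespace Groth.Agent.RelGCI94

section Field

variable {k : Type u} [Field k] {n c : ℕ}

/-- minimal primes of height at least `c` give regularity -/
theorem regular_of_minimalPrimes (f : Fin c → MvPolynomial (Fin n) k) (P : Ideal (MvPolynomial (Fin n) k))
    [P.IsPrime] (hf : ∀ i, f i ∈ P)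
    (h : ∀ m ∈ (Ideal.span (Set.range f)).minimalPrimes, m ≤ P → (c : ℕ∞) ≤ m.height) :
    RingTheory.Sequence.IsWeaklyRegular (Localization.AtPrime P)
      (List.ofFn (algebraMap _ (Localization.AtPrime P) ∘ f)) := by
  let A := MvPolynomial (Fin n) k
  let L := Localization.AtPrime P
  let K := Ideal.span (Set.range f)
  refine (isWeaklyRegular_iff_dim (algebraMap A L ∘ f) fun i =>
    (IsLocalization.AtPrime.to_map_mem_maximal_iff L P _).2 (hf i)).2 ?_
  rw [Set.range_comp, ← Ideal.map_span, IsLocalization.AtPrime.ringKrullDim_eq_height P L]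
  obtain ⟨d, e, hd, he, hde⟩ := ringKrullDim_mvPolynomial_quotient_add_height P
  rw [he]
  obtain ⟨m₀, hm₀, hle₀⟩ := Ideal.exists_minimalPrimes_le (show K ≤ P from Ideal.span_le.2 (by
    rintro _ ⟨i, rfl⟩; exact hf i))
  have hbound : ringKrullDim (L ⧸ K.map (algebraMap A L)) ≤ ((e - c : ℕ) : WithBot ℕ∞) := by
    refine ringKrullDim_quotient_le _ _ fun m' hm' => ?_
    have hm'P := hm'.1.1
    rw [IsLocalization.minimalPrimes_map P.primeCompl L] at hm'
    let m := m'.comap (algebraMap A L)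
    have hm : m ∈ K.minimalPrimes := hm'
    have := hm.1.1
    have hmP : m ≤ P := fun x hx => by
      by_contra hxP
      exact hm'P.ne_top (Ideal.eq_top_of_isUnit_mem _ hx (IsLocalization.map_units L (⟨x, hxP⟩ : P.primeCompl)))
    have hc := h m hm hmP
    obtain ⟨d₁, e₁, hd₁, he₁, hde₁⟩ := ringKrullDim_mvPolynomial_quotient_add_height m
    rw [he₁, Nat.cast_le] at hc
    let Pb : Ideal (A ⧸ m) := P.map (Ideal.Quotient.mk m)
    have hPb : Pb.IsPrime := Ideal.map_isPrime_of_surjective Ideal.Quotient.mk_surjective (by rwa [Ideal.mk_ker])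
    have hcomap : Pb.comap (Ideal.Quotient.mk m) = P := by
      rw [Ideal.comap_map_of_surjective _ Ideal.Quotient.mk_surjective, ← RingHom.ker_eq_comap_bot,
        Ideal.mk_ker, sup_eq_left.2 hmP]
    have hmm : m.map (algebraMap A L) = m' := IsLocalization.map_under P.primeCompl L m'
    have := Gor18.isLocalization_atPrime_quotient P L m Pb hcomap
    rw [← hmm, IsLocalization.AtPrime.ringKrullDim_eq_height Pb (L ⧸ m.map (algebraMap A L))]
    have h1 := E4O.height_add_trdeg_eq k (A ⧸ m) Pb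
    have h2 : ringKrullDim ((A ⧸ m) ⧸ Pb) = (d : WithBot ℕ∞) :=
      (ringKrullDim_eq_of_ringEquiv (DoubleQuot.quotQuotEquivQuotOfLE hmP)).trans hd
    rw [E4O.ringKrullDim_eq_trdeg k ((A ⧸ m) ⧸ Pb), Nat.cast_inj] at h2
    rw [E4O.ringKrullDim_eq_trdeg k (A ⧸ m), Nat.cast_inj] at hd₁
    rw [E4O.trdeg_eq_natCast k ((A ⧸ m) ⧸ Pb), h2, E4O.trdeg_eq_natCast k (A ⧸ m), hd₁] at h1
    obtain ⟨t, ht⟩ := ENat.ne_top_iff_exists.1 (Ideal.height_ne_top (I := Pb) hPb.ne_top)
    rw [← ht] at h1 ⊢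
    have h1' : t + d = d₁ := by exact_mod_cast h1
    exact (Nat.cast_le (α := WithBot ℕ∞)).2 (show t ≤ e - c by omega)
  have hce : c ≤ e := by
    have := hm₀.1.1
    have h1 := (h m₀ hm₀ hle₀).trans (Ideal.height_mono hle₀)
    rw [he] at h1
    exact_mod_cast h1
  refine le_trans (add_le_add hbound le_rfl) ?_
  exact le_trans (le_of_eq (by simp)) ((Nat.cast_le (α := WithBot ℕ∞)).2 (show e - c + c ≤ e by omega))

/-- Near a regular point the presentation is a global complete intersection. -/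
theorem exists_isRelGCI_away_field (f : Fin c → MvPolynomial (Fin n) k) (P : Ideal (MvPolynomial (Fin n) k))
    [P.IsPrime] (hf : ∀ i, f i ∈ P)
    (hreg : RingTheory.Sequence.IsWeaklyRegular (Localization.AtPrime P)
      (List.ofFn (algebraMap _ (Localization.AtPrime P) ∘ f))) :
    c ≤ n ∧ ∃ g ∉ P, ∀ G, g ∣ G → Synt.IsRelGCI k (n + 1) (c + 1) (F' k n c f G) := by
  classical
  let K := Ideal.span (Set.range f)
  have hfin : K.minimalPrimes.Finite := Ideal.finite_minimalPrimes_of_isNoetherianRing _ K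
  let s := hfin.toFinset.filter fun m => ¬ m ≤ P
  have hs : ∀ m ∈ s, ∃ a, a ∈ m ∧ a ∉ P := fun m hm => by
    have := (Finset.mem_filter.1 hm).2
    simpa [SetLike.le_def] using this
  choose a ha using hs
  have hcn : c ≤ n := by
    obtain ⟨d, e, -, he, hde⟩ := ringKrullDim_mvPolynomial_quotient_add_height P
    have h1 := le_height_of_isWeaklyRegular f P hf hreg
    rw [he, Nat.cast_le] at h1
    omega
  refine ⟨hcn, ∏ m : s, a m.1 m.2, fun hm => ?_, fun G hG => ?_⟩
  · obtain ⟨m, -, hm⟩ := Ideal.IsPrime.prod_mem_iff.1 hm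
    exact (ha m.1 m.2).2 hm
  · refine (isRelGCI_field_iff_regular _).2 fun P' _ hP' => ?_
    let P₁ := P'.comap (rename (R := k) (Fin.castSucc : Fin n → Fin (n + 1)))
    refine (regular_away_iff f G P' P₁ rfl hP').2 ?_
    have hf₁ : ∀ i, f i ∈ P₁ := fun i => by
      have := hP' i.castSucc
      rwa [F', Fin.snoc_castSucc] at this
    have hG₁ : G ∉ P₁ := fun hm => by
      have h1 := hP' (Fin.last c)
      rw [F', Fin.snoc_last] at h1
      refine (Ideal.ne_top_iff_one P').1 (Ideal.IsPrime.ne_top inferInstance) ?_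
      have h2 : rename Fin.castSucc G * X (Fin.last n) ∈ P' := Ideal.mul_mem_right _ _ hm
      simpa using sub_mem h2 h1
    refine regular_of_minimalPrimes f P₁ hf₁ fun m hm hle => ?_
    have hmP : m ≤ P := by
      by_contra hne
      have hms : m ∈ s := Finset.mem_filter.2 ⟨hfin.mem_toFinset.2 hm, hne⟩
      have h1 : (∏ m : s, a m.1 m.2) ∈ m :=
        Ideal.mem_of_dvd _ (Finset.dvd_prod_of_mem (fun m : s => a m.1 m.2) (Finset.mem_univ (⟨m, hms⟩ : s)))
          (ha m hms).1
      exact hG₁ (hle (Ideal.mem_of_dvd _ hG h1))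
    have := hm.1.1
    refine le_height_of_isWeaklyRegular f m (fun i => hm.1.2 (Ideal.subset_span (Set.mem_range_self i))) ?_
    let L := Localization.AtPrime P
    let M := Localization.AtPrime m
    have hle' : P.primeCompl ≤ m.primeCompl := fun x hx hxm => hx (hmP hxm)
    let _ : Algebra L M := IsLocalization.localizationAlgebraOfSubmonoidLe L M P.primeCompl m.primeCompl hle'
    have := IsLocalization.localization_isScalarTower_of_submonoid_le L M P.primeCompl m.primeCompl hle'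
    have := IsLocalization.isLocalization_of_submonoid_le L M P.primeCompl m.primeCompl hle'
    have : Module.Flat L M := IsLocalization.flat M (m.primeCompl.map (algebraMap _ L))
    have h2 : RingTheory.Sequence.IsWeaklyRegular M ((List.ofFn (algebraMap _ L ∘ f)).map (algebraMap L M)) :=
      RingTheory.Sequence.IsWeaklyRegular.of_flat hreg
    rw [List.map_ofFn] at h2
    convert h2 using 3
    funext i
    exact IsScalarTower.algebraMap_apply _ L M (f i)

end Field

variable {R : Type u} [CommRing R] {n c : ℕ}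

/-- **Openness**: a point regular on its fibre has a relative global complete intersection neighbourhood. -/
theorem exists_isRelGCI_away (F : Fin c → MvPolynomial (Fin n) R) (Q : Ideal (MvPolynomial (Fin n) R))
    [Q.IsPrime] (hQ : ∀ i, F i ∈ Q) (h : RegAt F Q) :
    c ≤ n ∧ ∃ g ∉ Q, Synt.IsRelGCI R (n + 1) (c + 1) (F' R n c F g) := by
  classical
  let p := LCI19.fibBase Q
  let φ := algebraMap R p.ResidueField
  let f : Fin c → MvPolynomial (Fin n) p.ResidueField := fun i => MvPolynomial.map φ (F i)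
  have hf : ∀ i, f i ∈ LCI19.fibPrime Q := fun i => (LCI19.fibMap_mem_iff Q _).2 (hQ i)
  obtain ⟨hcn, gb, hgb, hG⟩ := exists_isRelGCI_away_field f (LCI19.fibPrime Q) hf h
  obtain ⟨b, g₀, hb, hbg⟩ := LCI19.exists_denom Q gb
  have hg₀ : g₀ ∉ Q := fun hm => by
    rcases Ideal.IsPrime.mem_or_mem inferInstance
      (hbg ▸ (LCI19.fibMap_mem_iff Q _).2 hm : LCI19.fibMap Q (C b) * gb ∈ LCI19.fibPrime Q) with h1 | h1
    · exact hb ((LCI19.fibMap_mem_iff Q _).1 h1)
    · exact hgb h1
  have hG₀ := hG (MvPolynomial.map φ g₀) ⟨LCI19.fibMap Q (C b), by rw [mul_comm]; exact hbg.symm⟩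
  have hmap : (fun i => MvPolynomial.map φ (F' R n c F g₀ i)) =
      F' p.ResidueField n c f (MvPolynomial.map φ g₀) := funext fun i => by
    induction i using Fin.lastCases with
    | cast i => simp [F', f, map_rename]
    | last => simp [F', map_rename]
  -- a point over `Q`
  let J := Ideal.span (Set.range F)
  let J' := Ideal.span (Set.range (F' R n c F g₀))
  let q : PrimeSpectrum (Synt.RelGCIRing R n c F) :=
    ⟨Q.map (Ideal.Quotient.mk J), Ideal.map_isPrime_of_surjective Ideal.Quotient.mk_surjective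
      (by rw [Ideal.mk_ker]; exact Ideal.span_le.2 (by rintro _ ⟨i, rfl⟩; exact hQ i))⟩
  have hq : q.asIdeal.comap (Ideal.Quotient.mk J) = Q := by
    show (Q.map _).comap _ = Q
    rw [Ideal.comap_map_of_surjective _ Ideal.Quotient.mk_surjective, ← RingHom.ker_eq_comap_bot, Ideal.mk_ker,
      sup_eq_left.2 (Ideal.span_le.2 (by rintro _ ⟨i, rfl⟩; exact hQ i))]
  obtain ⟨a', ha'⟩ := exists_inclSpec_eq R n c F g₀ q fun hm => hg₀ (hq ▸ hm : g₀ ∈ Q)
  have hover : PrimeSpectrum.comap (algebraMap R _) a' = ⟨p, inferInstance⟩ := by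
    have h1 : PrimeSpectrum.comap (algebraMap R _) (inclSpec R n c F g₀ a') = ⟨p, inferInstance⟩ := by
      rw [ha']
      refine PrimeSpectrum.ext ?_
      show q.asIdeal.comap (algebraMap R (Synt.RelGCIRing R n c F)) = Q.comap MvPolynomial.C
      rw [← hq, Ideal.comap_comap]
      rfl
    rw [← h1, ← PrimeSpectrum.comap_comp_apply]
    exact congrArg (fun g => PrimeSpectrum.comap g a') (RingHom.ext fun r => ((incl R n c F g₀).commutes r).symm)
  let A := PrimeSpectrum.preimageOrderIsoFiber R _ ⟨p, inferInstance⟩ ⟨a', hover⟩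
  have hne : Nontrivial (p.Fiber (Synt.RelGCIRing R (n + 1) (c + 1) (F' R n c F g₀))) :=
    PrimeSpectrum.nonempty_iff_nontrivial.1 ⟨A⟩
  have hdim : c + 1 ≤ n + 1 ∧ ringKrullDim (p.Fiber (Synt.RelGCIRing R (n + 1) (c + 1) (F' R n c F g₀))) =
      (((n + 1) - (c + 1) : ℕ) : WithBot ℕ∞) := by
    refine ⟨by omega, ?_⟩
    have hnt := (fibreEquiv R (n + 1) (c + 1) (F' R n c F g₀) p).symm.toEquiv.nontrivial
    rw [ringKrullDim_eq_of_ringEquiv (fibreEquiv R (n + 1) (c + 1) (F' R n c F g₀) p).toRingEquiv, hmap]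
    rw [hmap] at hnt
    exact ((isRelGCI_field_iff _ _ _).1 hG₀ hnt).2
  obtain ⟨h₁, hh₁, hrel⟩ := exists_spread_fibre R (n + 1) (c + 1) (F' R n c F g₀) p hdim
  have hh₁' : Ideal.Quotient.mk J' h₁ ∉ a'.asIdeal := fun hm => by
    have h2 := ((PrimeSpectrum.preimageEquivFiber R _ ⟨p, inferInstance⟩).symm_apply_apply ⟨a', hover⟩)
    have h3 : PrimeSpectrum.comap (Algebra.TensorProduct.includeRight : _ →ₐ[R] p.Fiber
        (Synt.RelGCIRing R (n + 1) (c + 1) (F' R n c F g₀))).toRingHom A = a' := by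
      have := congrArg Subtype.val h2
      exact this
    rw [← h3] at hm
    exact A.2.ne_top (Ideal.eq_top_of_isUnit_mem _ hm hh₁)
  -- numerator of `h₁`
  obtain ⟨N, a, hNa⟩ := IsLocalization.Away.surj (Ideal.Quotient.mk J g₀)
    (toAway R n c F g₀ (Ideal.Quotient.mk J' h₁))
  obtain ⟨a₁, rfl⟩ := Ideal.Quotient.mk_surjective a
  have hrelation : Ideal.Quotient.mk J' h₁ * incl R n c F g₀ (Ideal.Quotient.mk J g₀) ^ N =
      incl R n c F g₀ (Ideal.Quotient.mk J a₁) := by
    apply toAway_injective R n c F g₀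
    rw [map_mul, map_pow, toAway_incl, toAway_incl]
    exact hNa
  refine ⟨hcn, g₀ * a₁, fun hm => ?_, (isRelGCI_away_iff F (g₀ * a₁)).2 fun Q₁ _ hQ₁ hg₁ => ?_⟩
  · refine hh₁' ?_
    have h1 : a₁ ∈ Q := ((inferInstance : Q.IsPrime).mem_or_mem hm).resolve_left hg₀
    have h2 : incl R n c F g₀ (Ideal.Quotient.mk J a₁) ∈ a'.asIdeal := by
      show Ideal.Quotient.mk J a₁ ∈ (inclSpec R n c F g₀ a').asIdeal
      rw [ha']
      show a₁ ∈ q.asIdeal.comap (Ideal.Quotient.mk J)
      rwa [hq]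
    rw [← hrelation] at h2
    exact (a'.2.mem_or_mem h2).resolve_right fun h3 =>
      a'.2.ne_top (Ideal.eq_top_of_isUnit_mem _ h3 ((isUnit_incl R n c F g₀).pow N))
  · let q₁ : PrimeSpectrum (Synt.RelGCIRing R n c F) :=
      ⟨Q₁.map (Ideal.Quotient.mk J), Ideal.map_isPrime_of_surjective Ideal.Quotient.mk_surjective
        (by rw [Ideal.mk_ker]; exact Ideal.span_le.2 (by rintro _ ⟨i, rfl⟩; exact hQ₁ i))⟩
    have hq₁ : q₁.asIdeal.comap (Ideal.Quotient.mk J) = Q₁ := by
      show (Q₁.map _).comap _ = Q₁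
      rw [Ideal.comap_map_of_surjective _ Ideal.Quotient.mk_surjective, ← RingHom.ker_eq_comap_bot, Ideal.mk_ker,
        sup_eq_left.2 (Ideal.span_le.2 (by rintro _ ⟨i, rfl⟩; exact hQ₁ i))]
    have hg₀₁ : g₀ ∉ Q₁ := fun hm => hg₁ (Ideal.mul_mem_right _ _ hm)
    obtain ⟨b', hb'⟩ := exists_inclSpec_eq R n c F g₀ q₁ fun hm => hg₀₁ (hq₁ ▸ hm : g₀ ∈ Q₁)
    let Q' := b'.asIdeal.comap (Ideal.Quotient.mk J')
    have hQ' : ∀ i, F' R n c F g₀ i ∈ Q' := fun i => by
      show Ideal.Quotient.mk J' _ ∈ b'.asIdeal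
      rw [Ideal.Quotient.eq_zero_iff_mem.2 (Ideal.subset_span (Set.mem_range_self i))]
      exact zero_mem _
    refine (regAt_away_iff F g₀ Q' Q₁ ?_ hQ').1 ((isRelGCI_away_iff (F' R n c F g₀) h₁).1 hrel Q' hQ' fun hm => ?_)
    · rw [← hq₁, ← hb']
      ext x
      rfl
    · refine hg₁ (Ideal.mul_mem_left _ _ ?_)
      have h2 : incl R n c F g₀ (Ideal.Quotient.mk J a₁) ∈ b'.asIdeal := by
        rw [← hrelation]
        exact Ideal.mul_mem_right _ _ hm
      have h3 : Ideal.Quotient.mk J a₁ ∈ (inclSpec R n c F g₀ b').asIdeal := h2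
      rw [hb'] at h3
      rw [← hq₁]
      exact h3

end Groth.Agent.RelGCI94
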