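import Groth.Agent.RelGCI94.SyntProperty

/-! Complete intersection local rings and syntomic morphisms over a field. -/

set_option autoImplicit false
universe u

open AlgebraicGeometry CategoryTheory Opposite

namespace Groth.Agent.RelGCI94

variable {k : Type u} [Field k] {X : Scheme.{u}} (p : X ⟶ Spec (CommRingCat.of k))

theorem topLE (U : X.Opens) : U ≤ p ⁻¹ᵁ ⊤ := fun _ _ => trivial

/-- the structure map on sections -/
noncomputable def secHom (U : X.Opens) : CommRingCat.of k ⟶ Γ(X, U) :=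
  (Scheme.ΓSpecIso (CommRingCat.of k)).inv ≫ p.appLE ⊤ U (topLE p U)

/-- the algebra structure on a stalk -/
noncomputable def stalkHom (x : X) : CommRingCat.of k ⟶ X.presheaf.stalk x :=
  (Scheme.ΓSpecIso (CommRingCat.of k)).inv ≫ p.appLE ⊤ ⊤ (topLE p ⊤) ≫ X.presheaf.germ ⊤ x trivial

theorem stalkHom_eq (U : X.Opens) (x : X) (hx : x ∈ U) :
    stalkHom p x = secHom p U ≫ X.presheaf.germ U x hx := by
  rw [stalkHom, secHom, Category.assoc, ← X.presheaf.germ_res (homOfLE (le_top : U ≤ ⊤)) x hx,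
    ← Category.assoc (p.appLE ⊤ ⊤ (topLE p ⊤)), Scheme.Hom.appLE_map]

/-- `p` is a complete intersection at `x` -/
def CIAt (x : X) : Prop :=
  letI := (stalkHom p x).hom.toAlgebra
  Synt.IsCIOver k (X.presheaf.stalk x)

theorem ciAt_iff {U : X.Opens} (hU : IsAffineOpen U) (x : X) (hx : x ∈ U) :
    CIAt p x ↔
      letI := (secHom p U).hom.toAlgebra
      Synt.IsCIOver k (Localization.AtPrime (hU.primeIdealOf ⟨x, hx⟩).asIdeal) := by
  let := (secHom p U).hom.toAlgebra
  let := (stalkHom p x).hom.toAlgebra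
  let := X.presheaf.algebra_section_stalk (⟨x, hx⟩ : U)
  have : IsLocalization.AtPrime (X.presheaf.stalk x) (hU.primeIdealOf ⟨x, hx⟩).asIdeal :=
    hU.isLocalization_stalk ⟨x, hx⟩
  have : IsScalarTower k Γ(X, U) (X.presheaf.stalk x) := IsScalarTower.of_algebraMap_eq' (by
    show (stalkHom p x).hom = _
    rw [stalkHom_eq p U x hx]
    rfl)
  let e := (IsLocalization.algEquiv (hU.primeIdealOf ⟨x, hx⟩).asIdeal.primeCompl (X.presheaf.stalk x)
    (Localization.AtPrime (hU.primeIdealOf ⟨x, hx⟩).asIdeal)).restrictScalars k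
  exact ⟨isCIOver_congr e, isCIOver_congr e.symm⟩

theorem secHom_appLE (U : X.Opens) : (secHom p U).hom = (p.appLE ⊤ U (topLE p U)).hom.comp
    (Scheme.ΓSpecIso (CommRingCat.of k)).commRingCatIsoToRingEquiv.symm.toRingHom := rfl

theorem syntomicHom_appLE_iff (U : X.Opens) :
    SyntomicHom (p.appLE ⊤ U (topLE p U)).hom ↔ SyntomicHom (secHom p U).hom := by
  rw [secHom_appLE]
  refine ⟨fun h => syntomicHom_isLocal.respectsIso.2 _ _ h, fun h => ?_⟩
  have h2 := syntomicHom_isLocal.respectsIso.2 _ (Scheme.ΓSpecIso (CommRingCat.of k)).commRingCatIsoToRingEquiv h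
  convert h2 using 1
  ext z
  simp

/-- LCI over a field -/
theorem tfae_overField [LocallyOfFiniteType p] :
    [Synt.IsSyntomicMor p,
      ∀ x : ↑X, ∃ U : X.affineOpens, x ∈ U.1 ∧
        letI := (secHom p U.1).hom.toAlgebra
        Synt.IsGlobalCI k Γ(X, U.1),
      ∀ x : ↑X, CIAt p x].TFAE := by
  have hfin : ∀ {U : X.Opens}, IsAffineOpen U →
      letI := (secHom p U).hom.toAlgebra
      Algebra.FiniteType k Γ(X, U) := fun {U} hU =>
    RingHom.FiniteType.comp_surjective (g := RingHom.id _)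
      (RingHom.FiniteType.comp ((HasRingHomProperty.appLE @LocallyOfFiniteType p ‹_› ⟨⊤, isAffineOpen_top _⟩ ⟨U, hU⟩ (topLE p U)))
        (RingHom.FiniteType.of_surjective _ (Scheme.ΓSpecIso (CommRingCat.of k)).commRingCatIsoToRingEquiv.symm.surjective))
      Function.surjective_id
  have hsub : ∀ {U : X.Opens} (hU : IsAffineOpen U) (x : X) (hx : x ∈ U),
      letI := (secHom p U).hom.toAlgebra
      ∀ a : Γ(X, U), a ∉ (hU.primeIdealOf ⟨x, hx⟩).asIdeal → Synt.IsGlobalCI k (Localization.Away a) →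
        ∃ W : X.affineOpens, x ∈ W.1 ∧
          letI := (secHom p W.1).hom.toAlgebra
          Synt.IsGlobalCI k Γ(X, W.1) := fun {U} hU x hx a ha hG => by
    let := (secHom p U).hom.toAlgebra
    have hxW : x ∈ X.basicOpen a := by
      have h2 : hU.fromSpec (hU.primeIdealOf ⟨x, hx⟩) ∈ X.basicOpen a := by
        show hU.primeIdealOf ⟨x, hx⟩ ∈ hU.fromSpec ⁻¹ᵁ X.basicOpen a
        rw [hU.fromSpec_preimage_basicOpen]; exact ha
      rwa [hU.fromSpec_primeIdealOf] at h2
    refine ⟨⟨_, hU.basicOpen a⟩, hxW, ?_⟩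
    let := (secHom p (X.basicOpen a)).hom.toAlgebra
    have : IsLocalization.Away a Γ(X, X.basicOpen a) := hU.isLocalization_basicOpen a
    have : IsScalarTower k Γ(X, U) Γ(X, X.basicOpen a) := IsScalarTower.of_algebraMap_eq' (by
      rw [RingHom.algebraMap_toAlgebra, RingHom.algebraMap_toAlgebra, RingHom.algebraMap_toAlgebra,
        ← CommRingCat.hom_comp, secHom, secHom, Category.assoc, Scheme.Hom.appLE_map])
    exact isGlobalCI_congr ((IsLocalization.algEquiv (Submonoid.powers a) (Localization.Away a)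
      Γ(X, X.basicOpen a)).restrictScalars k) hG
  tfae_have 1 → 2 := fun h x => by
    obtain ⟨U, hU, hxU, -⟩ := exists_isAffineOpen_mem_and_subset (U := (⊤ : X.Opens)) (x := x) trivial
    have h1 : SyntomicHom (p.appLE ⊤ U (topLE p U)).hom :=
      HasRingHomProperty.appLE syntomicProp p ((isSyntomicMor_iff p).1 h) ⟨⊤, isAffineOpen_top _⟩ ⟨U, hU⟩ (topLE p U)
    let := (secHom p U).hom.toAlgebra
    obtain ⟨a, ha, n, c, F, hF, ⟨e⟩⟩ := exists_relGCI_at (R := k) (S := Γ(X, U))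
      (syntomicHom_algebraMap.1 ((syntomicHom_appLE_iff p U).1 h1)) (hU.primeIdealOf ⟨x, hxU⟩).asIdeal
    exact hsub hU x hxU a ha (isGlobalCI_iff.2 ⟨n, c, F, hF, ⟨e⟩⟩)
  tfae_have 2 → 1 := fun h x => by
    obtain ⟨U, hxU, hG⟩ := h x
    let := (secHom p U.1).hom.toAlgebra
    obtain ⟨n, c, F, hF, ⟨e⟩⟩ := isGlobalCI_iff.1 hG
    exact ⟨U, ⟨⊤, isAffineOpen_top _⟩, topLE p U.1, hxU, (syntomicHom_appLE_iff p U.1).2
      (syntomicHom_algebraMap.2 (isSyntomic_congr e.symm (isSyntomic_relGCIRing k n c F hF)))⟩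
  tfae_have 2 → 3 := fun h x => by
    obtain ⟨⟨U, hU⟩, hxU, hG⟩ := h x
    let := (secHom p U).hom.toAlgebra
    exact (ciAt_iff p hU x hxU).2 (isCIOver_atPrime_of_isGlobalCI hG _)
  tfae_have 3 → 2 := fun h x => by
    obtain ⟨U, hU, hxU, -⟩ := exists_isAffineOpen_mem_and_subset (U := (⊤ : X.Opens)) (x := x) trivial
    let := (secHom p U).hom.toAlgebra
    have := hfin hU
    obtain ⟨a, ha, hG⟩ := exists_globalCI_nhd _ ((ciAt_iff p hU x hxU).1 (h x))
    exact hsub hU x hxU a ha hG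
  tfae_finish

end Groth.Agent.RelGCI94
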