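import Groth.Agent.RelGCI94.Syntomic
import Groth.Agent.RelGCI94.Koszul
import Mathlib.RingTheory.Smooth.Local
import Mathlib.RingTheory.Kaehler.Polynomial
import Mathlib.RingTheory.Etale.Kaehler
import Mathlib.LinearAlgebra.Matrix.Rank

/-! The Jacobian criterion for relative global complete intersections. -/

set_option autoImplicit false
universe u

open MvPolynomial TensorProduct IsLocalRing KaehlerDifferential

namespace Groth.Agent.RelGCI94

/-- The rows of a `c × n` matrix over a field are independent iff some `c × c` minor is nonzero. -/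
theorem linearIndependent_rows_iff_exists_minor {K : Type u} [Field K] {c n : ℕ} (M : Matrix (Fin c) (Fin n) K) :
    LinearIndependent K M.row ↔ ∃ I : Fin c ↪ Fin n, (Matrix.of fun j i => M j (I i)).det ≠ 0 := by
  constructor
  · intro h
    have hcols : Submodule.span K (Set.range M.col) = ⊤ := by
      refine Submodule.eq_top_of_finrank_eq ?_
      rw [← Matrix.rank_eq_finrank_span_cols, h.rank_matrix, Module.finrank_pi, Fintype.card_fin]
    obtain ⟨κ, a, ha, hsp, hli⟩ := exists_linearIndependent' K M.col
    have b := Module.Basis.mk hli (by rw [hsp, hcols])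
    have : Finite κ := Finite.of_injective a ha
    let := Fintype.ofFinite κ
    have hcard : Fintype.card κ = c := by
      rw [← Module.finrank_eq_card_basis b, Module.finrank_pi, Fintype.card_fin]
    let e : Fin c ≃ κ := (Fintype.equivFinOfCardEq hcard).symm
    refine ⟨⟨a ∘ e, ha.comp e.injective⟩, ?_⟩
    have : IsUnit (Matrix.of fun j i => M j (a (e i))) :=
      Matrix.linearIndependent_cols_iff_isUnit.1 (hli.comp e e.injective)
    exact ((Matrix.isUnit_iff_isUnit_det _).1 this).ne_zero
  · rintro ⟨I, hI⟩
    have h1 : LinearIndependent K (Matrix.of fun j i => M j (I i)).row :=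
      Matrix.linearIndependent_rows_iff_isUnit.2 ((Matrix.isUnit_iff_isUnit_det _).2 (isUnit_iff_ne_zero.2 hI))
    exact LinearIndependent.of_comp (LinearMap.funLeft K K I) h1

/-- The cotangent complex at a point, in coordinates: `K ⊗ I → K ⊗ Ω` is injective iff the images of
generators forming a basis of `I / I²` are independent. -/
theorem injective_iff_linearIndependent {L S K : Type u} [CommRing L] [CommRing S] [Field K] [Algebra L S]
    [Algebra L K] [Algebra S K] [IsScalarTower L S K] {r : ℕ} (I : Ideal L)
    (hI : I ≤ RingHom.ker (algebraMap L K)) (f : Fin r → I)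
    (hspan : Ideal.span (Set.range fun i => (f i : L)) = I)
    (b : Module.Basis (Fin r) (L ⧸ I) I.Cotangent) (hb : ∀ i, b i = I.toCotangent (f i))
    {W : Type u} [AddCommGroup W] [Module K W] (T : K ⊗[L] I →ₗ[K] W) :
    Function.Injective T ↔ LinearIndependent K fun i => T ((1 : K) ⊗ₜ f i) := by
  classical
  let τ : (Fin r → K) →ₗ[K] K ⊗[L] I := Fintype.linearCombination K fun i => (1 : K) ⊗ₜ f i
  have hgen : Submodule.span L (Set.range f) = ⊤ := by
    apply Submodule.map_injective_of_injective I.injective_subtype
    rw [Submodule.map_span, Submodule.map_top, Submodule.range_subtype, ← Set.range_comp]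
    exact hspan
  have hτs : Function.Surjective τ := by
    rw [← LinearMap.range_eq_top, Fintype.range_linearCombination, eq_top_iff, ← Submodule.baseChange_top,
      ← hgen, Submodule.baseChange_span, ← Set.range_comp]
    exact le_rfl
  let μ : (L ⧸ I) →ₐ[L] K := Ideal.Quotient.liftₐ I (Algebra.ofId L K) fun a ha => hI ha
  have hτi : Function.Injective τ := by
    rw [injective_iff_map_eq_zero]
    intro a ha
    funext j
    let χ : I →ₗ[L] K := μ.toLinearMap ∘ₗ (b.coord j).restrictScalars L ∘ₗ I.toCotangent
    have hχ : ∀ i, χ (f i) = if i = j then 1 else 0 := fun i => by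
      show μ (b.coord j (I.toCotangent (f i))) = _
      rw [← hb, Module.Basis.coord_apply, Module.Basis.repr_self, Finsupp.single_apply]
      split_ifs <;> simp
    have := congrArg (LinearMap.liftBaseChange K χ) ha
    rw [map_zero, Fintype.linearCombination_apply, map_sum] at this
    simpa [map_smul, hχ] using this
  have hT : Function.Injective T ↔ Function.Injective (T ∘ₗ τ) :=
    ⟨fun h => h.comp hτi, fun h x y hxy => by
      obtain ⟨x, rfl⟩ := hτs x
      obtain ⟨y, rfl⟩ := hτs y
      rw [h hxy]⟩
  rw [hT, linearIndependent_iff_injective_fintypeLinearCombination]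
  have : T ∘ₗ τ = Fintype.linearCombination K fun i => T ((1 : K) ⊗ₜ f i) := by
    refine LinearMap.ext fun a => ?_
    simp [τ, Fintype.linearCombination_apply]
  rw [this]

/-- The Jacobian criterion for a local quotient of a formally smooth algebra. -/
theorem formallySmooth_iff_linearIndependent {R L S : Type u} [CommRing R] [CommRing L] [CommRing S]
    [IsLocalRing S] [Algebra R L] [Algebra R S] [Algebra L S] [IsScalarTower R L S] [Algebra.FormallySmooth R L]
    {n c : ℕ} (bL : Module.Basis (Fin n) L Ω[L⁄R]) (hsurj : Function.Surjective (algebraMap L S))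
    (g : Fin c → RingHom.ker (algebraMap L S))
    (hgspan : Ideal.span (Set.range fun i => (g i : L)) = RingHom.ker (algebraMap L S))
    (b : Module.Basis (Fin c) (L ⧸ RingHom.ker (algebraMap L S)) (RingHom.ker (algebraMap L S)).Cotangent)
    (hb : ∀ i, b i = (RingHom.ker (algebraMap L S)).toCotangent (g i)) :
    Algebra.FormallySmooth R S ↔ LinearIndependent (ResidueField S)
      (Matrix.of fun j i => algebraMap L (ResidueField S) (bL.repr (D R L (g j : L)) i)).row := by
  have : Module.Free L Ω[L⁄R] := .of_basis bL
  have : Module.Finite L Ω[L⁄R] := Module.Finite.of_basis bL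
  have hI : RingHom.ker (algebraMap L S) ≤ RingHom.ker (algebraMap L (ResidueField S)) := fun x hx => by
    rw [RingHom.mem_ker, IsScalarTower.algebraMap_apply L S (ResidueField S), RingHom.mem_ker.1 hx, map_zero]
  let bK : Module.Basis (Fin n) (ResidueField S) (ResidueField S ⊗[L] Ω[L⁄R]) := bL.baseChange (ResidueField S)
  have hrow : (bK.equivFun.toLinearMap ∘ fun j =>
      cotangentComplexBaseChange R S L (ResidueField S) ((1 : ResidueField S) ⊗ₜ[L] g j)) =
      (Matrix.of fun j i => algebraMap L (ResidueField S) (bL.repr (D R L (g j : L)) i)).row := by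
    funext j i
    simp only [Function.comp_apply, LinearEquiv.coe_coe, Matrix.row, Matrix.of_apply]
    rw [KaehlerDifferential.cotangentComplexBaseChange_tmul, one_smul, KaehlerDifferential.kerToTensor_apply,
      Module.Basis.equivFun_apply, Module.Basis.baseChange_repr_tmul, Algebra.smul_def, mul_one]
  rw [Algebra.FormallySmooth.iff_injective_cotangentComplexBaseChange_residueField L hsurj
      (hgspan ▸ Submodule.fg_span (Set.finite_range _))]
  rw [injective_iff_linearIndependent (S := S) (RingHom.ker (algebraMap L S)) hI g hgspan b hb]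
  rw [← hrow, LinearMap.linearIndependent_iff bK.equivFun.toLinearMap bK.equivFun.ker]

variable (R : Type u) [CommRing R] (n c : ℕ) (F : Fin c → MvPolynomial (Fin n) R)

/-- The criterion for any local ring with the expected presentation. -/
theorem formallySmooth_iff_minor (h : Synt.IsRelGCI R n c F) (Q : Ideal (MvPolynomial (Fin n) R)) [Q.IsPrime]
    (hQ : ∀ i, F i ∈ Q) (S : Type u) [CommRing S] [IsLocalRing S] [Algebra R S]
    [Algebra (Localization.AtPrime Q) S] [IsScalarTower R (Localization.AtPrime Q) S]
    (hsurj : Function.Surjective (algebraMap (Localization.AtPrime Q) S))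
    (hker : RingHom.ker (algebraMap (Localization.AtPrime Q) S) =
      (Ideal.span (Set.range F)).map (algebraMap (MvPolynomial (Fin n) R) (Localization.AtPrime Q))) :
    Algebra.FormallySmooth R S ↔ ∃ I : Fin c ↪ Fin n,
      Matrix.det (Matrix.of fun j i => MvPolynomial.pderiv (I i) (F j)) ∉ Q := by
  classical
  have : Algebra.FormallySmooth R (Localization.AtPrime Q) :=
    have : Algebra.FormallySmooth (MvPolynomial (Fin n) R) (Localization.AtPrime Q) :=
      Algebra.FormallySmooth.of_isLocalization Q.primeCompl
    Algebra.FormallySmooth.comp R (MvPolynomial (Fin n) R) (Localization.AtPrime Q)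
  have : IsLocalizedModule Q.primeCompl
      (KaehlerDifferential.map R R (MvPolynomial (Fin n) R) (Localization.AtPrime Q)) :=
    KaehlerDifferential.isLocalizedModule_map R (MvPolynomial (Fin n) R) (Localization.AtPrime Q) Q.primeCompl
  let bL : Module.Basis (Fin n) (Localization.AtPrime Q) Ω[Localization.AtPrime Q⁄R] :=
    (mvPolynomialBasis R (Fin n)).ofIsLocalizedModule (Localization.AtPrime Q) Q.primeCompl
      (KaehlerDifferential.map R R (MvPolynomial (Fin n) R) (Localization.AtPrime Q))
  let g : Fin c → RingHom.ker (algebraMap (Localization.AtPrime Q) S) := fun i =>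
    ⟨algebraMap _ _ (F i), hker.symm ▸ Ideal.mem_map_of_mem _ (Ideal.subset_span (Set.mem_range_self i))⟩
  have hgspan : Ideal.span (Set.range fun i => (g i : Localization.AtPrime Q)) =
      RingHom.ker (algebraMap (Localization.AtPrime Q) S) := by
    refine Eq.trans ?_ hker.symm
    show Ideal.span (Set.range (algebraMap _ (Localization.AtPrime Q) ∘ F)) =
      (Ideal.span (Set.range F)).map (algebraMap (MvPolynomial (Fin n) R) (Localization.AtPrime Q))
    rw [Ideal.map_span, ← Set.range_comp]
  obtain ⟨b, hb⟩ := Koszul19.exists_basis g (Koszul19.kR_of_isWeaklyRegular _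
    (isWeaklyRegular_atPrime R n c F h Q hQ)) hgspan
  have key := formallySmooth_iff_linearIndependent (R := R) (L := Localization.AtPrime Q) (S := S) bL hsurj g hgspan b hb
  rw [key, linearIndependent_rows_iff_exists_minor]
  let ψ : MvPolynomial (Fin n) R →+* ResidueField S :=
    (algebraMap (Localization.AtPrime Q) (ResidueField S)).comp (algebraMap _ _)
  have hM : ∀ j i, algebraMap (Localization.AtPrime Q) (ResidueField S)
      (bL.repr (D R (Localization.AtPrime Q) (g j : Localization.AtPrime Q)) i) = ψ (pderiv i (F j)) := fun j i => by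
    rw [show D R (Localization.AtPrime Q) (g j : Localization.AtPrime Q) =
        KaehlerDifferential.map R R (MvPolynomial (Fin n) R) (Localization.AtPrime Q)
          (D R (MvPolynomial (Fin n) R) (F j)) from (map_D R R _ _ (F j)).symm,
      Module.Basis.ofIsLocalizedModule_repr_apply, mvPolynomialBasis_repr_apply]
    rfl
  simp only [Matrix.of_apply, hM]
  have hψ : ∀ x, ψ x ≠ 0 ↔ x ∉ Q := fun x => by
    show algebraMap (Localization.AtPrime Q) (ResidueField S) (algebraMap _ _ x) ≠ 0 ↔ x ∉ Q
    rw [IsScalarTower.algebraMap_apply (Localization.AtPrime Q) S (ResidueField S), ne_eq]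
    show ¬ residue S (algebraMap (Localization.AtPrime Q) S _) = 0 ↔ x ∉ Q
    rw [residue_eq_zero_iff, mem_maximalIdeal, mem_nonunits_iff, not_not]
    have := IsLocalHom.of_surjective (algebraMap (Localization.AtPrime Q) S) hsurj
    rw [isUnit_map_iff, IsLocalization.AtPrime.isUnit_to_map_iff (Localization.AtPrime Q) Q,
      Ideal.mem_primeCompl_iff]
  refine exists_congr fun I => ?_
  rw [← hψ, RingHom.map_det]
  exact Iff.rfl

/-- **Jacobian criterion.** -/
theorem isSmoothAt_iff (h : Synt.IsRelGCI R n c F) (q : Ideal (Synt.RelGCIRing R n c F)) [q.IsPrime] :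
    Algebra.IsSmoothAt R q ↔ ∃ I : Fin c ↪ Fin n,
      Ideal.Quotient.mk (Ideal.span (Set.range F))
        (Matrix.det (Matrix.of fun j i => MvPolynomial.pderiv (I i) (F j))) ∉ q := by
  classical
  let J : Ideal (MvPolynomial (Fin n) R) := Ideal.span (Set.range F)
  let Q : Ideal (MvPolynomial (Fin n) R) := q.comap (Ideal.Quotient.mk J)
  let L := Localization.AtPrime Q
  let JL := J.map (algebraMap (MvPolynomial (Fin n) R) L)
  have hQ : ∀ i, F i ∈ Q := fun i => by
    show Ideal.Quotient.mk J (F i) ∈ q
    rw [Ideal.Quotient.eq_zero_iff_mem.2 (Ideal.subset_span (Set.mem_range_self i))]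
    exact zero_mem _
  have := Gor18.isLocalization_atPrime_quotient Q L J q rfl
  have : IsScalarTower R (Synt.RelGCIRing R n c F) (L ⧸ JL) :=
    IsScalarTower.of_algebraMap_eq (R := R) (S := Synt.RelGCIRing R n c F) (A := L ⧸ JL) fun r => rfl
  have : IsLocalRing (L ⧸ JL) := IsLocalization.AtPrime.isLocalRing (L ⧸ JL) q
  let eS : Localization.AtPrime q ≃ₐ[R] L ⧸ JL :=
    (IsLocalization.algEquiv q.primeCompl (Localization.AtPrime q) (L ⧸ JL)).restrictScalars R
  refine Iff.trans ?_ (formallySmooth_iff_minor R n c F h Q hQ (L ⧸ JL) Ideal.Quotient.mk_surjective Ideal.mk_ker)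
  exact ⟨fun h => haveI : Algebra.FormallySmooth R (Localization.AtPrime q) := h
      Algebra.FormallySmooth.of_equiv (A := Localization.AtPrime q) eS,
    fun h => haveI : Algebra.FormallySmooth R (L ⧸ JL) := h
      Algebra.FormallySmooth.of_equiv (A := L ⧸ JL) eS.symm⟩

end Groth.Agent.RelGCI94
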